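/-
Abelian `p`-groups with pairwise distinct invariants.
-/
import Cfsg.Agent.Lib.Fus.SSol

set_option autoImplicit false
set_option linter.unusedSectionVars false

namespace Cfsg.Lib.Fus

open Cfsg Cfsg.FusionSystem Equiv

variable {p : ℕ} [Fact p.Prime]

theorem zmod_exists_smul_succ {e i : ℕ} (h : e ≠ i + 1) {t w : ZMod (p ^ e)} (h1 : p • t = 0) (h2 : t = p ^ i • w) :
    ∃ w', t = p ^ (i + 1) • w' := by
  have hp : p.Prime := Fact.out
  rcases Nat.lt_or_ge i e with he | he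
  · obtain ⟨d, rfl⟩ : ∃ d, e = i + 1 + d + 1 := ⟨e - i - 2, by omega⟩
    obtain ⟨a, rfl⟩ := ZMod.natCast_zmod_surjective t
    rw [nsmul_eq_mul, ← Nat.cast_mul, ZMod.natCast_eq_zero_iff, pow_succ'] at h1
    obtain ⟨b, rfl⟩ := Nat.dvd_of_mul_dvd_mul_left hp.pos h1
    exact ⟨(p ^ d * b : ℕ), by rw [nsmul_eq_mul, ← Nat.cast_mul, ← mul_assoc, ← pow_add]⟩
  · obtain ⟨d, rfl⟩ := Nat.exists_eq_add_of_le he
    refine ⟨0, ?_⟩
    rw [h2, smul_zero, nsmul_eq_mul, pow_add, Nat.cast_mul, ZMod.natCast_self, zero_mul, zero_mul]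

theorem zmod_exists_smul_eq {i : ℕ} {w w' : ZMod (p ^ (i + 1))} (h : p ^ i • w ≠ 0) :
    ∃ m : ℕ, p ^ i • w' = m • p ^ i • w := by
  have hp : p.Prime := Fact.out
  obtain ⟨a, rfl⟩ := ZMod.natCast_zmod_surjective w
  have ha : ¬ p ∣ a := by
    rintro ⟨b, rfl⟩
    refine h ?_
    rw [nsmul_eq_mul, ← Nat.cast_mul, ← mul_assoc, ← pow_succ, Nat.cast_mul, ZMod.natCast_self, zero_mul]
  obtain ⟨u, hu⟩ := (ZMod.isUnit_iff_coprime a (p ^ (i + 1))).mpr
    (Nat.Coprime.pow_right _ ((Nat.Prime.coprime_iff_not_dvd hp).mpr ha).symm)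
  obtain ⟨m, hm⟩ := ZMod.natCast_zmod_surjective (w' * ((u⁻¹ : (ZMod (p ^ (i + 1)))ˣ) : ZMod (p ^ (i + 1))))
  refine ⟨m, ?_⟩
  rw [← hu, nsmul_eq_mul m, hm, nsmul_eq_mul, nsmul_eq_mul, mul_left_comm, mul_assoc, Units.inv_mul, mul_one]

theorem pi_zmod_ulm {ι : Type*} {a : ι → ℕ} (ha : Function.Injective a) (i : ℕ) {u v : (k : ι) → ZMod (p ^ a k)}
    (hu : p • p ^ i • u = 0) (hv : p • p ^ i • v = 0) (h : ¬ ∃ w, p ^ i • u = p ^ (i + 1) • w) :
    ∃ (m : ℕ) (w : (k : ι) → ZMod (p ^ a k)), p ^ i • v = m • p ^ i • u + p ^ (i + 1) • w := by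
  have h1 : ∃ k, ¬ ∃ w, p ^ i • u k = p ^ (i + 1) • w := by
    by_contra hn
    push Not at hn
    choose w hw using hn
    exact h ⟨w, funext hw⟩
  obtain ⟨k, hk⟩ := h1
  have h2 : a k = i + 1 := by
    by_contra hn
    exact hk (zmod_exists_smul_succ hn (congrFun hu k) rfl)
  have h3 : ∃ m : ℕ, p ^ i • v k = m • p ^ i • u k := by
    have h4 : p ^ i • u k ≠ 0 := fun e => hk ⟨0, by rw [e, smul_zero]⟩
    generalize u k = s at h4
    generalize v k = t
    revert s t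
    rw [h2]
    exact fun s hs t => zmod_exists_smul_eq hs
  obtain ⟨m, hm⟩ := h3
  have h4 : ∀ j, ∃ w, p ^ i • v j - m • p ^ i • u j = p ^ (i + 1) • w := fun j => by
    by_cases e : j = k
    · subst e; exact ⟨0, by rw [hm, sub_self, smul_zero]⟩
    · refine zmod_exists_smul_succ (w := v j - m • u j) (fun e' => e (ha (e'.trans h2.symm))) ?_ ?_
      · have e1 : p • p ^ i • u j = 0 := congrFun hu j
        have e2 : p • p ^ i • v j = 0 := congrFun hv j
        rw [smul_sub, smul_comm p m, e1, e2, smul_zero, sub_zero]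
      · rw [smul_sub, smul_comm m]
  choose w hw using h4
  exact ⟨m, w, funext fun j => sub_eq_iff_eq_add'.mp (hw j)⟩

variable {Ω : Type*} [Group Ω] {S : Subgroup Ω} {F : FusionSystem S} [Finite S]

theorem Sat.sSol_of_ulm (hF : Sat p F) (hab : IsMulCommutative S)
    (h : ∀ (i : ℕ) (u v : S), (u ^ p ^ i) ^ p = 1 → (v ^ p ^ i) ^ p = 1 → (¬ ∃ w, u ^ p ^ i = w ^ p ^ (i + 1)) →
      ∃ (m : ℕ) (w : S), v ^ p ^ i = (u ^ p ^ i) ^ m * w ^ p ^ (i + 1)) : SSol F := by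
  have hc : ∀ a ∈ S, ∀ b ∈ S, Commute a b := fun a ha b hb => congrArg Subtype.val (hab.1.1 ⟨a, ha⟩ ⟨b, hb⟩)
  let C : ℕ → ℕ → Subgroup Ω := fun j i =>
    { carrier := {x | x ∈ S ∧ (x ^ p ^ j) ^ p = 1 ∧ ∃ u ∈ S, x ^ p ^ j = u ^ p ^ i}
      one_mem' := ⟨S.one_mem, by simp, 1, S.one_mem, by simp⟩
      mul_mem' := by
        rintro a b ⟨ha, ha', u, hu, e⟩ ⟨hb, hb', v, hv, e'⟩
        refine ⟨S.mul_mem ha hb, ?_, u * v, S.mul_mem hu hv, ?_⟩
        · rw [(hc a ha b hb).mul_pow, (hc _ (S.pow_mem ha _) _ (S.pow_mem hb _)).mul_pow, ha', hb', one_mul]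
        · rw [(hc a ha b hb).mul_pow, (hc u hu v hv).mul_pow, e, e']
      inv_mem' := by
        rintro a ⟨ha, ha', u, hu, e⟩
        exact ⟨S.inv_mem ha, by rw [inv_pow, inv_pow, ha', inv_one], u⁻¹, S.inv_mem hu, by rw [inv_pow, inv_pow, e]⟩ }
  have hsc : ∀ j i, F.StronglyClosed (C j i) := fun j i =>
    sc_of_normal_top (hF.normal_top_of_comm hab) (fun x hx => hx.1) fun τ hτ x ⟨hx, h1, u, hu, e⟩ =>
      ⟨hτ.mem hx, by rw [← hτ.homOn.map_pow hx, ← hτ.homOn.map_pow (S.pow_mem hx _), h1, hτ.homOn.map_one],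
        τ u, hτ.mem hu, by rw [← hτ.homOn.map_pow hx, ← hτ.homOn.map_pow hu, e]⟩
  obtain ⟨N, hN⟩ := exists_pow_eq_one hF.pg
  refine sSol_of_step fun A hA hne => ?_
  obtain ⟨j, hj1, hj2⟩ : ∃ j, (∀ x ∈ S, x ^ p ^ j = 1 → x ∈ A) ∧ ¬ ∀ x ∈ S, x ^ p ^ (j + 1) = 1 → x ∈ A := by
    obtain ⟨j, h1, h2⟩ := Nat.exists_not_and_succ_of_not_zero_of_exists
      (p := fun j => ¬ ∀ x ∈ S, x ^ p ^ j = 1 → x ∈ A)
      (not_not.mpr fun x _ hx => by rw [pow_zero, pow_one] at hx; exact hx ▸ A.one_mem)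
      ⟨N, fun h => hne (le_antisymm hA.1 fun x hx => h x hx (hN x hx))⟩
    exact ⟨j, not_not.mp h1, h2⟩
  obtain ⟨i, hi1, hi2⟩ := Nat.exists_not_and_succ_of_not_zero_of_exists (p := fun i => C j i ≤ A)
    (fun h => hj2 fun x hx hx' => h ⟨hx, by rwa [← pow_mul, ← pow_succ], x ^ p ^ j, S.pow_mem hx _, by rw [pow_zero, pow_one]⟩)
    ⟨N, fun x ⟨hx, _, u, hu, e⟩ => hj1 x hx (e.trans (hN u hu))⟩
  obtain ⟨x, hx, hxA⟩ := SetLike.not_le_iff_exists.mp hi1
  refine ⟨x, hx.1, hxA, ?_⟩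
  have e : A ⊔ Subgroup.zpowers x = A ⊔ C j i := by
    refine le_antisymm (sup_le_sup_left (Subgroup.zpowers_le.mpr hx) _) (sup_le le_sup_left fun y hy => ?_)
    obtain ⟨hxS, hx1, u, hu, eu⟩ := hx
    obtain ⟨hyS, hy1, v, hv, ev⟩ := hy
    obtain ⟨m, w, e⟩ := h i ⟨u, hu⟩ ⟨v, hv⟩ (Subtype.ext (by simpa [eu] using hx1)) (Subtype.ext (by simpa [ev] using hy1))
      fun ⟨w, e⟩ => hxA (hi2 ⟨hxS, hx1, w, w.2, eu.trans (congrArg Subtype.val e)⟩)
    have e' : v ^ p ^ i = (u ^ p ^ i) ^ m * w.1 ^ p ^ (i + 1) := congrArg Subtype.val e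
    have h1 : (x ^ m)⁻¹ * y ∈ C j (i + 1) := by
      have h2 : (x ^ m)⁻¹ * y ∈ C j i := (C j i).mul_mem ((C j i).inv_mem ((C j i).pow_mem ⟨hxS, hx1, u, hu, eu⟩ m))
        ⟨hyS, hy1, v, hv, ev⟩
      refine ⟨h2.1, h2.2.1, w, w.2, ?_⟩
      rw [(hc _ (S.inv_mem (S.pow_mem hxS m)) y hyS).mul_pow, ev, e', ← eu, inv_pow, ← pow_mul, ← pow_mul, mul_comm m,
        inv_mul_cancel_left]
    rw [← mul_inv_cancel_left (x ^ m) y]
    exact Subgroup.mul_mem _ (Subgroup.mem_sup_right (Subgroup.pow_mem _ (Subgroup.mem_zpowers x) m))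
      (Subgroup.mem_sup_left (hi2 h1))
  rw [e]
  exact hF.sc_sup hA (hsc j i)

theorem Sat.sSol_of_equiv (hF : Sat p F) {ι : Type*} {a : ι → ℕ} (ha : Function.Injective a)
    (e : S ≃* Multiplicative ((k : ι) → ZMod (p ^ a k))) : SSol F := by
  refine hF.sSol_of_ulm ⟨⟨fun x y => e.injective (by rw [map_mul, map_mul, mul_comm])⟩⟩ fun i u v hu hv h => ?_
  have key : ∀ u : S, (u ^ p ^ i) ^ p = 1 → p • p ^ i • (e u).toAdd = 0 := fun u hu => by
    rw [← toAdd_pow, ← toAdd_pow, ← map_pow, ← map_pow, hu, map_one, toAdd_one]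
  obtain ⟨m, w, hw⟩ := pi_zmod_ulm ha i (key u hu) (key v hv) fun ⟨w, hw⟩ => h ⟨e.symm (Multiplicative.ofAdd w),
    e.injective (by rw [map_pow, map_pow, MulEquiv.apply_symm_apply]; exact congrArg Multiplicative.ofAdd hw)⟩
  refine ⟨m, e.symm (Multiplicative.ofAdd w), e.injective ?_⟩
  rw [map_mul, map_pow, map_pow, map_pow, map_pow, MulEquiv.apply_symm_apply]
  exact congrArg Multiplicative.ofAdd hw

theorem exists_equiv_pi_zmod {G : Type*} [Group G] [Finite G] (hG : IsPGroup p G) (hab : IsMulCommutative G) :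
    ∃ (ι : Type) (_ : Fintype ι) (a : ι → ℕ), (∀ k, 0 < a k) ∧
      Nonempty (G ≃* Multiplicative ((k : ι) → ZMod (p ^ a k))) := by
  classical
  letI : CommGroup G := { (inferInstance : Group G) with mul_comm := hab.1.1 }
  obtain ⟨ι, _, n, hn, ⟨e⟩⟩ := CommGroup.equiv_prod_multiplicative_zmod_of_finite G
  have h : ∀ k, ∃ a, n k = p ^ a := fun k => by
    obtain ⟨j, hj⟩ := (hG.of_equiv e) (Pi.mulSingle k (Multiplicative.ofAdd 1))
    have h1 := congrFun hj k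
    rw [Pi.pow_apply, Pi.mulSingle_eq_same, ← ofAdd_nsmul, nsmul_eq_mul, mul_one] at h1
    obtain ⟨a, -, ha⟩ := (Nat.dvd_prime_pow Fact.out).mp ((ZMod.natCast_eq_zero_iff _ _).mp h1)
    exact ⟨a, ha⟩
  choose a ha using h
  obtain rfl : n = fun k => p ^ a k := funext ha
  exact ⟨ι, inferInstance, a, fun k => Nat.pos_of_ne_zero fun h => by simpa [h] using hn k,
    ⟨e.trans (MulEquiv.piMultiplicative _).symm⟩⟩

theorem exists_equiv_split {ι : Type} {a : ι → ℕ} {i j : ι} (hij : i ≠ j) (h : a i = a j) :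
    ∃ (H : Type) (_ : CommGroup H), Nonempty (Multiplicative ((k : ι) → ZMod (p ^ a k)) ≃*
      (Multiplicative (ZMod (p ^ a i)) × Multiplicative (ZMod (p ^ a i))) × H) := by
  classical
  let c : ZMod (p ^ a j) ≃+ ZMod (p ^ a i) := (ZMod.ringEquivCongr (by rw [h])).toAddEquiv
  let f : Multiplicative ((k : ι) → ZMod (p ^ a k)) →*
      (Multiplicative (ZMod (p ^ a i)) × Multiplicative (ZMod (p ^ a i))) ×
        Multiplicative ((k : {k // k ≠ i ∧ k ≠ j}) → ZMod (p ^ a k)) :=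
    { toFun := fun x => ((Multiplicative.ofAdd (x.toAdd i), Multiplicative.ofAdd (c (x.toAdd j))),
        Multiplicative.ofAdd fun k => x.toAdd k)
      map_one' := by simp; rfl
      map_mul' := fun x y => by simp; rfl }
  refine ⟨_, inferInstance, ⟨MulEquiv.ofBijective f ⟨fun x y e => ?_, fun z => ?_⟩⟩⟩
  · refine Multiplicative.toAdd.injective (funext fun k => ?_)
    by_cases h1 : k = i
    · subst h1; exact congrArg (fun z => z.1.1.toAdd) e
    by_cases h2 : k = j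
    · subst h2; exact c.injective (congrArg (fun z => z.1.2.toAdd) e)
    exact congrArg (fun z => z.2.toAdd ⟨k, h1, h2⟩) e
  · refine ⟨Multiplicative.ofAdd (Function.update (Function.update
      (fun k => if h : k ≠ i ∧ k ≠ j then z.2.toAdd ⟨k, h⟩ else 0) i z.1.1.toAdd) j (c.symm z.1.2.toAdd)), ?_⟩
    refine Prod.ext (Prod.ext ?_ ?_) (Multiplicative.toAdd.injective (funext fun k => ?_))
    · simp [f, hij]
    · simp [f]
    · simp [f, k.2.1, k.2.2]

theorem not_small_of_square {G M H : Type*} [Group G] [Finite G] [CommGroup M] [CommGroup H]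
    (e : G ≃* (M × M) × H) {g : M} (hg : g ≠ 1) (hg2 : p ≠ 2 → g ≠ g⁻¹) :
    ¬ ∀ K : Subgroup (MulAut G), (Nat.card K).Coprime p → IsMulCommutative K ∧ ∀ h ∈ K, h ^ (p - 1) = 1 := by
  intro h
  have hp : p.Prime := Fact.out
  haveI : Finite (MulAut G) := Finite.of_injective (fun a : MulAut G => (a : G → G)) DFunLike.coe_injective
  let c := (MulAut.congr e).symm
  by_cases h2 : p = 2
  · let α : MulAut ((M × M) × H) :=
      { toFun := fun x => ((x.1.2, (x.1.1 * x.1.2)⁻¹), x.2)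
        invFun := fun x => (((x.1.1 * x.1.2)⁻¹, x.1.1), x.2)
        left_inv := fun x => by simp
        right_inv := fun x => by simp [mul_comm]
        map_mul' := fun x y => by simp [mul_assoc, mul_comm, mul_left_comm] }
    have h3 : α ^ 3 = 1 := MulEquiv.ext fun x => by simp [pow_succ, α, mul_comm]
    have h4 := (h (Subgroup.zpowers (c α)) (by
      rw [Nat.card_zpowers, h2]
      exact Nat.Coprime.coprime_dvd_left (orderOf_dvd_of_pow_eq_one (by rw [← map_pow, h3, map_one]))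
        (by norm_num))).2 _ (Subgroup.mem_zpowers _)
    rw [show p - 1 = 1 by omega, pow_one, map_eq_one_iff _ c.injective] at h4
    exact hg (congrArg (fun β : MulAut ((M × M) × H) => (β ((g, 1), 1)).1.1) h4).symm
  · let w : MulAut ((M × M) × H) :=
      { toFun := fun x => ((x.1.2⁻¹, x.1.1), x.2)
        invFun := fun x => ((x.1.2, x.1.1⁻¹), x.2)
        left_inv := fun x => by simp
        right_inv := fun x => by simp
        map_mul' := fun x y => by simp [mul_comm] }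
    let a : MulAut ((M × M) × H) :=
      { toFun := fun x => ((x.1.2, x.1.1), x.2)
        invFun := fun x => ((x.1.2, x.1.1), x.2)
        left_inv := fun x => by simp
        right_inv := fun x => by simp
        map_mul' := fun x y => by simp }
    have hw : w ^ 2 ^ 2 = 1 := MulEquiv.ext fun x => by simp [pow_succ, w]
    have ha : a ^ 2 ^ 1 = 1 := MulEquiv.ext fun x => by simp [pow_succ, a]
    have haw : a * w * a⁻¹ = w⁻¹ := MulEquiv.ext fun x => rfl
    have hpg : ∀ (x : MulAut G) (k : ℕ), x ^ 2 ^ k = 1 → IsPGroup 2 (Subgroup.zpowers x) := fun x k hx ⟨y, m, hy⟩ =>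
      ⟨k, Subtype.ext (by
        subst hy
        show (x ^ m) ^ 2 ^ k = 1
        rw [← zpow_natCast, ← zpow_mul, mul_comm, zpow_mul, zpow_natCast, hx, one_zpow])⟩
    have h3 : IsPGroup 2 (Subgroup.zpowers (c w) ⊔ Subgroup.zpowers (c a) : Subgroup (MulAut G)) :=
      (hpg _ 2 (by rw [← map_pow, hw, map_one])).to_sup_of_normal_left' (hpg _ 1 (by rw [← map_pow, ha, map_one]))
        (Subgroup.zpowers_le.mpr (mem_normalizer_of_conj_mem_finite (by
          rintro _ ⟨m, rfl⟩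
          rw [← conj_zpow, ← map_inv, ← map_mul, ← map_mul, haw, map_inv]
          exact Subgroup.zpow_mem _ (Subgroup.inv_mem _ (Subgroup.mem_zpowers _)) m)))
    haveI : Fact (Nat.Prime 2) := ⟨Nat.prime_two⟩
    obtain ⟨k, hk⟩ := IsPGroup.iff_card.mp h3
    have h4 := (h _ (hk ▸ ((Nat.coprime_primes Nat.prime_two hp).mpr (Ne.symm h2)).pow_left k)).1.1.1
      ⟨c a, Subgroup.mem_sup_right (Subgroup.mem_zpowers _)⟩ ⟨c w, Subgroup.mem_sup_left (Subgroup.mem_zpowers _)⟩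
    have h5 : a * w = w * a := c.injective (by rw [map_mul, map_mul]; exact congrArg Subtype.val h4)
    exact hg2 h2 (congrArg (fun β : MulAut ((M × M) × H) => (β ((g, 1), 1)).1.1) h5)

theorem not_small_of_repeated {G : Type*} [Group G] [Finite G] {n : ℕ} (hn : 0 < n) {H : Type*} [CommGroup H]
    (e : G ≃* (Multiplicative (ZMod (p ^ n)) × Multiplicative (ZMod (p ^ n))) × H) :
    ¬ ∀ K : Subgroup (MulAut G), (Nat.card K).Coprime p → IsMulCommutative K ∧ ∀ h ∈ K, h ^ (p - 1) = 1 := by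
  have hp : p.Prime := Fact.out
  haveI : Fact (1 < p ^ n) := ⟨Nat.one_lt_pow hn.ne' hp.one_lt⟩
  refine not_small_of_square e (g := Multiplicative.ofAdd 1)
    (fun h => one_ne_zero (α := ZMod (p ^ n)) (congrArg Multiplicative.toAdd h)) fun h2 h6 => ?_
  have h7 : ((2 : ℕ) : ZMod (p ^ n)) = 0 := by
    have : (1 : ZMod (p ^ n)) = -1 := congrArg Multiplicative.toAdd h6
    rw [Nat.cast_ofNat]; linear_combination this
  exact h2 ((Nat.prime_dvd_prime_iff_eq hp Nat.prime_two).mp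
    ((dvd_pow_self p hn.ne').trans ((ZMod.natCast_eq_zero_iff _ _).mp h7)))

theorem SSol.inner {F : FusionSystem S} (h : SSol F) (hF : Sat 2 F) {P : Subgroup Ω} {σ : Perm Ω} (hσ : Mor F P σ) :
    ∃ g ∈ S, ∀ x ∈ P, σ x = g * x * g⁻¹ := by
  obtain ⟨-, N, hN⟩ := h.mem_opP hF.pg le_rfl
  refine hF.inner_of (hF.autP_top_le_of_pMod ((pMod_opP 2 F S).trans fun τ hτ => ⟨N, ?_⟩))
    (fun R => hF.not_essential_of_normal_top (h.normal_top hF)) hσ
  simpa using hN τ hτ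

end Cfsg.Lib.Fus
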