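/-
A criterion for the simplicity of the fusion system of a finite group, stable under central `p'`-quotients.
-/
import Cfsg.Agent.Lib.Fus3.SimpleCrit
import Cfsg.Agent.Lib.Fus2.Real

set_option autoImplicit false
set_option linter.unusedSectionVars false

namespace Cfsg.Lib.Fus

open Cfsg Cfsg.FusionSystem Equiv Subgroup Cfsg.Lib.Amalg

variable {G G' Γ : Type*} [Group G] [Group G'] [Group Γ] {p : ℕ} [hp : Fact p.Prime]

/-- The subgroup generated by the `p`-elements of `H` normalizing `R`. -/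
def pGen (p : ℕ) (H R : Subgroup Γ) : Subgroup Γ :=
  closure {g | g ∈ H ∧ g ∈ normalizer (R : Set Γ) ∧ ∃ k : ℕ, g ^ p ^ k = 1}

omit hp in
theorem mem_pGen {H R : Subgroup Γ} {g : Γ} (h1 : g ∈ H) (h2 : g ∈ normalizer (R : Set Γ)) (h3 : ∃ k : ℕ, g ^ p ^ k = 1) :
    g ∈ pGen p H R := subset_closure ⟨h1, h2, h3⟩

omit hp in
theorem pGen_le (p : ℕ) (H R : Subgroup Γ) : pGen p H R ≤ H := (closure_le _).mpr fun _ h => h.1

/-- The data making the fusion system of `H` on `S` simple. -/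
structure SimpleData (p : ℕ) (H S : Subgroup Γ) : Prop where
  ne : S ≠ ⊥
  sc : ∀ T, SCl H S T → T ≠ ⊥ → S ≤ T
  gen : ∀ M : Subgroup Γ, H ⊓ centralizer (S : Set Γ) ≤ M → (∀ R, R ≤ S → S ≤ normalizer (R : Set Γ) →
    S ⊓ centralizer (R : Set Γ) ≤ R → pGen p H R ⊓ normalizer (S : Set Γ) ≤ M) → H ⊓ normalizer (S : Set Γ) ≤ M

theorem SimpleData.simple {H : Subgroup Γ} [Finite H] (S : Sylow p H)
    (h : SimpleData p H ((S : Subgroup H).map H.subtype)) : (groupFusionSystem (S : Subgroup H)).IsSimple p := by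
  have hm : ∀ g : H, (g : Γ) ∈ (S : Subgroup H).map H.subtype ↔ g ∈ (S : Subgroup H) := fun g =>
    mem_map_iff_mem H.subtype_injective
  have hle := map_subtype_le (S : Subgroup H)
  have hfin : Finite ((S : Subgroup H).map H.subtype) := finite_of_le hle
  have hn : ∀ g : H, (g : Γ) ∈ normalizer (((S : Subgroup H).map H.subtype : Subgroup Γ) : Set Γ) ↔
      g ∈ normalizer ((S : Subgroup H) : Set H) := fun g => ⟨fun hg => mem_normalizer_of_conj_mem_finite fun x hx =>
    (hm _).mp (conj_mem_of_mem_normalizer hg ((hm x).mpr hx)), fun hg => mem_normalizer_of_conj_mem_finite (by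
      rintro _ ⟨x, hx, rfl⟩
      exact (hm (g * x * g⁻¹)).mpr (conj_mem_of_mem_normalizer hg hx))⟩
  refine (sat_group S).simple_of (fun e => h.ne (by rw [e, Subgroup.map_bot])) (fun T hT => ?_) fun E hE α hα => ?_
  · refine (eq_or_ne T ⊥).imp_right fun h0 => le_antisymm hT.1 ?_
    refine (map_le_map_iff_of_injective H.subtype_injective).mp (h.sc _ ⟨map_mono hT.1, ?_⟩ fun e =>
      h0 ((map_eq_bot_iff_of_injective _ H.subtype_injective).mp e))
    rintro _ ⟨x, hx, rfl⟩ g hg h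
    exact mem_map_of_mem H.subtype (sc_group_conj hT hx (g := ⟨g, hg⟩) ((hm _).mp h))
  obtain ⟨-, h2, g, hg⟩ := mor_group_iff.mp hα.mor
  have hgn : g ∈ normalizer ((S : Subgroup H) : Set H) :=
    mem_normalizer_of_conj_mem_finite fun x hx => hg x hx ▸ h2 x hx
  suffices hs : H ⊓ normalizer (((S : Subgroup H).map H.subtype : Subgroup Γ) : Set Γ) ≤
      ((autP E S).comap Fus.cj).map H.subtype by
    obtain ⟨k, hk, e⟩ := hs (mem_inf.mpr ⟨g.2, (hn g).mpr hgn⟩)
    rw [show k = g from Subtype.ext e] at hk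
    exact ((mem_autP le_rfl).mp hk).mor.congr hg
  refine h.gen _ (fun c hc => ⟨⟨c, hc.1⟩, fixP_le_autP E S (cj_mem_fixP.mpr fun x hx =>
    Subtype.ext (hc.2 x ((hm x).mpr hx))), rfl⟩) fun R h1 h2 h3 a ha => ?_
  have hR : R.subgroupOf H ≤ S := fun x hx => (hm x).mp (h1 hx)
  have hc : (groupFusionSystem (S : Subgroup H)).IsCentric (R.subgroupOf H) := centric_of_fc
    ((sat_group S).fc_of_fn (isFullyNormalized_of_normal _ hR (le_normalizer_of_conj_mem fun s hs x hx =>
      conj_mem_of_mem_normalizer (P := R) (h2 ((hm s).mpr hs)) hx))) fun s hs =>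
    h3 ⟨(hm s).mpr hs.1, fun x hx => congrArg Subtype.val (hs.2 ⟨x, hle (h1 hx)⟩ hx)⟩
  have h4 : pGen p H R ≤ (closure {g : H | g ∈ normalizer (R.subgroupOf H : Set H) ∧ ∃ k : ℕ, g ^ p ^ k = 1}).map
      H.subtype := (closure_le _).mpr fun b ⟨b1, b2, k, b3⟩ => ⟨⟨b, b1⟩, subset_closure ⟨Fus.mem_normalizer_of_conj_mem
    (fun x hx => conj_mem_of_mem_normalizer (P := R) b2 hx) fun x hx => inv_conj_mem_of_mem_normalizer (P := R) b2 hx,
    k, Subtype.ext b3⟩, rfl⟩
  obtain ⟨b, hb, rfl⟩ := h4 ha.1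
  exact ⟨b, (hE.mor_cj_of_closure hc hb hR le_rfl fun x hx =>
    conj_mem_of_mem_normalizer ((hn b).mp ha.2) hx).iso_top.mem_autP, rfl⟩

theorem simple_of_surjective [Finite G] (π : G →* G') (hπ : Function.Surjective π) (hk : ¬ p ∣ Nat.card π.ker)
    (h : ∀ S : Sylow p G, (groupFusionSystem (S : Subgroup G)).IsSimple p) (S' : Sylow p G') :
    (groupFusionSystem (S' : Subgroup G')).IsSimple p := by
  obtain ⟨S, rfl⟩ := Sylow.mapSurjective_surjective hπ p S'
  obtain ⟨I, -, -, hI⟩ := Fus2.exists_fIso_of_surjective (syl_top S) π hπ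
    (isPGroup_eq_bot_of_not_dvd S.isPGroup'.to_inf_left inf_le_right hk)
  exact hI.isSimple (h S)

theorem simple_of_data {H : Subgroup Γ} [Finite H] (π : H →* G) (hπ : Function.Surjective π) (hk : ¬ p ∣ Nat.card π.ker)
    (h : ∀ S, Syl p S H → SimpleData p H S) (S : Sylow p G) : (groupFusionSystem (S : Subgroup G)).IsSimple p :=
  simple_of_surjective π hπ hk (fun S => (h _ (syl_of_sylow S)).simple S) S

end Cfsg.Lib.Fus
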