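/-
A second criterion for the simplicity of the fusion system of a finite group.
-/
import Cfsg.Agent.Lib.Fus.SimpleG

set_option autoImplicit false
set_option linter.unusedSectionVars false

namespace Cfsg.Lib.Fus

open Cfsg Cfsg.FusionSystem Equiv Subgroup Cfsg.Lib.Amalg

variable {G Γ : Type*} [Group G] [Group Γ] {p : ℕ} [hp : Fact p.Prime]

omit hp in
theorem centric_group_of_le {S R : Subgroup G} (hR : R ≤ S) (h : centralizer (R : Set G) ≤ R) :
    (groupFusionSystem S).IsCentric R := by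
  refine ⟨hR, fun Q hQ s hs => ?_⟩
  obtain ⟨-, -, a, rfl⟩ := Fus2.isConj_group_iff.mp hQ
  refine ⟨a⁻¹ * s * a, h fun x hx => ?_, by simp [mul_assoc]⟩
  have := hs.2 (a * x * a⁻¹) ⟨x, hx, rfl⟩
  calc x * (a⁻¹ * s * a) = a⁻¹ * (a * x * a⁻¹ * s) * a := by group
    _ = a⁻¹ * s * a * x := by rw [this]; group

theorem simple_group_of [Finite G] (S : Sylow p G) (h1 : (S : Subgroup G) ≠ ⊥)
    (h2 : ∀ T, SCl ⊤ (S : Subgroup G) T → T ≠ ⊥ → (S : Subgroup G) ≤ T) {A : Subgroup G} (hA : A ≤ S)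
    (hc : centralizer (A : Set G) ≤ A) (h3 : ∀ M : Subgroup G, (∀ R : Subgroup G, R ≤ S → centralizer (R : Set G) ≤ R →
      pGen p ⊤ R ⊓ normalizer (A : Set G) ≤ M) → normalizer ((S : Subgroup G) : Set G) ≤ M) :
    (groupFusionSystem (S : Subgroup G)).IsSimple p := by
  refine (sat_group S).simple_of h1 (fun T hT => (eq_or_ne T ⊥).imp_right fun h0 => le_antisymm hT.1
    (h2 T ⟨hT.1, fun x hx g _ h => sc_group_conj hT hx h⟩ h0)) fun E hE α hα => ?_
  obtain ⟨-, h4, g, hg⟩ := mor_group_iff.mp hα.mor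
  refine hE.satF.mor_of_centric hE.satE hE.sub hα.mor (centric_group_of_le hA hc) hA
    (((mem_autP hA).mp (h3 ((autP E A).comap Fus.cj) (fun R a1 a2 b ⟨b1, b2⟩ => ?_)
      (mem_normalizer_of_conj_mem_finite fun x hx => hg x hx ▸ h4 x hx))).mor.congr fun x hx => hg x (hA hx))
  have b3 : b ∈ closure {g : G | g ∈ normalizer (R : Set G) ∧ ∃ k : ℕ, g ^ p ^ k = 1} :=
    closure_mono (fun x hx => hx.2) b1
  have b4 : b ∈ normalizer (R : Set G) := (closure_le _).mpr (fun x hx => hx.1) b3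
  refine Iso.mem_autP ⟨(hE.mor_cj_of_closure (centric_group_of_le a1 a2) b3 le_sup_left (sup_le a1 hA) fun x hx =>
    (sup_le (b := A) (c := (S : Subgroup G).comap (MulAut.conj b).toMonoidHom)
      (fun y hy => a1 (conj_mem_of_mem_normalizer b4 hy)) fun y hy => hA (conj_mem_of_mem_normalizer b2 hy)) hx).mono
    le_sup_right, (mem_autAll.mp (cj_mem_autAll b2)).2⟩

theorem simple_of_data₂ {H U A : Subgroup Γ} [Finite H] (e : H ≃* G) (hU : Syl p U H) (h1 : U ≠ ⊥)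
    (h2 : ∀ T, SCl H U T → T ≠ ⊥ → U ≤ T) (hA : A ≤ U) (hc : H ⊓ centralizer (A : Set Γ) ≤ A)
    (h3 : ∀ M : Subgroup Γ, (∀ R, R ≤ U → H ⊓ centralizer (R : Set Γ) ≤ R →
      pGen p H R ⊓ normalizer (A : Set Γ) ≤ M) → H ⊓ normalizer (U : Set Γ) ≤ M) (S : Sylow p G) :
    (groupFusionSystem (S : Subgroup G)).IsSimple p := by
  have := Finite.of_equiv _ e.toEquiv
  obtain ⟨g, rfl⟩ := MulAction.exists_smul_eq G (hU.toSylow.mapSurjective (f := e.toMonoidHom) e.surjective) S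
  refine (Fus2.fIso_group_equiv (MulAut.conj g) _).isSimple ((Fus2.fIso_group_equiv e _).isSimple ?_)
  have hn : ∀ {R : Subgroup Γ} {g : H}, R ≤ H → (g : Γ) ∈ normalizer (R : Set Γ) →
      g ∈ normalizer (R.subgroupOf H : Set H) := fun {R _} _ hg => mem_normalizer_of_conj_mem_finite fun x hx =>
    conj_mem_of_mem_normalizer (P := R) hg hx
  have hz : ∀ {R : Subgroup Γ}, R ≤ H → H ⊓ centralizer (R : Set Γ) ≤ R → centralizer (R.subgroupOf H : Set H) ≤
      R.subgroupOf H := fun h1 h2 s hs => h2 ⟨s.2, fun x hx => congrArg Subtype.val (hs ⟨x, h1 hx⟩ hx)⟩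
  refine simple_group_of hU.toSylow (fun e => h1 (by rw [← hU.map_toSylow, e, Subgroup.map_bot])) (fun T hT h0 => ?_)
    (A := A.subgroupOf H) (fun x hx => hA hx) (hz (hA.trans hU.le) hc) fun M hM x hx => ?_
  · refine (map_le_map_iff_of_injective H.subtype_injective).mp (hU.map_toSylow.le.trans (h2 _ ⟨?_, ?_⟩ fun e =>
      h0 ((map_eq_bot_iff_of_injective _ H.subtype_injective).mp e)))
    · rintro _ ⟨x, hx, rfl⟩
      exact hT.1 hx
    · rintro _ ⟨x, hx, rfl⟩ g hg h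
      exact mem_map_of_mem H.subtype (hT.2 x hx ⟨g, hg⟩ (mem_top _) h)
  refine (mem_map_iff_mem H.subtype_injective).mp (h3 (M.map H.subtype) (fun R a1 a2 b ⟨b1, b2⟩ => ?_)
    ⟨x.2, ?_⟩)
  · have h4 : pGen p H R ≤ (pGen p ⊤ (R.subgroupOf H)).map H.subtype := (closure_le _).mpr fun b ⟨c1, c2, k, c3⟩ =>
      ⟨⟨b, c1⟩, mem_pGen (mem_top _) (hn (a1.trans hU.le) c2) ⟨k, Subtype.ext c3⟩, rfl⟩
    obtain ⟨b, hb, rfl⟩ := h4 b1
    exact mem_map_of_mem H.subtype (hM (R.subgroupOf H) (fun x hx => a1 hx) (hz (a1.trans hU.le) a2)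
      ⟨hb, hn (hA.trans hU.le) b2⟩)
  · have := hU.finite
    exact mem_normalizer_of_conj_mem_finite fun y hy => conj_mem_of_mem_normalizer (P := U.subgroupOf H) hx (x := ⟨y, hU.le hy⟩) hy

end Cfsg.Lib.Fus
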