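/-
Sylow subgroups of symmetric groups as wreath products.
-/
import Cfsg.Agent.Lib.Fus.SimpleG2

set_option autoImplicit false
set_option linter.unusedSectionVars false

namespace Cfsg.Lib.Fus

open Cfsg Equiv Equiv.Perm Subgroup Sum
open Cfsg.Lib.Amalg (Syl exists_syl)

variable {ι ρ : Type} [Fintype ι] [DecidableEq ι] [Fintype ρ] [DecidableEq ρ] {p : ℕ} [hp : Fact p.Prime]

/-- Blocks of size `p` and some further points. -/
abbrev BPt (ι ρ : Type) (p : ℕ) : Type := (ι × ZMod p) ⊕ ρ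

variable (ρ) in
/-- Permutations permuting the blocks and acting on them by affine maps. -/
def baff (σ : Perm ι) (l : ι → (ZMod p)ˣ) (μ : ι → ZMod p) : Perm (BPt ι ρ p) :=
  Perm.sumCongr (prodShear σ fun i => (l i).mulLeft.trans (Equiv.addRight (μ i))) 1

@[simp] theorem baff_inl (σ : Perm ι) (l : ι → (ZMod p)ˣ) (μ : ι → ZMod p) (i : ι) (x : ZMod p) :
    baff ρ σ l μ (inl (i, x)) = inl (σ i, l i * x + μ i) := rfl

@[simp] theorem baff_inr (σ : Perm ι) (l : ι → (ZMod p)ˣ) (μ : ι → ZMod p) (r : ρ) : baff ρ σ l μ (inr r) = inr r := rfl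

theorem bpt_ext {g h : Perm (BPt ι ρ p)} (h1 : ∀ i x, g (inl (i, x)) = h (inl (i, x))) (h2 : ∀ r, g (inr r) = h (inr r)) :
    g = h := Equiv.ext fun | inl (i, x) => h1 i x | inr r => h2 r

theorem baff_mul (σ σ' : Perm ι) (l l' : ι → (ZMod p)ˣ) (μ μ' : ι → ZMod p) : baff ρ σ l μ * baff ρ σ' l' μ' =
    baff ρ (σ * σ') (fun i => l (σ' i) * l' i) fun i => l (σ' i) * μ' i + μ (σ' i) :=
  bpt_ext (fun i x => by simp [mul_add, mul_assoc, add_assoc]) fun _ => rfl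

theorem baff_one : baff ρ (1 : Perm ι) (1 : ι → (ZMod p)ˣ) 0 = 1 := bpt_ext (by simp) fun _ => rfl

theorem baff_inj {σ σ' : Perm ι} {l l' : ι → (ZMod p)ˣ} {μ μ' : ι → ZMod p} (h : baff ρ σ l μ = baff ρ σ' l' μ') :
    σ = σ' ∧ μ = μ' := by
  have := fun i => congrArg (· (inl (i, 0))) h
  simp only [baff_inl, mul_zero, zero_add, inl.injEq, Prod.mk.injEq] at this
  exact ⟨Equiv.ext fun i => (this i).1, funext fun i => (this i).2⟩

variable (ρ p) in
/-- Permutations of the blocks. -/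
def bphi : Perm ι →* Perm (BPt ι ρ p) :=
  MonoidHom.mk' (fun σ => baff ρ σ 1 0) fun _ _ => bpt_ext (by simp) fun _ => rfl

variable (ρ) in
/-- Translations. -/
def btr : Multiplicative (ι → ZMod p) →* Perm (BPt ι ρ p) :=
  MonoidHom.mk' (fun μ => baff ρ 1 1 μ.toAdd) fun _ _ => bpt_ext (fun _ _ => by simp; ring) fun _ => rfl

variable (ρ) in
/-- Dilations. -/
def bdg : (ι → (ZMod p)ˣ) →* Perm (BPt ι ρ p) :=
  MonoidHom.mk' (fun l => baff ρ 1 l 0) fun _ _ => bpt_ext (by simp [mul_assoc]) fun _ => rfl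

theorem bphi_apply (σ : Perm ι) : bphi ρ p σ = baff ρ σ 1 0 := rfl
theorem btr_apply (μ : ι → ZMod p) : btr ρ (Multiplicative.ofAdd μ) = baff ρ 1 1 μ := rfl
theorem bdg_apply (l : ι → (ZMod p)ˣ) : bdg ρ l = baff ρ 1 l 0 := rfl

theorem btr_add (μ ν : ι → ZMod p) : baff ρ 1 1 (μ + ν) = baff ρ 1 1 μ * baff ρ 1 1 ν :=
  (btr ρ).map_mul (.ofAdd μ) (.ofAdd ν)

theorem btr_sub (μ ν : ι → ZMod p) : baff ρ 1 1 (μ - ν) = baff ρ 1 1 μ * (baff ρ 1 1 ν)⁻¹ :=
  (map_div (btr ρ) (Multiplicative.ofAdd μ) (Multiplicative.ofAdd ν)).trans (div_eq_mul_inv _ _)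

theorem btr_pow (μ : ι → ZMod p) : baff ρ 1 1 μ ^ p = 1 := by
  rw [← btr_apply, ← map_pow, ← ofAdd_nsmul, show p • μ = 0 from funext fun i => by simp, ofAdd_zero, map_one]

theorem baff_conj_btr (σ : Perm ι) (l : ι → (ZMod p)ˣ) (μ ν : ι → ZMod p) :
    baff ρ σ l μ * baff ρ 1 1 ν * (baff ρ σ l μ)⁻¹ = baff ρ 1 1 fun i => (l (σ⁻¹ i) : ZMod p) * ν (σ⁻¹ i) := by
  rw [mul_inv_eq_iff_eq_mul]
  exact bpt_ext (fun i x => by simp; ring) fun _ => rfl

theorem baff_eq (σ : Perm ι) (μ : ι → ZMod p) : baff ρ σ 1 μ = bphi ρ p σ * baff ρ 1 1 μ :=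
  bpt_ext (by simp [bphi_apply]) fun _ => rfl

theorem sign_bphi (σ : Perm ι) : sign (bphi ρ p σ) = sign σ ^ p := by
  have : bphi ρ p σ = Perm.sumCongr (prodCongrLeft fun _ => σ) 1 := bpt_ext (by simp [bphi_apply]) fun _ => rfl
  simp [this, sign_sumCongr, sign_prodCongrLeft, ZMod.card]

theorem card_support_baff (σ : Perm ι) (μ : ι → ZMod p) :
    (baff ρ σ 1 μ).support.card = p * (Finset.univ.filter fun i => σ i ≠ i ∨ μ i ≠ 0).card := by
  have : (baff ρ σ 1 μ).support = ((Finset.univ.filter fun i => σ i ≠ i ∨ μ i ≠ 0) ×ˢ Finset.univ).map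
      Function.Embedding.inl := by
    ext (⟨i, x⟩ | r) <;> simp [imp_iff_not_or]
  rw [this, Finset.card_map, Finset.card_product, Finset.card_univ, ZMod.card, mul_comm]

variable (ρ p) in
/-- The wreath product `C_p ≀ Q`. -/
def bwr (Q : Subgroup (Perm ι)) : Subgroup (Perm (BPt ι ρ p)) where
  carrier := {g | ∃ σ ∈ Q, ∃ μ, g = baff ρ σ 1 μ}
  one_mem' := ⟨1, one_mem Q, 0, baff_one.symm⟩
  mul_mem' := by
    rintro _ _ ⟨σ, h, μ, rfl⟩ ⟨σ', h', μ', rfl⟩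
    exact ⟨_, mul_mem h h', _, (baff_mul ..).trans (by simp only [Pi.one_apply, mul_one]; rfl)⟩
  inv_mem' := by
    rintro _ ⟨σ, h, μ, rfl⟩
    exact ⟨_, inv_mem h, fun i => -μ (σ⁻¹ i), inv_eq_of_mul_eq_one_left (bpt_ext (by simp) fun _ => rfl)⟩

theorem baff_mem_bwr {Q : Subgroup (Perm ι)} {σ : Perm ι} (h : σ ∈ Q) (μ : ι → ZMod p) : baff ρ σ 1 μ ∈ bwr ρ p Q :=
  ⟨σ, h, μ, rfl⟩

theorem mem_bwr_bot {g : Perm (BPt ι ρ p)} : g ∈ bwr ρ p ⊥ ↔ ∃ μ, g = baff ρ 1 1 μ := by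
  simp [bwr, ← SetLike.mem_coe]

theorem card_bwr (Q : Subgroup (Perm ι)) : Nat.card (bwr ρ p Q) = Nat.card Q * p ^ Fintype.card ι := by
  rw [← Nat.card_congr (Equiv.ofBijective (fun x : Q × (ι → ZMod p) => (⟨_, baff_mem_bwr x.1.2 x.2⟩ : bwr ρ p Q))
    ⟨fun x y h => Prod.ext (Subtype.ext (baff_inj (congrArg Subtype.val h)).1) (baff_inj (congrArg Subtype.val h)).2,
      fun ⟨_, σ, h, μ, rfl⟩ => ⟨(⟨σ, h⟩, μ), rfl⟩⟩)]
  simp [ZMod.card]

theorem syl_bwr (hρ : Fintype.card ρ < p) {Q : Subgroup (Perm ι)} (hQ : Syl p Q ⊤) : Syl p (bwr ρ p Q) ⊤ := by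
  obtain ⟨T, hT⟩ := exists_syl p (⊤ : Subgroup (Perm (BPt ι ρ p)))
  have h := card_bwr (ρ := ρ) (p := p) Q
  rw [hQ.card_eq_pow, ← pow_add] at h
  refine hT.of_card_ge (IsPGroup.of_card h) le_top (le_of_eq ?_)
  rw [h, hT.card_eq_pow, card_top, card_top, Nat.card_perm, Nat.card_perm, Nat.factorization_def _ hp.out,
    Nat.factorization_def _ hp.out, Nat.card_eq_fintype_card, Fintype.card_sum, Fintype.card_prod, ZMod.card, mul_comm,
    padicValNat_factorial_mul_add _ hρ, padicValNat_factorial_mul, Nat.card_eq_fintype_card]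

/-- `P` is generated by its elements of order `p`. -/
def OGen {G : Type*} [Group G] (p : ℕ) (P : Subgroup G) : Prop := P ≤ closure {x | x ∈ P ∧ x ^ p = 1}

theorem OGen.map {G G' : Type*} [Group G] [Group G'] {P : Subgroup G} (h : OGen p P) (f : G →* G') : OGen p (P.map f) :=
  map_le_iff_le_comap.mpr (h.trans ((closure_le _).mpr fun x hx =>
    subset_closure ⟨mem_map_of_mem f hx.1, by rw [← map_pow, hx.2, map_one]⟩))

theorem OGen.bwr {Q : Subgroup (Perm ι)} (h : OGen p Q) : OGen p (bwr ρ p Q) := by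
  rintro _ ⟨σ, hσ, μ, rfl⟩
  rw [baff_eq]
  refine mul_mem (Subgroup.closure_mono ?_ (h.map (bphi ρ p)
    (mem_map_of_mem _ hσ))) (Subgroup.subset_closure ⟨baff_mem_bwr (one_mem Q) μ, btr_pow μ⟩)
  exact fun _ ⟨⟨τ, h1, h2⟩, h3⟩ => ⟨⟨τ, h1, 0, h2.symm⟩, h3⟩

theorem oGen_of_syl (n : ℕ) : ∀ {α : Type} [Fintype α] [DecidableEq α] {P : Subgroup (Perm α)}, Fintype.card α = n →
    Syl p P ⊤ → OGen p P := by
  induction n using Nat.strong_induction_on with
  | _ n ih =>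
  intro α _ _ P hn hP
  rcases n.eq_zero_or_pos with rfl | h0
  · have := Fintype.card_eq_zero_iff.mp hn
    exact fun x _ => Subsingleton.elim 1 x ▸ one_mem _
  obtain ⟨Q, hQ⟩ := exists_syl p (⊤ : Subgroup (Perm (Fin (n / p))))
  let e : BPt (Fin (n / p)) (Fin (n % p)) p ≃ α := Fintype.equivOfCardEq (by simp [ZMod.card, hn, Nat.div_add_mod'])
  obtain ⟨g, -, rfl⟩ := ((syl_bwr (by simpa using Nat.mod_lt n hp.out.pos) hQ).map_top
    (f := e.permCongrHom.toMonoidHom) e.permCongrHom.surjective).exists_conj hP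
  exact ((ih _ (Nat.div_lt_self h0 hp.out.one_lt) (Fintype.card_fin _) hQ).bwr.map _).map _

theorem isConj_of_pow_eq_one {α : Type*} [Fintype α] [DecidableEq α] {x y : Perm α} (hx : x ^ p = 1) (hy : y ^ p = 1)
    (h : x.support.card = y.support.card) : IsConj x y := by
  rw [isConj_iff_cycleType_eq, cycleType_of_pow_prime_eq_one hx, cycleType_of_pow_prime_eq_one hy]
  rw [← sum_cycleType, ← sum_cycleType, cycleType_of_pow_prime_eq_one hx, cycleType_of_pow_prime_eq_one hy,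
    Multiset.sum_replicate, Multiset.sum_replicate] at h
  rw [Nat.eq_of_mul_eq_mul_right hp.out.pos h]

theorem mem_alt_of_pow {α : Type*} [Fintype α] [DecidableEq α] (h2 : p ≠ 2) {x : Perm α} {k : ℕ} (hx : x ^ p ^ k = 1) :
    x ∈ alternatingGroup α := by
  have := congrArg sign hx
  rwa [map_pow, map_one, Int.units_pow_eq_pow_mod_two, Nat.odd_iff.mp (hp.out.odd_of_ne_two h2).pow, pow_one] at this

omit hp in
@[to_additive pi_sub_single_mem]
theorem pi_div_mulSingle_mem {C : Type*} [CommGroup C] {K : Subgroup (ι → C)} (i₀ : ι)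
    (h : ∀ i a, Pi.mulSingle i a / Pi.mulSingle i₀ a ∈ K) (l : ι → C) : l / Pi.mulSingle i₀ (∏ i, l i) ∈ K := by
  have := K.prod_mem (t := Finset.univ) fun i _ => h i (l i)
  rwa [Finset.prod_div_distrib, Finset.univ_prod_mulSingle, show ∏ i, (Pi.mulSingle i₀ (l i) : ι → C) =
    Pi.mulSingle i₀ (∏ i, l i) from (map_prod (MonoidHom.mulSingle (fun _ => C) i₀) _ _).symm] at this

end Cfsg.Lib.Fus
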