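/-
The `p`-fusion system of `A_n` is simple for `n ≥ max (6, p²)`, `n ≡ 0, 1 mod p`.
-/
import Cfsg.Agent.Lib.Fus.AltW
import Cfsg.Agent.Lib.Linear.Simple
import Cfsg.Agent.Lib.Linear.PUnip

set_option autoImplicit false
set_option linter.unusedSectionVars false

namespace Cfsg.Lib.Fus

open Cfsg Equiv Equiv.Perm Subgroup Sum
open Cfsg.Lib.Amalg (Syl exists_syl exists_syl_ge isPGroup_iff_mem)
open Cfsg.Lib.Linear (exists_third_index)

variable {ι ρ : Type} [Fintype ι] [DecidableEq ι] [Fintype ρ] [DecidableEq ρ] [Subsingleton ρ] {p : ℕ} [hp : Fact p.Prime]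

theorem bpt_ext' {g h : Perm (BPt ι ρ p)} (h1 : ∀ i x, g (inl (i, x)) = h (inl (i, x))) : g = h := by
  refine bpt_ext h1 fun r => ?_
  obtain ⟨⟨i, x⟩ | s, hs⟩ := h.surjective (g (inr r))
  · exact absurd (g.injective ((h1 i x).trans hs)) inl_ne_inr
  · rw [← hs, Subsingleton.elim r s]

theorem btr_sub_mem_alt (i j : ι) (a : ZMod p) :
    baff ρ 1 1 (Pi.single i a - Pi.single j a) ∈ alternatingGroup (BPt ι ρ p) := by
  have : baff ρ 1 1 (Pi.single j a) = baff ρ (swap i j) 1 0 * baff ρ 1 1 (Pi.single i a) * (baff ρ (swap i j) 1 0)⁻¹ := by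
    rw [baff_conj_btr]
    exact congrArg _ (funext fun k => by simp [Pi.single_apply, swap_apply_eq_iff])
  rw [mem_alternatingGroup, btr_sub, this, map_mul, map_inv, map_mul, map_mul, map_inv, mul_inv_cancel_comm,
    mul_inv_cancel]

variable (ρ p) in
/-- The even part of the wreath product. -/
abbrev bwrA (Q : Subgroup (Perm ι)) : Subgroup (Perm (BPt ι ρ p)) := bwr ρ p Q ⊓ alternatingGroup (BPt ι ρ p)

theorem btr_sub_mem (Q : Subgroup (Perm ι)) (i j : ι) (a : ZMod p) :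
    baff ρ 1 1 (Pi.single i a - Pi.single j a) ∈ bwrA ρ p Q :=
  ⟨baff_mem_bwr (one_mem Q) _, btr_sub_mem_alt i j a⟩

theorem bwrA_bot_le (Q : Subgroup (Perm ι)) : bwrA ρ p ⊥ ≤ bwrA ρ p Q :=
  fun _ ⟨⟨τ, h, e⟩, h'⟩ => ⟨⟨τ, bot_le (a := Q) h, e⟩, h'⟩

theorem exists_baff_of_mem_normalizer (hι : 3 ≤ Fintype.card ι) {Q : Subgroup (Perm ι)} {g : Perm (BPt ι ρ p)}
    (hg : g ∈ normalizer (bwrA ρ p Q : Set (Perm (BPt ι ρ p)))) : ∃ σ l μ, g = baff ρ σ l μ := by
  have h1 : ∀ j, ∃ (τ : Perm ι) (ν : ι → ZMod p), ∀ y, g (inl (j, y + 1)) = baff ρ τ 1 ν (g (inl (j, y))) := fun j => by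
    obtain ⟨k, hk, -⟩ := exists_third_index hι j j
    obtain ⟨τ, -, ν, h⟩ := (conj_mem_of_mem_normalizer hg (btr_sub_mem Q j k 1)).1
    exact ⟨τ, ν, fun y => by rw [← h]; simp [hk.symm]⟩
  have h2 : ∀ j y, ∃ i x, g (inl (j, y)) = inl (i, x) := fun j y => by
    obtain ⟨τ, ν, h⟩ := h1 j
    rcases e : g (inl (j, y)) with ⟨i, x⟩ | r
    · exact ⟨i, x, rfl⟩
    · simpa using g.injective ((h y).trans (by rw [e, baff_inr]) : _ = g (inl (j, y)))
  choose f e hf using h2
  have h3 : ∀ j y, f j y = f j 0 := fun j y => by_contra fun hne => by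
    obtain ⟨k, k1, k2⟩ := exists_third_index hι (f j 0) (f j y)
    obtain ⟨τ, -, ν, h⟩ := (inv_conj_mem_of_mem_normalizer hg (btr_sub_mem Q (f j 0) k 1)).1
    have a1 := congrArg (fun u => g (u (inl (j, y)))) h
    have a2 := congrArg (fun u => g (u (inl (j, 0)))) h
    simp only [Perm.mul_apply, Perm.coe_inv, apply_symm_apply, hf j y, hf j 0, baff_inl, Perm.one_apply, Pi.sub_apply, Pi.single_eq_same,
      Pi.single_eq_of_ne hne, Pi.single_eq_of_ne k1.symm, Pi.single_eq_of_ne k2.symm, Pi.one_apply, Units.val_one, one_mul,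
      sub_zero, add_zero] at a1 a2
    have a3 := g.injective ((hf j y).trans a1)
    simp only [inl.injEq, Prod.mk.injEq, left_eq_add] at a3
    simp [← a3.1, a3.2, hf j 0] at a2
  have h4 : ∀ j, ∃ c, ∀ y, e j y = c * y + e j 0 := fun j => by
    obtain ⟨τ, ν, h⟩ := h1 j
    refine ⟨ν (f j 0), fun y => ?_⟩
    obtain ⟨n, rfl⟩ := ZMod.natCast_zmod_surjective y
    induction n with
    | zero => simp
    | succ n ih =>
      have := h n
      simp only [hf, baff_inl, h3, Pi.one_apply, Units.val_one, one_mul, inl.injEq, Prod.mk.injEq] at this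
      rw [Nat.cast_succ, this.2, ih]; ring
  choose c hc using h4
  have h5 : ∀ j, c j ≠ 0 := fun j h => by
    simpa using g.injective (show g (inl (j, 1)) = g (inl (j, 0)) by rw [hf, hf, h3, hc, h, zero_mul, zero_add])
  have h6 : Function.Injective fun j => f j 0 := fun j k h => by
    have := g.injective (show g (inl (j, (c j)⁻¹ * (e k 0 - e j 0))) = g (inl (k, 0)) by
      rw [hf, hf, h3, hc, mul_inv_cancel_left₀ (h5 j), sub_add_cancel, show f j 0 = f k 0 from h])
    exact (Prod.mk.inj (inl.inj this)).1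
  exact ⟨Equiv.ofBijective _ (Finite.injective_iff_bijective.mp h6), fun j => Units.mk0 (c j) (h5 j), fun j => e j 0,
    bpt_ext' fun i x => by rw [hf, h3, hc]; rfl⟩

theorem baff_mem_normalizer (σ : Perm ι) (l : ι → (ZMod p)ˣ) (μ : ι → ZMod p) :
    baff ρ σ l μ ∈ normalizer (bwrA ρ p (⊥ : Subgroup (Perm ι)) : Set (Perm (BPt ι ρ p))) :=
  mem_normalizer_of_conj_mem_finite fun x hx => ⟨by
    obtain ⟨ν, rfl⟩ := mem_bwr_bot.mp hx.1
    exact mem_bwr_bot.mpr ⟨_, baff_conj_btr ..⟩, Normal.conj_mem inferInstance _ hx.2 _⟩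

theorem centralizer_bwr_bot (hι : 3 ≤ Fintype.card ι) :
    centralizer (bwrA ρ p (⊥ : Subgroup (Perm ι)) : Set (Perm (BPt ι ρ p))) ≤ bwr ρ p ⊥ := fun c hc => by
  obtain ⟨σ, l, μ, rfl⟩ := exists_baff_of_mem_normalizer hι (centralizer_le_normalizer _ hc)
  have : ∀ i, σ i = i ∧ l i = 1 := fun i => by
    obtain ⟨k, k1, k2⟩ := exists_third_index hι i (σ i)
    have := congrFun (baff_inj ((baff_conj_btr ..).symm.trans (conj_eq_of_mem_centralizer hc (btr_sub_mem ⊥ i k 1)))).2 (σ i)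
    simp only [Perm.coe_inv, symm_apply_apply, Pi.sub_apply, Pi.single_eq_same, Pi.single_eq_of_ne k1.symm,
      Pi.single_eq_of_ne k2.symm, sub_zero, mul_one] at this
    by_cases h : σ i = i
    · exact ⟨h, by simpa [h] using this⟩
    · simp [h] at this
  exact mem_bwr_bot.mpr ⟨μ, bpt_ext' fun i x => by simp [this i]⟩

theorem btr_single_two (h2 : p = 2) (i : ι) : sign (baff ρ 1 1 (Pi.single i (1 : ZMod p))) = -1 := by
  refine (card_support_eq_two.mp ?_).sign_eq
  rw [card_support_baff, show (Finset.univ.filter _) = {i} from by ext j; simp [Pi.single_apply], h2]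
  rfl

theorem exists_alt_conj (hι : 3 ≤ Fintype.card ι) {x y : Perm (BPt ι ρ p)} (hx : x ^ p = 1) (hy : y ^ p = 1)
    (h : x.support.card = y.support.card) : ∃ g ∈ alternatingGroup (BPt ι ρ p), g * x * g⁻¹ = y := by
  obtain ⟨J, hJ⟩ : ∃ J : Finset ι, x.support.card = p * J.card := by
    have h1 : x.support.card = p * x.cycleType.card := by
      rw [← sum_cycleType, cycleType_of_pow_prime_eq_one hx]; simp [mul_comm]
    have h2 := Finset.card_le_univ x.support
    have h3 : Fintype.card ρ ≤ 1 := Fintype.card_le_one_iff_subsingleton.mpr inferInstance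
    rw [h1, Fintype.card_sum, Fintype.card_prod, ZMod.card] at h2
    obtain ⟨J, -, hJ⟩ := Finset.exists_subset_card_eq (s := (Finset.univ : Finset ι)) (n := x.cycleType.card)
      (Nat.le_of_lt_succ (lt_of_mul_lt_mul_left (a := p) (by
        have := hp.out.two_le; rw [Finset.card_univ, Nat.succ_eq_add_one]; linarith) (Nat.zero_le _)))
    exact ⟨J, hJ ▸ h1⟩
  set z : Perm (BPt ι ρ p) := baff ρ 1 1 fun i => if i ∈ J then 1 else 0 with hz
  obtain ⟨c, c1, c2⟩ : ∃ c : Perm (BPt ι ρ p), sign c = -1 ∧ c * z * c⁻¹ = z := by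
    obtain ⟨i, j, h1, h2⟩ := Fintype.exists_ne_map_eq_of_card_lt (fun i => decide (i ∈ J)) (by simp; omega)
    rcases eq_or_ne p 2 with h3 | h3
    · exact ⟨_, btr_single_two h3 i, by simp [hz, baff_conj_btr]⟩
    · refine ⟨bphi ρ p (swap i j), by simp [sign_bphi, h1, (hp.out.odd_of_ne_two h3).neg_pow], ?_⟩
      rw [bphi_apply, baff_conj_btr]
      refine congrArg _ (funext fun k => ?_)
      simp only [decide_eq_decide] at h2
      simp only [swap_inv, swap_apply_def, Pi.one_apply, Units.val_one, one_mul]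
      split_ifs <;> simp_all
  have key : ∀ x : Perm (BPt ι ρ p), x ^ p = 1 → x.support.card = p * J.card →
      ∃ g ∈ alternatingGroup (BPt ι ρ p), g * z * g⁻¹ = x := fun x h1 h2 => by
    obtain ⟨g, rfl⟩ := isConj_iff.mp (isConj_of_pow_eq_one (btr_pow _) h1 (by simp [hz, h2, card_support_baff]) : IsConj z x)
    rcases Int.units_eq_one_or (sign g) with h | h
    · exact ⟨g, h, rfl⟩
    · exact ⟨g * c, by simp [mem_alternatingGroup, h, c1], by rw [mul_inv_rev, ← mul_assoc, mul_assoc g, mul_assoc g, c2]⟩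
  obtain ⟨a, a1, rfl⟩ := key x hx hJ
  obtain ⟨b, b1, rfl⟩ := key y hy (h ▸ hJ)
  exact ⟨b * a⁻¹, mul_mem b1 (inv_mem a1), by group⟩

theorem bphi_mem_alt {σ : Perm ι} {k : ℕ} (h : σ ^ p ^ k = 1) : bphi ρ p σ ∈ alternatingGroup (BPt ι ρ p) := by
  rcases eq_or_ne p 2 with h2 | h2
  · rw [mem_alternatingGroup, sign_bphi, h2, Int.units_sq]
  · exact mem_alt_of_pow h2 (k := k) (by rw [← map_pow, h, map_one])

theorem baff_swap_pow (h2 : p = 2) {a b : ι} {ν : ι → ZMod p} (h : ν a = ν b) : baff ρ (swap a b) 1 ν ^ p = 1 := by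
  subst h2
  refine bpt_ext' fun i x => ?_
  have : ν (swap a b i) = ν i := by rw [swap_apply_def]; split_ifs <;> simp_all
  simp [sq, this, add_assoc, CharTwo.add_self_eq_zero]

theorem sc_bwrA (hι : 3 ≤ Fintype.card ι) {Q : Subgroup (Perm ι)} (hQ : Syl p Q ⊤)
    (h2 : p = 2 → ∃ a b, a ≠ b ∧ swap a b ∈ Q) (T : Subgroup (Perm (BPt ι ρ p)))
    (hT : SCl (alternatingGroup _) (bwrA ρ p Q) T) (hP : IsPGroup p (bwrA ρ p Q)) (h0 : T ≠ ⊥) : bwrA ρ p Q ≤ T := by
  have key : ∀ x ∈ T, x ^ p = 1 → ∀ y ∈ bwr ρ p Q, y ^ p = 1 → x.support.card = y.support.card → y ∈ T :=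
    fun x a1 a2 y a3 a4 a5 => by
      obtain ⟨g, hg, rfl⟩ := exists_alt_conj hι a2 a4 a5
      exact hT.2 x a1 g hg ⟨a3, Normal.conj_mem inferInstance _ (hT.1 a1).2 _⟩
  obtain ⟨z, z1, z2, z3⟩ := exists_central_mem hP hT.1 (fun s hs => mem_normalizer_of_conj_mem_finite fun x hx =>
    hT.2 x hx s hs.2 (mul_mem (mul_mem hs (hT.1 hx)) (inv_mem hs))) h0
  obtain ⟨μ, rfl⟩ := mem_bwr_bot.mp (centralizer_bwr_bot hι fun s hs => z3 s ⟨by
    obtain ⟨ν, rfl⟩ := mem_bwr_bot.mp hs.1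
    exact baff_mem_bwr (one_mem Q) ν, hs.2⟩)
  obtain ⟨i, hi⟩ : ∃ i, μ i ≠ 0 := by_contra fun h => z2 (by
    rw [show μ = 0 from funext fun i => by simpa using not_exists.mp h i, baff_one])
  let K : AddSubgroup (ι → ZMod p) := Subgroup.toAddSubgroup' (T.comap (btr ρ))
  have hK : ∀ ν, ν ∈ K ↔ baff ρ 1 1 ν ∈ T := fun _ => Iff.rfl
  have hs : ∀ (j : ι) {a : ZMod p}, a ≠ 0 → (baff ρ 1 1 (Pi.single j a)).support.card = p := fun j a ha => by
    rw [card_support_baff, show (Finset.univ.filter _) = {j} from by ext k; simp [Pi.single_apply, ha]]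
    simp
  have hE : ∀ ν, baff ρ 1 1 ν ∈ alternatingGroup (BPt ι ρ p) → ν ∈ K := by
    rcases eq_or_ne p 2 with h | h
    · obtain ⟨a, b, hab, hQ'⟩ := h2 h
      have h3 : ∀ {x : Perm (BPt ι ρ p)}, x ∈ alternatingGroup _ → x.support.card ≠ p := fun hx e => by
        simpa using (card_support_eq_two.mp (e.trans h)).sign_eq.symm.trans hx
      obtain ⟨J, j1, -, j2⟩ := Finset.exists_subsuperset_card_eq (Finset.subset_univ {a, b})
        (n := (Finset.univ.filter fun i => μ i ≠ 0).card) (by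
          have a1 : 0 < (Finset.univ.filter fun i => μ i ≠ 0).card := Finset.card_pos.mpr ⟨i, by simpa using hi⟩
          have a2 : (Finset.univ.filter fun i => μ i ≠ 0).card ≠ 1 := fun e => h3 (hT.1 z1).2 (by
            simp [card_support_baff, e])
          rw [Finset.card_pair hab]; omega) (Finset.card_le_univ _)
      have ja : a ∈ J := j1 (by simp)
      have jb : b ∈ J := j1 (by simp)
      have h4 := mul_mem (key _ z1 (btr_pow μ) _ (baff_mem_bwr hQ' fun i => if i ∈ J ∧ i ≠ a ∧ i ≠ b then 1 else 0)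
        (baff_swap_pow h (by simp)) (by
          rw [card_support_baff, card_support_baff, show (Finset.univ.filter fun i => swap a b i ≠ i ∨ _) = J from by
            ext k; simp only [Finset.mem_filter, swap_apply_ne_self_iff]; by_cases k = a <;> by_cases k = b <;> simp_all]
          simp [j2])) (key _ z1 (btr_pow μ) _ (baff_mem_bwr (one_mem Q) fun i => if i ∈ J then 1 else 0) (btr_pow _)
          (by simp [card_support_baff, j2]))
      rw [baff_mul] at h4
      simp only [Pi.one_apply, mul_one, Units.val_one, one_mul, Perm.one_apply] at h4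
      have h5 : ∀ j (c : ZMod p), Pi.single j c - Pi.single a c ∈ K := fun j c => by
        by_cases e : j = a ∨ c = 0
        · rcases e with rfl | rfl <;> simp
        refine (hK _).mpr <| key _ h4 (baff_swap_pow h (by simp [ja, jb])) _ (baff_mem_bwr (one_mem Q) _) (btr_pow _)
          ((card_support_baff ..).trans ?_)
        rw [card_support_baff, show (Finset.univ.filter _) = {a, b} from by
          ext k; subst h; simp only [Finset.mem_filter, swap_apply_ne_self_iff]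
          by_cases k = a <;> by_cases k = b <;> by_cases k ∈ J <;> simp_all [CharTwo.add_self_eq_zero],
          show (Finset.univ.filter _) = {j, a} from by
            ext k; by_cases k = a <;> by_cases k = j <;> simp_all [Pi.single_apply],
          Finset.card_pair hab, Finset.card_pair (not_or.mp e).1]
      intro ν hν
      have h6 := pi_sub_single_mem a h5 ν
      rcases eq_or_ne (∑ i, ν i) 0 with e | e
      · simpa [e] using h6
      · have := (hT.1 ((hK _).mp h6)).2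
        rw [btr_sub] at this
        exact absurd (hs a e) (h3 (inv_mem_iff.mp ((Subgroup.mul_mem_cancel_left _ hν).mp this)))
    · have h3 : (2 : ZMod p) ≠ 0 := fun e => h ((Nat.prime_dvd_prime_iff_eq hp.out Nat.prime_two).mp
        ((ZMod.natCast_eq_zero_iff 2 p).mp e))
      have h4 := K.sub_mem ((hK _).mpr (key _ z1 (btr_pow μ) _ (baff_mem_bwr (one_mem Q) (μ + Pi.single i (μ i))) (btr_pow _)
        (by
          rw [card_support_baff, card_support_baff]
          congr 2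
          ext k
          by_cases k = i <;> simp_all [← two_mul]))) ((hK μ).mpr z1)
      rw [add_sub_cancel_left] at h4
      intro ν _
      rw [← Finset.univ_sum_single ν]
      refine K.sum_mem fun j _ => ?_
      rcases eq_or_ne (ν j) 0 with e | e
      · simp [e]
      · exact key _ h4 (btr_pow _) _ (baff_mem_bwr (one_mem Q) _) (btr_pow _) ((hs i hi).trans (hs j e).symm)
  rintro _ ⟨⟨σ, hσ, ν, rfl⟩, h⟩
  obtain ⟨k, hk⟩ := isPGroup_iff_mem.mp hQ.isPGroup σ hσ
  rw [baff_eq] at h ⊢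
  refine mul_mem ((oGen_of_syl _ rfl hQ).trans ((closure_le (T.comap (bphi ρ p))).mpr fun τ ⟨t1, t2⟩ => ?_) hσ)
    (hE _ ((Subgroup.mul_mem_cancel_left _ (bphi_mem_alt hk)).mp h))
  have t3 : bphi ρ p τ ^ p = 1 := by rw [← map_pow, t2, map_one]
  have t4 : (baff ρ 1 1 fun i => if τ i ≠ i then (1 : ZMod p) else 0).support.card = (bphi ρ p τ).support.card := by
    simp [bphi_apply, card_support_baff]
  obtain ⟨g, -, hg⟩ := exists_alt_conj hι t3 (btr_pow _) t4.symm
  exact key _ (hE _ (hg ▸ Normal.conj_mem inferInstance _ (bphi_mem_alt (k := 1) (by simpa using t2)) _)) (btr_pow _) _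
    (baff_mem_bwr t1 0) t3 t4

theorem conj_mem_pGen {G : Type*} [Group G] {H R : Subgroup G} [H.Normal] {g x : G} (hg : g ∈ normalizer (R : Set G))
    (hx : x ∈ pGen p H R) : g * x * g⁻¹ ∈ pGen p H R :=
  ((closure_le ((pGen p H R).comap (MulAut.conj g).toMonoidHom)).mpr (by
    exact fun y ⟨h1, h2, k, h3⟩ => mem_pGen (Normal.conj_mem inferInstance _ h1 _) (mul_mem (mul_mem hg h2) (inv_mem hg))
      ⟨k, by simp [conj_pow, h3]⟩) : pGen p H R ≤ _) hx

variable {κ : Type} [Fintype κ] [DecidableEq κ]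

variable (κ p) in
/-- Shifts of the first `p` blocks. -/
def bsh : Multiplicative (ZMod p) →* Perm (ZMod p ⊕ κ) :=
  MonoidHom.mk' (fun t => Perm.sumCongr (Equiv.addRight t.toAdd) 1) fun _ _ =>
    Equiv.ext fun | inl _ => by simp [add_assoc, add_comm] | inr _ => rfl

@[simp] theorem bsh_inl (t : Multiplicative (ZMod p)) (i : ZMod p) : bsh p κ t (inl i) = inl (i + t.toAdd) := rfl
@[simp] theorem bsh_inr (t : Multiplicative (ZMod p)) (k : κ) : bsh p κ t (inr k) = inr k := rfl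

theorem bsh_pow (t : Multiplicative (ZMod p)) : bsh p κ t ^ p = 1 := by
  rw [← map_pow, show t ^ p = 1 from Multiplicative.toAdd.injective (by simp), map_one]

theorem bphi_mem_pGen {σ : Perm (ZMod p ⊕ κ)} (h : bphi ρ p σ ∈ alternatingGroup _) :
    bphi ρ p σ ∈ pGen p (alternatingGroup _) (bwrA ρ p (⊥ : Subgroup (Perm (ZMod p ⊕ κ)))) := by
  have h1 : ∀ τ : Perm (ZMod p ⊕ κ), τ ^ p = 1 → τ ∈ (pGen p (alternatingGroup _) (bwrA ρ p ⊥)).comap (bphi ρ p) :=
    fun τ h => mem_pGen (bphi_mem_alt (k := 1) (by simpa using h)) (baff_mem_normalizer _ _ _)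
      ⟨1, by rw [pow_one, ← map_pow, h, map_one]⟩
  have h2 : ((pGen p (alternatingGroup (BPt (ZMod p ⊕ κ) ρ p)) (bwrA ρ p ⊥)).comap (bphi ρ p)).Normal :=
    ⟨fun x hx g => by simpa [← bphi_apply] using conj_mem_pGen (baff_mem_normalizer g 1 0) hx⟩
  rcases eq_or_ne p 2 with e | e
  · refine mem_comap.mp <| ((closure_le _).mpr ?_ : _ ≤ comap (bphi ρ p) _) (closure_isSwap.ge (mem_top σ))
    rintro _ ⟨a, b, -, rfl⟩
    exact h1 _ (by subst e; rw [sq, swap_mul_self])
  have h3 : (2 : ZMod p) ≠ 0 := fun h => e ((Nat.prime_dvd_prime_iff_eq hp.out Nat.prime_two).mp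
    ((ZMod.natCast_eq_zero_iff 2 p).mp h))
  rw [mem_alternatingGroup, sign_bphi, Int.units_pow_eq_pow_mod_two, Nat.odd_iff.mp (hp.out.odd_of_ne_two e),
    pow_one] at h
  refine mem_comap.mp <| ((closure_le _).mpr fun t ht => ?_ : _ ≤ comap (bphi ρ p) _) (closure_three_cycles_eq_alternating.ge h)
  have h4 := mul_mem (h1 _ (bsh_pow (.ofAdd 1))) (h2.conj_mem _ (inv_mem (h1 _ (bsh_pow (.ofAdd 1)))) (swap (inl 0) (inl 1)))
  rw [← mul_assoc, ← mul_assoc, ← swap_apply_apply, swap_inv, swap_comm (inl 0)] at h4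
  simp only [bsh_inl, toAdd_ofAdd, zero_add] at h4
  obtain ⟨g, rfl⟩ := isConj_iff.mp (isConj_iff_cycleType_eq.mpr ((isThreeCycle_swap_mul_swap_same (a := inl (1 : ZMod p))
    (b := inl (1 + 1)) (c := inl 0) (by simp) (by simp) (by simpa [one_add_one_eq_two] using h3)).trans ht.symm))
  exact h2.conj_mem _ h4 g

theorem bdg_mem_pGen (hι : 3 ≤ Fintype.card (ZMod p ⊕ κ)) {l : ZMod p ⊕ κ → (ZMod p)ˣ} (h : ∏ i, l i = 1) :
    bdg ρ l ∈ pGen p (alternatingGroup _) (bwrA ρ p (⊥ : Subgroup (Perm (ZMod p ⊕ κ)))) := by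
  simpa [h] using pi_div_mulSingle_mem (K := (pGen p (alternatingGroup _) (bwrA ρ p ⊥)).comap (bdg ρ)) (inl 0)
    (fun i a => by
      rcases eq_or_ne i (inl 0) with rfl | hi
      · simp
      obtain ⟨k, k1, k2⟩ := exists_third_index hι i (inl 0)
      have h1 := bphi_mem_pGen (ρ := ρ) (σ := swap i k * swap i (inl 0)) (by simp [sign_bphi, hi, k1.symm])
      have h2 : (swap i k * swap i (inl 0)) i = inl 0 := by simp [swap_apply_of_ne_of_ne hi.symm k2.symm]
      generalize swap i k * swap i (inl 0) = σ at h1 h2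
      have := mul_mem (conj_mem_pGen (baff_mem_normalizer 1 (Pi.mulSingle i a) 0) h1) (inv_mem h1)
      rw [← bdg_apply, ← map_inv, ← map_inv] at this
      rw [mem_comap]
      convert this using 1
      refine bpt_ext' fun j x => ?_
      have h3 : σ.symm j = i ↔ j = inl 0 := by rw [symm_apply_eq, h2]
      simp only [bdg_apply, bphi_apply, Perm.mul_apply, baff_inl, Pi.div_apply, Pi.inv_apply, Pi.mulSingle_apply, h3,
        Perm.coe_inv, apply_symm_apply, Perm.one_apply, Pi.one_apply, Pi.zero_apply, add_zero, Units.val_one, one_mul,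
        div_eq_mul_inv, Units.val_mul, mul_assoc, Pi.mul_apply]) l

variable (ρ κ p) in
/-- The first `p²` points as a plane. -/
def bpl : (Fin 2 → ZMod p) ↪ BPt (ZMod p ⊕ κ) ρ p :=
  ⟨fun v => inl (inl (v 0), v 1), fun v w h => by ext i; fin_cases i <;> simp_all⟩

theorem bpl_apply (v : Fin 2 → ZMod p) : bpl ρ p κ v = inl (inl (v 0), v 1) := rfl

variable (ρ κ p) in
/-- Translations of the plane and of the other blocks. -/
def brr : Multiplicative ((Fin 2 → ZMod p) × (κ → ZMod p)) →* Perm (BPt (ZMod p ⊕ κ) ρ p) :=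
  MonoidHom.mk' (fun w => baff ρ (bsh p κ (.ofAdd (w.toAdd.1 0))) 1 (Sum.elim (fun _ => w.toAdd.1 1) w.toAdd.2))
    fun _ _ => bpt_ext' fun | inl _, _ => by simp [add_assoc, add_comm, add_left_comm] | inr _, _ => by simp; ring

theorem brr_bpl (w : Fin 2 → ZMod p) (ν : κ → ZMod p) (v : Fin 2 → ZMod p) :
    brr ρ p κ (.ofAdd (w, ν)) (bpl ρ p κ v) = bpl ρ p κ (v + w) := by simp [brr, bpl_apply]

theorem brr_inr (w : Fin 2 → ZMod p) (ν : κ → ZMod p) (k : κ) (x : ZMod p) :
    brr ρ p κ (.ofAdd (w, ν)) (inl (inr k, x)) = inl (inr k, x + ν k) := by simp [brr]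

theorem bpl_ext {g h : Perm (BPt (ZMod p ⊕ κ) ρ p)} (h1 : ∀ v, g (bpl ρ p κ v) = h (bpl ρ p κ v))
    (h2 : ∀ k x, g (inl (inr k, x)) = h (inl (inr k, x))) : g = h :=
  bpt_ext' fun | inl i, x => h1 ![i, x] | inr k, x => h2 k x

theorem centralizer_brr : centralizer ((brr ρ p κ).range : Set (Perm (BPt (ZMod p ⊕ κ) ρ p))) ≤ (brr ρ p κ).range :=
  fun c hc => by
  have key : ∀ w ν a, c (brr ρ p κ (.ofAdd (w, ν)) a) = brr ρ p κ (.ofAdd (w, ν)) (c a) := fun w ν a =>
    congrArg (· a) (hc _ ⟨_, rfl⟩).symm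
  obtain ⟨w, hw⟩ : ∃ w, c (bpl ρ p κ 0) = bpl ρ p κ w := by
    have := key 1 0 (bpl ρ p κ 0)
    rcases e : c (bpl ρ p κ 0) with ⟨i | k, x⟩ | r
    · exact ⟨![i, x], rfl⟩
    · rw [brr_bpl, e, brr_inr, Pi.zero_apply, add_zero, ← e] at this
      simpa using congrFun ((bpl ρ p κ).injective (c.injective this)) 0
    · rw [brr_bpl, e, show brr ρ p κ _ (inr r) = inr r from rfl, ← e] at this
      simpa using congrFun ((bpl ρ p κ).injective (c.injective this)) 0
  have h2 : ∀ k, ∃ x, c (inl (inr k, 0)) = inl (inr k, x) := fun k => by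
    have := key 0 (Pi.single k 1) (inl (inr k, 0))
    rcases e : c (inl (inr k, 0)) with ⟨i | l, x⟩ | r
    · rw [brr_inr, e, show inl (inl i, x) = bpl ρ p κ ![i, x] from rfl, brr_bpl, add_zero,
        show bpl ρ p κ ![i, x] = c _ from e.symm] at this
      simpa using c.injective this
    · refine ⟨x, by_contra fun h => ?_⟩
      rw [brr_inr, e, brr_inr, Pi.single_eq_of_ne (show l ≠ k from fun e => h (by rw [e])), add_zero x, ← e] at this
      simpa using c.injective this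
    · rw [brr_inr, e, show brr ρ p κ _ (inr r) = inr r from rfl, ← e] at this
      simpa using c.injective this
  choose ν hν using h2
  refine ⟨.ofAdd (w, ν), bpl_ext (fun v => ?_) fun k x => ?_⟩
  · simpa [brr_bpl, hw, add_comm] using (key v 0 (bpl ρ p κ 0)).symm
  · simpa [brr_inr, hν, add_comm] using (key 0 (fun _ => x) (inl (inr k, 0))).symm

theorem baff_mem_pGen_brr (h2 : p ≠ 2) (a : (ZMod p)ˣ) : baff ρ (Perm.sumCongr a⁻¹.mulLeft 1) (Sum.elim (fun _ => a) 1) 0 ∈
    pGen p (alternatingGroup _) (brr ρ p κ).range := by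
  let L := (viaEmbeddingHom (bpl ρ p κ)).comp (MulAction.toPermHom (Matrix.SpecialLinearGroup (Fin 2) (ZMod p)) _)
  have h1 : ∀ g v, L g (bpl ρ p κ v) = bpl ρ p κ (g • v) := fun g v => viaEmbedding_apply ..
  have h3 : ∀ g k x, L g (inl (inr k, x)) = inl (inr k, x) := fun g k x =>
    viaEmbedding_apply_of_notMem _ _ _ (by simp [bpl_apply])
  have h4 := Linear.sl_eq_top_of_transvection_mem ((pGen p (alternatingGroup _) (brr ρ p κ).range).comap L)
    fun i j hij c => by
      have : L (Matrix.SpecialLinearGroup.transvection hij c) ^ p ^ 1 = 1 := by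
        rw [pow_one, ← map_pow, Linear.transvection_pow_char, map_one]
      refine mem_pGen (mem_alt_of_pow h2 this) (mem_normalizer_of_conj_mem_finite ?_) ⟨1, this⟩
      rintro _ ⟨w, rfl⟩
      refine ⟨.ofAdd (Matrix.SpecialLinearGroup.transvection hij c • w.toAdd.1, w.toAdd.2),
        eq_mul_inv_of_mul_eq (bpl_ext (fun v => ?_) fun k x => ?_)⟩
      · rw [Perm.mul_apply, Perm.mul_apply, h1, brr_bpl, show w = .ofAdd (w.toAdd.1, w.toAdd.2) from rfl, brr_bpl, h1,
          smul_add]; rfl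
      · rw [Perm.mul_apply, Perm.mul_apply, h3, brr_inr, show w = .ofAdd (w.toAdd.1, w.toAdd.2) from rfl, brr_inr, h3]; rfl
  have := mem_comap.mp (h4.ge (mem_top (Matrix.SpecialLinearGroup.diag2n zero_ne_one (a⁻¹ : (ZMod p)ˣ).1 a⁻¹.ne_zero)))
  convert this using 1
  refine bpl_ext (fun v => ?_) fun k x => by rw [h3, baff_inl]; exact congrArg (fun y => inl (inr k, y)) (by simp)
  rw [h1, bpl_apply, bpl_apply, baff_inl, Linear.sl_diag2n_smul_apply, Linear.sl_diag2n_smul_apply]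
  exact congrArg (fun y => inl (_, y)) (by rw [if_neg one_ne_zero, if_pos rfl, Units.val_inv_eq_inv_val, inv_inv]; simp)

theorem gen_bwrA (hι : 3 ≤ Fintype.card (ZMod p ⊕ κ)) {Q : Subgroup (Perm (ZMod p ⊕ κ))} (hQ : (bsh p κ).range ≤ Q)
    (M : Subgroup (Perm (BPt (ZMod p ⊕ κ) ρ p))) (hM : ∀ R, R ≤ bwrA ρ p Q → alternatingGroup _ ⊓ centralizer (R : Set _) ≤ R →
      pGen p (alternatingGroup _) R ⊓ normalizer (bwrA ρ p (⊥ : Subgroup (Perm (ZMod p ⊕ κ))) : Set _) ≤ M) :
    alternatingGroup _ ⊓ normalizer (bwrA ρ p Q : Set (Perm (BPt (ZMod p ⊕ κ) ρ p))) ≤ M := fun g ⟨g1, g2⟩ => by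
  obtain ⟨σ, l, μ, rfl⟩ := exists_baff_of_mem_normalizer hι g2
  have h1 : pGen p (alternatingGroup _) (bwrA ρ p ⊥) ≤ M ⊓ alternatingGroup _ := fun x hx =>
    ⟨hM _ (bwrA_bot_le Q)
      (fun c hc => ⟨centralizer_bwr_bot hι hc.2, hc.1⟩) ⟨hx, (closure_le _).mpr (fun _ h => h.2.1) hx⟩, pGen_le _ _ _ hx⟩
  set a := ∏ i, l i with ha
  have h2 : baff ρ (Perm.sumCongr a⁻¹.mulLeft 1) (Sum.elim (fun _ => a) 1) 0 ∈ M ⊓ alternatingGroup _ := by
    rcases eq_or_ne p 2 with h | h
    · subst h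
      rw [Subsingleton.elim a 1, show baff ρ _ _ _ = 1 from bpt_ext' fun | inl _, _ => by simp | inr _, _ => by simp]
      exact one_mem _
    refine ⟨hM _ ?_ (inf_le_right.trans centralizer_brr) ⟨baff_mem_pGen_brr h a, baff_mem_normalizer _ _ _⟩,
      pGen_le _ _ _ (baff_mem_pGen_brr h a)⟩
    rintro _ ⟨w, rfl⟩
    exact ⟨baff_mem_bwr (hQ ⟨_, rfl⟩) _, mem_alt_of_pow h (k := 1) (by
      rw [pow_one, ← map_pow, show w ^ p = 1 from Multiplicative.toAdd.injective (by ext <;> simp), map_one])⟩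
  have h3 := h1 (bdg_mem_pGen (ρ := ρ) hι (l := l / Sum.elim (fun _ => a) 1) (by
    simp [Finset.prod_div_distrib, ← ha, ZMod.card, Units.ext_iff]))
  have h4 : baff ρ σ l μ = baff ρ 1 1 (fun i => μ (σ⁻¹ i)) * bphi ρ p (σ * (Perm.sumCongr a⁻¹.mulLeft 1)⁻¹) *
      (baff ρ (Perm.sumCongr a⁻¹.mulLeft 1) (Sum.elim (fun _ => a) 1) 0 * bdg ρ (l / Sum.elim (fun _ => a) 1)) :=
    bpt_ext' fun i x => by
      simp only [bdg_apply, bphi_apply, Perm.mul_apply, baff_inl, Pi.div_apply, Perm.coe_inv, symm_apply_apply,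
        Perm.one_apply, Pi.one_apply, Pi.zero_apply, add_zero, Units.val_one, one_mul, ← mul_assoc, ← Units.val_mul,
        mul_div_cancel]
  rw [h4] at g1 ⊢
  have h5 := (Subgroup.mul_mem_cancel_right _ (mul_mem h2 h3).2).mp g1
  have h6 : bphi ρ p (σ * (Perm.sumCongr a⁻¹.mulLeft 1)⁻¹) ∈ alternatingGroup (BPt (ZMod p ⊕ κ) ρ p) := by
    rcases eq_or_ne p 2 with h | h
    · subst h; rw [mem_alternatingGroup, sign_bphi, Int.units_sq]
    · exact (Subgroup.mul_mem_cancel_left _ (mem_alt_of_pow h (k := 1) (by rw [pow_one, btr_pow]))).mp h5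
  exact mul_mem (mul_mem (h1 (mem_pGen ((Subgroup.mul_mem_cancel_right _ h6).mp h5) (baff_mem_normalizer _ _ _)
    ⟨1, by rw [pow_one, btr_pow]⟩)).1 (h1 (bphi_mem_pGen h6)).1) (mul_mem h2 h3).1

theorem simple_alt {n : ℕ} (hn : 6 ≤ n) (hnp : p ^ 2 ≤ n) (hb : n % p ≤ 1) (S : Sylow p (alternatingGroup (Fin n))) :
    (groupFusionSystem (S : Subgroup (alternatingGroup (Fin n)))).IsSimple p := by
  have h1 : p ≤ n / p := (Nat.le_div_iff_mul_le hp.out.pos).mpr (by rwa [← sq])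
  have hι : 3 ≤ Fintype.card (ZMod p ⊕ Fin (n / p - p)) := by
    rw [Fintype.card_sum, ZMod.card, Fintype.card_fin]
    rcases hp.out.two_le.eq_or_lt with h | h
    · subst h; omega
    · omega
  have : Subsingleton (Fin (n % p)) := Fin.subsingleton_iff_le_one.mpr hb
  obtain ⟨Q, hQ, h2⟩ := exists_syl_ge (isPGroup_iff_mem.mpr (by
    rintro _ ⟨t, rfl⟩; exact ⟨1, by rw [pow_one, bsh_pow]⟩) : IsPGroup p (bsh p (Fin (n / p - p))).range) le_top
  have h3 := (syl_bwr (ρ := Fin (n % p)) (by simpa using Nat.mod_lt n hp.out.pos) hQ).inf_normal_top (alternatingGroup _)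
  let e : BPt (ZMod p ⊕ Fin (n / p - p)) (Fin (n % p)) p ≃ Fin n := Fintype.equivOfCardEq (by
    simp [ZMod.card, Nat.add_sub_cancel' h1, Nat.div_add_mod'])
  refine simple_of_data₂ e.altCongrHom h3 (fun h => ?_) (fun T hT => sc_bwrA hι hQ (fun h => ⟨inl 0, inl 1, by simp, ?_⟩) T hT
    h3.isPGroup) (bwrA_bot_le Q)
    (fun c hc => ⟨centralizer_bwr_bot hι hc.2, hc.1⟩) (gen_bwrA hι h2) S
  · simpa using congrFun (baff_inj ((mem_bot.mp (h.le (btr_sub_mem Q (inl 0) (inl 1) 1))).trans baff_one.symm)).2 (inl 0)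
  · refine h2 ⟨.ofAdd 1, Equiv.ext ?_⟩
    subst h
    rintro (i | k)
    · rcases eq_or_ne i 1 with rfl | h
      · rw [swap_apply_right, bsh_inl]; exact congrArg inl (CharTwo.add_self_eq_zero 1)
      · fin_cases i
        exacts [rfl, absurd rfl h]
    · rfl

end Cfsg.Lib.Fus
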