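/-
Local analysis of automorphisms acting trivially modulo a normal subsystem.
-/
import Cfsg.Agent.Lib.Fus.Loc
import Cfsg.Agent.Lib.Hall.SZConj

set_option autoImplicit false
set_option linter.unusedSectionVars false

namespace Cfsg.Lib.Fus

open Cfsg Cfsg.FusionSystem Equiv

theorem exists_conj_of_coprime {G : Type*} [Group G] [Finite G] {p : ℕ} [Fact p.Prime] {N : Subgroup G}
    (hN : IsPGroup p N) {a b : G} (ha : a ∈ Subgroup.normalizer (N : Set G)) (h1 : (orderOf a).Coprime p)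
    (h2 : (orderOf b).Coprime p) (h : a⁻¹ * b ∈ N) : ∃ g ∈ N, g * a * g⁻¹ = b := by
  obtain ⟨n, hn⟩ := hN.exists_card_eq
  have : Group.IsSolvable (Subgroup.zpowers a) := Group.isSolvable_of_comm fun x y => mul_comm' x y
  obtain ⟨g, hg, e⟩ := Hall.sz_conj_internal (N := N) (H := Subgroup.zpowers a) (K := Subgroup.zpowers b)
    (Subgroup.zpowers_le.mpr ha) (by rw [hn, Nat.card_zpowers]; exact h1.symm.pow_left n)
    (by rw [hn, Nat.card_zpowers]; exact h2.symm.pow_left n) (le_antisymm (sup_le le_sup_left (Subgroup.zpowers_le.mpr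
      ((Subgroup.mul_mem_cancel_right _ (Subgroup.mem_sup_right (Subgroup.mem_zpowers b))).mp
        (Subgroup.mem_sup_left h) |> (Subgroup.inv_mem_iff _).mp)))
      (sup_le le_sup_left (Subgroup.zpowers_le.mpr ((Subgroup.mul_mem_cancel_left _ (Subgroup.inv_mem _
        (Subgroup.mem_sup_right (Subgroup.mem_zpowers a)))).mp (Subgroup.mem_sup_left h))))) (Or.inr this)
  have k1 : b⁻¹ * (g * a * g⁻¹) ∈ Subgroup.zpowers b := mul_mem (Subgroup.inv_mem _ (Subgroup.mem_zpowers b))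
    (e ▸ Subgroup.smul_mem_pointwise_smul _ _ _ (Subgroup.mem_zpowers a))
  have k2 : b⁻¹ * (g * a * g⁻¹) ∈ N := by
    rw [show b⁻¹ * (g * a * g⁻¹) = (a⁻¹ * b)⁻¹ * (a⁻¹ * g * a) * g⁻¹ by group]
    exact mul_mem (mul_mem (N.inv_mem h) (inv_conj_mem_of_mem_normalizer ha hg)) (N.inv_mem hg)
  obtain ⟨k, hk⟩ := hN ⟨_, k2⟩
  have k3 : (b⁻¹ * (g * a * g⁻¹)) ^ orderOf b ∈ (⊥ : Subgroup G) := by
    obtain ⟨m, hm⟩ := k1
    rw [← hm, Subgroup.mem_bot, ← zpow_natCast, ← zpow_mul, mul_comm, zpow_mul, zpow_natCast, pow_orderOf_eq_one,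
      one_zpow]
  exact ⟨g, hg, (inv_mul_eq_one.mp (mem_of_pow_mem_of_coprime k3 (congrArg Subtype.val hk) (h2.pow_right k))).symm⟩

variable {Ω : Type*} [Group Ω] {S T U V W Y : Subgroup Ω} {F : FusionSystem S} {E : FusionSystem T}
  {D : FusionSystem U} {P Q R : Subgroup Ω} {σ τ α β γ δ μ : Perm Ω} {p : ℕ} [Fact p.Prime]

theorem PP.coprime_orderOf (h : PP p P σ) {a : MulAut P} (e : ∀ x : P, (a x : Ω) = σ x) : (orderOf a).Coprime p :=
  let ⟨_, h1, h2⟩ := h; h1.coprime_dvd_left (orderOf_dvd_of_pow_eq_one ((pow_mem_fixP_iff e _).mp h2))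

theorem PP.exists_conj [Finite P] (h1 : PP p P α) (h2 : PP p P β) {J : Subgroup (Perm Ω)} (hf : fixP P ≤ J)
    (hJ : J ≤ autAll P) (hp : PMod p (fixP P) J) (hα : α ∈ autAll P) (hβ : β ∈ autAll P)
    (hn : α ∈ Subgroup.normalizer (J : Set (Perm Ω))) (h : α⁻¹ * β ∈ J) : ∃ g ∈ J, ∀ x ∈ P, (g * α * g⁻¹) x = β x := by
  have := finite_mulAut P
  obtain ⟨a, ea⟩ := exists_aut_of_mem_autAll hα
  obtain ⟨b, eb⟩ := exists_aut_of_mem_autAll hβ
  have hl := liftAut_downAut hf hJ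
  obtain ⟨g, hg, e⟩ := exists_conj_of_coprime (N := downAut P J) (a := a) (b := b)
    (pMod_liftAut_iff.mp (hl.symm ▸ hp)) ((liftAut_le_normalizer_iff (H := Subgroup.zpowers a)).mp (by
      rw [hl]
      rintro σ hσ
      obtain ⟨_, ⟨n, rfl⟩, e⟩ := mem_liftAut.mp hσ
      refine mem_of_eqOn (hf.trans Subgroup.le_normalizer) (zpow_mem hn n) fun x hx => ?_
      rw [← e ⟨x, hx⟩, ← coe_resAut ⟨α ^ n, zpow_mem hα n⟩ ⟨x, hx⟩,
        show (⟨α ^ n, zpow_mem hα n⟩ : autAll P) = ⟨α, hα⟩ ^ n from rfl, map_zpow, resAut_eq_iff.mpr ea])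
      (Subgroup.mem_zpowers a)) (h1.coprime_orderOf ea) (h2.coprime_orderOf eb)
    (mem_downAut.mpr ⟨_, h, fun x => by
      rw [Perm.mul_apply, Perm.eq_inv_iff_eq, ← ea, ← eb, MulAut.mul_apply, MulAut.apply_inv_self]⟩)
  refine ⟨autPerm P g, (mem_downAut' hf).mp hg, fun x hx => ?_⟩
  rw [← eb ⟨x, hx⟩, ← e, Perm.mul_apply, Perm.mul_apply, ← map_inv, autPerm_apply_of_mem _ hx, ← ea, autPerm_apply]
  rfl

variable [Finite S]

/-- Automorphisms fixing `U` and trivial modulo `T` are induced by `C_S(U)`. -/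
theorem Sat.exists_cj_of_fix (hF : Sat p F) (hU : F.IsFullyNormalized U) (hC : centralizerIn T U ≤ U)
    (h1 : hat S U ≤ Y) (h2 : Y ≤ normalizerIn S U) (hδ : Iso F Y Y δ) (hf : δ ∈ fixP U) (ht : δ ∈ trivMod Y T) :
    ∃ c ∈ centralizerIn S U, ∀ y ∈ Y, δ y = c * y * c⁻¹ := by
  have : Finite U := finite_of_le hU.1
  have : Finite (hat S U) := finite_of_le (hat_le hU.1)
  have hUY := le_sup_left.trans h1
  have k1 : δ ∈ trivMod Y U := ⟨ht.1, fun y hy => hC ⟨ht.2 y hy,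
    inv_mul_mem_centralizer_of_fix hδ.homOn hUY hf hy (h2 hy).2⟩⟩
  have k2 := (hδ.mor.mono h1).iso_of_mem_autAll le_rfl (trivMod_le_autAll le_sup_left h1 k1)
  have hfk := hF.fkn_of_normalizerIn_le hU le_sup_left (le_inf (hat_le hU.1) (hat_le_normalizer S U))
    fun g hg => mem_normalizer_hat hg.1 hg.2
  obtain ⟨g, hg, -, e⟩ := mem_autS.mp (PMod.le_of_normal (H := autP F (hat S U) ⊓ autAll U)
    (X := autP F (hat S U) ⊓ (trivMod (hat S U) U ⊓ fixP U))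
    ((pMod_trivMod (hF.pg.to_le hU.1) le_sup_left).mono inf_le_right)
    (inf_le_inf_left _ (inf_le_right.trans (fixP_le_autAll U)))
    (fun ρ hρ κ hκ => ⟨mul_mem (mul_mem hρ.1 hκ.1) (Subgroup.inv_mem _ hρ.1), conj_mem_trivMod
      (autP_le_autAll F _ hρ.1) (fun _ _ => autAll_mem hρ.2) hκ.2.1, (conj_mem_fixP hρ.2.2).mpr hκ.2.2⟩)
    (inf_le_left.trans (autP_le_normalizer F _)) (fixP_le_autS _ _) hfk.not_dvd
    ⟨k2.mem_autP, ⟨k2.mem_autAll, fun y hy => k1.2 y (h1 hy)⟩, hf⟩)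
  obtain ⟨z, hz, e'⟩ := hF.eq_conj_of_fix (hF.centric_sup_centralizerIn (hF.fc_of_fn hU)) h1
    (hδ.mor.comp_cj (S.inv_mem hg)) fun x hx => by rw [Perm.mul_apply, e x hx, cj_apply]; group
  refine ⟨g * z, mul_mem (mem_centralizerIn'.mpr ⟨hg, fun x hx => (e x (Subgroup.mem_sup_left hx)).symm.trans
    (hf x hx)⟩) (centralizerIn_anti S le_sup_left hz), fun y hy => ?_⟩
  have := e' y hy
  rw [Perm.mul_apply, cj_apply] at this
  rw [show g * z * y * (g * z)⁻¹ = g * (z * y * z⁻¹) * g⁻¹ by group, ← this]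
  group

theorem WN.exists_conj_plus (h : WN p E F) (hU : F.IsFullyNormalized U) (hc : E.IsCentric U) (h1 : hat S U ≤ W)
    (h2 : W ≤ normalizerIn S U) (hμ : Iso F W W μ) (ht : μ ∈ trivMod W T) {v v' : Ω} (hv : v ∈ normalizerIn S W)
    (hvU : v ∈ Subgroup.normalizer (U : Set Ω)) (hv' : v' ∈ normalizerIn S W) (hE : cj (v' * v⁻¹) ∈ autP E U)
    (e : ∀ x ∈ U, μ (v * x * v⁻¹) = v' * μ x * v'⁻¹)
    (hm : ∀ x ∈ U, μ⁻¹ x ∈ U) : ∃ t ∈ T, ∃ c ∈ centralizerIn S U, ∃ c' ∈ centralizerIn S U, v' = c' * (t * v) ∧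
      ∀ w ∈ W, μ (v * w * v⁻¹) = (t * v * c) * μ w * (t * v * c)⁻¹ := by
  have hUW := le_sup_left.trans h1
  have hTn := sc_le_normalizer h.sc
  have k1 := h.mem_sup_of_cj hc.1 (h.satF.fc_of_fn hU) (mul_mem hv'.1 (S.inv_mem hv.1)) hE
  rw [sup_comm] at k1
  obtain ⟨c', hc', t, ht', e1⟩ := (mem_sup_of_le_normalizer ((centralizerIn_le S U).trans hTn)).mp k1
  have e2 : v' = c' * (t * v) := by rw [← mul_assoc, e1, inv_mul_cancel_right]
  have k2 : t ∈ Subgroup.normalizer (W : Set Ω) := (Subgroup.mul_mem_cancel_left _ (Subgroup.le_normalizer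
    (h1 (Subgroup.mem_sup_right hc')))).mp (e1 ▸ mul_mem hv'.2 (Subgroup.inv_mem _ hv.2))
  have k3 := iso_cj F hμ.le hv.1 hv.2
  have k4 := iso_cj F hμ.le (h.le ht') k2
  have k5 : ∀ x ∈ W, x ∈ T → cj v x ∈ T := fun x _ hx => conj_mem_of_mem_normalizer (hTn hv.1) hx
  have k6 : ∀ x ∈ W, x ∈ T → (cj v)⁻¹ x ∈ T := fun x _ hx => inv_conj_mem_of_mem_normalizer (hTn hv.1) hx
  obtain ⟨c, hc1, e3⟩ := h.satF.exists_cj_of_fix hU (centric_centralizerIn_le hc) h1 h2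
    (((hμ.symm.trans k3).trans hμ).trans (k4.symm.trans k3.symm)) (fun x hx => by
      simp only [Perm.mul_apply, cj_apply, cj_inv_apply]
      rw [e _ (hm x hx), perm_apply_inv_self, e2]
      have k7 : t * v * x * (t * v)⁻¹ ∈ U := conj_mem_of_mem_normalizer ((Subgroup.mul_mem_cancel_left _
        (centralizerIn_le_normalizer S U hc')).mp (e2 ▸ (Subgroup.mul_mem_cancel_right _ (Subgroup.inv_mem _ hvU)).mp
          (cj_mem_autAll_iff.mp (autP_le_autAll E U hE)))) hx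
      rw [show c' * (t * v) * x * (c' * (t * v))⁻¹ = c' * (t * v * x * (t * v)⁻¹) * c'⁻¹ by group,
        conj_eq_of_mem_centralizer hc'.2 k7]
      group) (by
      have := conj_mem_trivMod (Subgroup.inv_mem _ k3.mem_autAll) k6 (mul_mem (mul_mem (Subgroup.inv_mem _
        (cj_mem_trivMod k2 fun x hx => inv_mul_conj_mem ht' (hTn (hμ.le hx)))) ht)
        (conj_mem_trivMod k3.mem_autAll k5 (Subgroup.inv_mem _ ht)))
      simpa [mul_assoc] using this)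
  refine ⟨t, ht', c, hc1, c', hc', e2, fun w hw => ?_⟩
  have := e3 _ (hμ.mem hw)
  simp only [Perm.mul_apply, cj_apply, cj_inv_apply, perm_inv_apply_self] at this
  rw [show t * v * c * μ w * (t * v * c)⁻¹ = t * v * (c * μ w * c⁻¹) * v⁻¹ * t⁻¹ by group, ← this]
  group

omit [Fact p.Prime] [Finite S] in
theorem Inv.cj_mem_autP (h : Inv E F) (hμ : Iso E U U μ) {v v' : Ω} (hv : v ∈ normalizerIn S U)
    (e : ∀ x ∈ U, μ (v * x * v⁻¹) = v' * μ x * v'⁻¹) : cj (v' * v⁻¹) ∈ autP E U := by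
  refine mem_of_eqOn (fixP_le_autP E U) ((h.conj_aut (iso_cj F (hμ.le.trans h.le) hv.1 hv.2) hμ.symm).trans
    hμ).mem_autP fun x hx => ?_
  have k := hμ.inv_mem (inv_conj_mem_of_mem_normalizer hv.2 hx)
  simp only [Perm.mul_apply, cj_apply, cj_inv_apply]
  rw [e _ k, perm_apply_inv_self]
  group

omit [Fact p.Prime] [Finite S] in
theorem conj_apply_of_mem_autS (hβ : β ∈ autAll Q) {v : Ω} (h : β * cj v * β⁻¹ ∈ autS V Q) :
    ∃ v' ∈ V, v' ∈ Subgroup.normalizer (Q : Set Ω) ∧ ∀ x ∈ Q, β (v * x * v⁻¹) = v' * β x * v'⁻¹ :=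
  let ⟨v', h1, h2, e⟩ := mem_autS.mp h
  ⟨v', h1, h2, fun x hx => by simpa [cj_apply] using e _ (autAll_mem hβ hx)⟩

/-- Extension of `p'`-elements of `plusL` acting trivially modulo `T`. -/
theorem Nrm.ext_plus (h : Nrm p E F) (hU : F.IsFullyNormalized (Q ⊓ T)) (hc : E.IsCentric (Q ⊓ T))
    (hQ : F.IsFullyAutomized p Q) (hβ : β ∈ plusL F E Q) (hp : PP p Q β) (hQV : Q ≤ V) (hV : V ≤ normalizerIn S Q)
    (hn : ∀ α ∈ autS V Q, β * α * β⁻¹ ∈ autS V Q) :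
    ∃ μ, Iso F (centralizerIn S (Q ⊓ T) ⊔ V) (centralizerIn S (Q ⊓ T) ⊔ V) μ ∧
      μ ∈ trivMod (centralizerIn S (Q ⊓ T) ⊔ V) T ∧ PP p (centralizerIn S (Q ⊓ T) ⊔ V) μ ∧ ∀ x ∈ Q, μ x = β x := by
  have hF := h.satF
  have hTn := sc_le_normalizer h.sc
  have hQS := hQ.1
  have : Finite Q := finite_of_le hQS
  have : Finite (Q ⊓ T : Subgroup Ω) := finite_of_le hU.1
  have hβ1 := (mem_autP hQS).mp hβ.1.1
  have hβ2 := (mem_autP inf_le_right).mp hβ.2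
  have hVU : V ≤ normalizerIn S (Q ⊓ T) := fun v hv => ⟨(hV hv).1, mem_normalizer_inf (hV hv).2 (hTn (hV hv).1)⟩
  have hVW : V ≤ normalizerIn S (hat S (Q ⊓ T)) := fun v hv => ⟨(hV hv).1, mem_normalizer_hat (hV hv).1 (hVU hv).2⟩
  have hVC : V ≤ Subgroup.normalizer (centralizerIn S (Q ⊓ T) : Set Ω) := fun v hv =>
    mem_normalizer_centralizerIn (Subgroup.le_normalizer (hV hv).1) (hVU hv).2
  have hWc := hF.centric_sup_centralizerIn (hF.fc_of_fn hU)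
  have hY : centralizerIn S (Q ⊓ T) ⊔ V ≤ S := sup_le inf_le_left (hV.trans inf_le_left)
  have hWY : hat S (Q ⊓ T) ≤ centralizerIn S (Q ⊓ T) ⊔ V := sup_le ((inf_le_left.trans hQV).trans le_sup_right)
    le_sup_left
  obtain ⟨γ, g1, g2, g3, g4⟩ := h.exists_ext_hat_pp hc hβ2 (hp.anti inf_le_left)
  have key : ∀ v ∈ V, ∃ t ∈ T, ∃ c ∈ centralizerIn S (Q ⊓ T), t * v ∈ centralizerIn S (Q ⊓ T) ⊔ V ∧
      ∀ w ∈ hat S (Q ⊓ T), γ (v * w * v⁻¹) = (t * v * c) * γ w * (t * v * c)⁻¹ := fun v hv => by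
    obtain ⟨v', k1, -, e⟩ := conj_apply_of_mem_autS hβ1.mem_autAll (hn _ (cj_mem_autS hv (hV hv).2))
    obtain ⟨t, k3, c, k4, c', k5, e1, e2⟩ := h.exists_conj_plus hU hc le_rfl (le_inf (hat_le hU.1)
      (hat_le_normalizer S _)) g1 (trivMod_mono _ inf_le_right g2) (hVW hv) (hVU hv).2 (hVW k1)
      (h.cj_mem_autP hβ2 (hVU hv) fun x hx => e x hx.1) (fun x hx => by
        rw [g4 _ (conj_mem_of_mem_normalizer (hVU hv).2 hx), g4 x hx, e x hx.1]) fun _ => (hβ2.congr g4).inv_mem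
    exact ⟨t, k3, c, k4, (Subgroup.mul_mem_cancel_left _ (Subgroup.mem_sup_left k5)).mp
      (e1 ▸ Subgroup.mem_sup_right k1), e2⟩
  have key2 : ∀ μ, Mor F (centralizerIn S (Q ⊓ T) ⊔ V) μ → (∀ w ∈ hat S (Q ⊓ T), μ w = γ w) → ∀ v ∈ V,
      ∃ t ∈ T, ∃ c ∈ centralizerIn S (Q ⊓ T), t * v ∈ centralizerIn S (Q ⊓ T) ⊔ V ∧ μ v = t * v * c :=
    fun μ k1 e v hv => by
      obtain ⟨t, k2, c, k3, k4, e1⟩ := key v hv
      refine ⟨t, k2, c * ((t * v * c)⁻¹ * μ v), mul_mem k3 (centralizerIn_anti S (le_sup_left : _ ≤ hat S _)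
        (mem_centralizerIn'.mpr ⟨mul_mem (S.inv_mem (mul_mem (hY k4) k3.1)) (k1.mem (Subgroup.mem_sup_right hv)), fun y hy => ?_⟩)), k4,
        by group⟩
      obtain ⟨w, hw, rfl⟩ := g1.exists_eq hy
      have := k1.homOn.map_conj (Subgroup.mem_sup_right hv) (hWY hw)
      rw [e _ (conj_mem_of_mem_normalizer (hVW hv).2 hw), e1 w hw, e w hw] at this
      rw [show (t * v * c)⁻¹ * μ v * γ w * ((t * v * c)⁻¹ * μ v)⁻¹ = (t * v * c)⁻¹ * (μ v * γ w * (μ v)⁻¹) * (t * v * c)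
        by group, ← this]
      group
  obtain ⟨μ₀, m1, e0⟩ := receptive_extend_of_le (R := V) (hF.rec_of_centric hWc) g1 fun v hv => by
    obtain ⟨t, -, c, k3, k4, e1⟩ := key v hv
    exact mem_extP.mpr ⟨(hV hv).1, (hVW hv).2, _, mul_mem (hY k4) k3.1, e1⟩
  replace m1 := m1.mono (sup_le_sup_right le_sup_right V)
  have m2 := m1.iso_self (m1.homOn.mapsTo_sup (fun c hc => hWY ((e0 c (Subgroup.mem_sup_right hc)).symm ▸
    g1.mem (Subgroup.mem_sup_right hc))) fun v hv => by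
      obtain ⟨t, -, c, k3, k4, e1⟩ := key2 μ₀ m1 e0 v hv
      exact e1 ▸ mul_mem k4 (Subgroup.mem_sup_left k3))
  obtain ⟨n, m3, e1⟩ := m2.exists_pp_pow (g3.congr (fun _ => g1.mem) e0)
  have m4 := m2.pow n
  set μ := μ₀ ^ n
  replace e1 : ∀ w ∈ hat S (Q ⊓ T), μ w = γ w := fun w hw => (e1 w hw).trans (e0 w hw)
  have m5 : ∀ c ∈ centralizerIn S (Q ⊓ T), c⁻¹ * μ c ∈ T := fun c hc => by
    rw [e1 c (Subgroup.mem_sup_right hc)]; exact (g2.2 c (Subgroup.mem_sup_right hc)).2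
  have m6 : μ ∈ trivMod (centralizerIn S (Q ⊓ T) ⊔ V) T := by
    refine m3.trivMod_trans (B := (centralizerIn S (Q ⊓ T) ⊔ V) ⊓ (T ⊔ centralizerIn S (Q ⊓ T)))
      (hF.pg.to_le (inf_le_left.trans hY)) inf_le_left ((trivMod_inf _ _).ge (mem_trivMod_sup m4.mem_autAll hVC
        (fun v hv => mem_normalizer_sup (hTn (hV hv).1) (hVC hv)) (fun c hc => Subgroup.mem_sup_left (m5 c hc))
        fun v hv => ?_)) fun b hb => m4.mor.inv_mul_mem_of_mem_sup h.sc le_sup_left m5 hb.1 hb.2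
    obtain ⟨t, k2, c, k3, -, e2⟩ := key2 μ m4.mor e1 v hv
    rw [e2, show v⁻¹ * (t * v * c) = v⁻¹ * t * v * c by group]
    exact Subgroup.mul_mem_sup (inv_conj_mem_of_mem_normalizer (hTn (hV hv).1) k2) k3
  have hQY := hQV.trans (le_sup_right : V ≤ centralizerIn S (Q ⊓ T) ⊔ V)
  have e2 : ∀ x ∈ Q ⊓ T, μ x = β x := fun x hx => (e1 x (Subgroup.mem_sup_left hx)).trans (g4 x hx)
  have m7 : Iso F Q Q μ := (m4.mor.mono hQY).iso_self fun q hq => by
    refine (Q.mul_mem_cancel_left (Q.inv_mem (hβ1.mem hq))).mp (centric_centralizerIn_le hc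
      (mem_centralizerIn'.mpr ⟨?_, fun y hy => ?_⟩)).1
    · have := mul_mem (T.inv_mem (hβ.1.2.2 q hq)) (m6.2 q (hQY hq))
      rwa [show (q⁻¹ * β q)⁻¹ * (q⁻¹ * μ q) = (β q)⁻¹ * μ q by group] at this
    · obtain ⟨x, hx, rfl⟩ := hβ2.exists_eq hy
      have k1 := m4.homOn.map_conj (hQY hq) (hQY hx.1)
      rw [e2 _ (conj_mem_of_mem_normalizer (hVU (hQV hq)).2 hx), hβ1.homOn.map_conj hq hx.1, e2 x hx] at k1
      rw [show (β q)⁻¹ * μ q * β x * ((β q)⁻¹ * μ q)⁻¹ = (β q)⁻¹ * (μ q * β x * (μ q)⁻¹) * β q by group, ← k1]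
      group
  have hJ : ∀ ρ ∈ autP F Q, ∀ κ ∈ autP F Q ⊓ (trivMod Q (Q ⊓ T) ⊓ fixP (Q ⊓ T)),
      ρ * κ * ρ⁻¹ ∈ autP F Q ⊓ (trivMod Q (Q ⊓ T) ⊓ fixP (Q ⊓ T)) := fun ρ hρ κ hκ =>
    have k := ((mem_autP hQS).mp hρ).inf_sc h.sc
    ⟨mul_mem (mul_mem hρ hκ.1) (Subgroup.inv_mem _ hρ), conj_mem_trivMod (autP_le_autAll F _ hρ)
      (fun _ _ => k.mem) hκ.2.1, (conj_mem_fixP k.mem_iff).mpr hκ.2.2⟩
  have hJp := (pMod_trivMod (hF.pg.to_le hU.1) (inf_le_left : Q ⊓ T ≤ Q)).mono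
    (inf_le_right : autP F Q ⊓ _ ≤ _)
  obtain ⟨g, hg, e3⟩ := hp.exists_conj (m3.anti hQY) (le_inf (fixP_le_autP F Q) (le_inf
    (trivMod_bot Q ▸ trivMod_mono _ bot_le) (fixP_anti inf_le_left))) (inf_le_left.trans (autP_le_autAll F Q)) hJp
    hβ1.mem_autAll m7.mem_autAll (le_normalizer_of_conj_mem hJ hβ1.mem_autP)
    ⟨(m7.trans hβ1.symm).mem_autP, (trivMod_inf Q T).symm ▸ mul_mem (Subgroup.inv_mem _ hβ.1.2)
      ⟨m7.mem_autAll, fun x hx => m6.2 x (hQY hx)⟩, inv_mul_mem_fixP.mpr e2⟩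
  obtain ⟨y, y1, y2, e4⟩ := mem_autS.mp (fa_le_autS hF.pg hQ inf_le_left hJp hJ hg)
  have y3 : y ∈ centralizerIn S (Q ⊓ T) ⊔ V := Subgroup.mem_sup_left (mem_centralizerIn'.mpr ⟨y1, fun x hx =>
    (e4 x hx.1).symm.trans (hg.2.2 x hx)⟩)
  have y4 := (iso_cj F hY y1 (Subgroup.le_normalizer y3)).symm
  refine ⟨(cj y)⁻¹ * μ * (cj y)⁻¹⁻¹, y4.conj m4, conj_mem_trivMod y4.mem_autAll
    (fun x _ hx => inv_conj_mem_of_mem_normalizer (hTn y1) hx) m6, m3.conj y4.mem_iff, fun x hx => ?_⟩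
  have k1 := e3 _ (autAll_mem (autP_le_autAll F Q hg.1) hx)
  rw [Perm.mul_apply, Perm.mul_apply, perm_inv_apply_self, e4 _ (hβ1.mem hx), e4 x hx] at k1
  simp only [inv_inv, Perm.mul_apply, cj_apply, cj_inv_apply, ← k1]
  group

omit [Finite S] [Fact p.Prime] in
theorem plusL_le_autAll : plusL F E Q ≤ autAll Q := inf_le_left.trans (inf_le_left.trans (autP_le_autAll F Q))

theorem Nrm.autS_inf_opr_le (h : Nrm p E F) (hU : F.IsFullyNormalized (Q ⊓ T)) (hc : E.IsCentric (Q ⊓ T))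
    (hQ : F.IsFullyNormalized Q) : autS S Q ⊓ opr p Q (plusL F E Q) ≤ autS T Q := by
  have hF := h.satF
  have hTn := sc_le_normalizer h.sc
  have hQS := hQ.1
  have : Finite Q := finite_of_le hQS
  have hY : centralizerIn S (Q ⊓ T) ⊔ Q ≤ S := sup_le inf_le_left hQS
  have hWY : hat S (Q ⊓ T) ≤ centralizerIn S (Q ⊓ T) ⊔ Q := sup_le (inf_le_left.trans le_sup_right) le_sup_left
  have hN : ∀ s ∈ S, s ∈ Subgroup.normalizer (Q : Set Ω) →
      s ∈ Subgroup.normalizer ((Q ⊓ T : Subgroup Ω) : Set Ω) ∧ s ∈ normalizerIn S (centralizerIn S (Q ⊓ T) ⊔ Q) :=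
    fun s k1 k2 => ⟨mem_normalizer_inf k2 (hTn k1), k1, mem_normalizer_sup (mem_normalizer_centralizerIn
      (Subgroup.le_normalizer k1) (mem_normalizer_inf k2 (hTn k1))) k2⟩
  have hL : opr p Q (plusL F E Q) ≤ (autP F (centralizerIn S (Q ⊓ T) ⊔ Q) ⊓ trivMod (centralizerIn S (Q ⊓ T) ⊔ Q) T ⊓
      autAll Q) ⊔ fixP Q := opr_le_iff.mpr fun β k1 k2 => by
    obtain ⟨μ, m1, m2, -, e⟩ := h.ext_plus hU hc (hF.fa_of_fn hQ) k1 k2 le_rfl (le_normalizerIn hQS) fun α hα =>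
      inv_conj_mem_of_mem_normalizer (Subgroup.inv_mem _ (autAll_le_normalizer_inn Q (plusL_le_autAll k1))) hα
    exact mem_sup_fixP_of_eqOn ⟨⟨m1.mem_autP, m2⟩, mem_of_eqOn (fixP_le_autAll Q) (plusL_le_autAll k1) e⟩ e
  have hnd := not_dvd_relIndex_of_normal ((opr_le p Q _).trans (inf_le_left.trans inf_le_left))
    (le_normalizer_opr (autP_le_autAll F Q) (le_normalizer_of_conj_mem fun ρ hρ β =>
      h.conj_mem_plusL ((mem_autP hQS).mp hρ))) (hF.not_dvd hQ)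
  rw [← Subgroup.inf_relIndex_right] at hnd
  refine focal_opr plusL_le_autAll (le_inf (fixP_le_autS _ _) (fixP_le_opr fixP_le_plusL)) inf_le_right
    ((pMod_autS hF.pg _).mono inf_le_left) hnd (fixP_le_autS _ _) fun x hx m hm hmx => ?_
  obtain ⟨s, hs, hsn, e⟩ := mem_autS.mp hx.1
  obtain ⟨μ, ⟨⟨m1, m2⟩, m3⟩, e1⟩ := exists_eqOn_of_mem_sup_fixP inf_le_right (hL hm)
  have m4 := (mem_autP hY).mp m1
  have m5 := (mem_autP inf_le_right).mp (opr_le p _ _ hm).2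
  obtain ⟨s', hs', hsn', e2⟩ := conj_apply_of_mem_autS (V := S) (v := s) m3 (mem_of_eqOn (fixP_le_autS _ _) hmx.1
    fun y hy => by
      obtain ⟨z, rfl⟩ := μ.surjective y
      have hz := (m3.2 z).mp hy
      simp only [Perm.mul_apply, perm_inv_apply_self, cj_apply]
      rw [e1 z hz, perm_inv_apply_self, e z hz, e1 _ (conj_mem_of_mem_normalizer hsn hz)])
  have m6 := m5.congr fun x hx => e1 x hx.1
  obtain ⟨t, ht, c, hc1, -, -, -, e3⟩ := h.exists_conj_plus hU hc hWY (sup_le (centralizerIn_le_normalizerIn S _)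
    fun q hq => ⟨hQS hq, (hN q (hQS hq) (Subgroup.le_normalizer hq)).1⟩) m4 m2 (hN s hs hsn).2 (hN s hs hsn).1
    (hN s' hs' hsn').2 (h.cj_mem_autP m6 ⟨hs, (hN s hs hsn).1⟩ fun x hx => e2 x hx.1) (fun x hx => e2 x hx.1)
    fun _ => m6.inv_mem
  obtain ⟨ν, n1, e4⟩ := receptive_extend (hF.rec_of_centric (centric_mono
    (hF.centric_sup_centralizerIn (hF.fc_of_fn hU)) hWY hY)) m4
  have n2 : s ∈ extP S _ μ := mem_extP.mpr ⟨hs, (hN s hs hsn).2.2, _, mul_mem (mul_mem (h.le ht) hs) hc1.1, e3⟩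
  have n3 := n1.inv_mul_mem_of_mem_sup h.sc (le_sup_left.trans m4.mor.le_extP) (fun c hc => by
    rw [e4 c (Subgroup.mem_sup_left hc)]; exact m2.2 c (Subgroup.mem_sup_left hc)) n2
    (h.mem_sup_of_cj inf_le_right (hF.fc_of_fn hU) hs (mem_of_eqOn (fixP_le_autP _ _) (opr_le p _ _ hx.2).2
      fun y hy => (e y hy.1).symm))
  have hQe := le_sup_right.trans m4.mor.le_extP
  have n4 := (m4.mor.iso_of_mem_autAll le_sup_right m3).congr fun x hx => e4 x (Subgroup.mem_sup_right hx)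
  have n5 := n1.mem_normalizerIn_img hQe n2 hsn
  rw [n4.img_eq] at n5
  refine mem_autS.mpr ⟨s⁻¹ * ν s, n3, mul_mem (Subgroup.inv_mem _ hsn) n5.2, fun y hy => ?_⟩
  have k6 : (m * x * m⁻¹) y = ν s * y * (ν s)⁻¹ := by
    obtain ⟨z, hz, rfl⟩ := n4.exists_eq hy
    rw [← n1.homOn.map_conj n2 (hQe hz), e4 z (Subgroup.mem_sup_right hz), e1 z hz, Perm.mul_apply, Perm.mul_apply,
      perm_inv_apply_self, e z hz, e4 _ (Subgroup.mem_sup_right (conj_mem_of_mem_normalizer hsn hz)),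
      e1 _ (conj_mem_of_mem_normalizer hsn hz)]
  rw [Perm.mul_apply, Perm.inv_eq_iff_eq, k6, e _ (conj_mem_of_mem_normalizer
    (mul_mem (Subgroup.inv_mem _ hsn) n5.2) hy)]
  group

/-- A subsystem of `p`-power index of a normal subsystem over a strongly closed subgroup is normal. -/
theorem Nrm.nrm_of_pIdx (h : Nrm p E F) (hD : PIdx p D E) (hU : F.StronglyClosed U) : Nrm p D F := by
  have := h.finite
  have : Finite U := finite_of_le hD.le
  have hUn := sc_le_normalizer hU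
  have hTn := sc_le_normalizer h.sc
  have h1 := hD.nrm h.satE (h.le.trans hUn)
  refine WN.nrm_of_pp (h1.wn_of_tr h.toWN fun α hα => ?_) fun α hα0 hp => ?_
  · obtain ⟨D', t⟩ := exists_tr (T' := U) D (hα.homOn.mono hD.le) (hα.mor.iso_of_wc (wc_of_sc hU) hD.le).img_eq.symm
    obtain rfl := hD.eq (t.pIdx (h.tr hα) h.satE.pg hD)
    exact t
  obtain ⟨γ, g1, g2, g3, g4⟩ := h1.exists_ext_hat_pp (centric_top D) hα0 hp
  have k1 : hat T U ≤ T := hat_le hD.le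
  have k2 : hat T U ⊓ T = hat T U := inf_eq_left.mpr k1
  have k3 : S ≤ Subgroup.normalizer (hat T U : Set Ω) := fun s hs =>
    mem_normalizer_sup (hUn hs) (mem_normalizer_centralizerIn (hTn hs) (hUn hs))
  have k4 := isFullyNormalized_of_normal F (k1.trans h.le) k3
  have k5 : hat T U ≤ hat S U := sup_le_sup_left (inf_le_inf_right _ h.le) U
  have : Finite (hat T U) := finite_of_le k1
  obtain ⟨μ, m1, m2, m3, e⟩ := h.ext_plus (Q := hat T U) (V := hat S U) (k2.symm ▸ k4)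
    (k2.symm ▸ h.satE.centric_sup_centralizerIn (sc_fc h.satE h1.sc)) (h.satF.fa_of_fn k4)
    ⟨⟨(g1.of_sub h.sub).mem_autP, trivMod_mono _ hD.le g2⟩, k2.symm ▸ g1.mem_autP⟩ g3 k5
    (le_inf (hat_le hU.1) ((hat_le hU.1).trans k3)) fun α hα => by
      obtain ⟨v, hv, -, e⟩ := mem_autS.mp hα
      obtain ⟨u, hu, c, hc, rfl⟩ := mem_hat.mp hv
      have a1 := iso_cj F (k1.trans h.le) hc.1 (k3 hc.1)
      have a0 : γ * (cj c * γ⁻¹ * (cj c)⁻¹) ∈ fixP U := fun x hx => by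
        have a := (hα0.congr g4).inv_mem hx
        have b : (cj c)⁻¹ x = x := Subgroup.inv_mem _ (cj_mem_fixP.mpr hc.2) x hx
        simp only [Perm.mul_apply, b]
        rw [cj_mem_fixP.mpr hc.2 _ a, perm_apply_inv_self]
      obtain ⟨t, ht, htn, e'⟩ := mem_autS.mp (fa_le_autS h.satE.pg (h.satE.fa_of_fn
        (isFullyNormalized_of_normal E k1 (h.le.trans k3))) (X := autP E (hat T U) ⊓ (trivMod (hat T U) U ⊓ fixP U))
        inf_le_left ((pMod_trivMod hD.sat.pg le_sup_left).mono inf_le_right) (fun ρ hρ κ hκ =>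
          have k := ((mem_autP k1).mp hρ).mor.iso_of_wc (wc_of_sc h1.sc) le_sup_left
          ⟨mul_mem (mul_mem hρ hκ.1) (Subgroup.inv_mem _ hρ), conj_mem_trivMod (autP_le_autAll E _ hρ)
            (fun _ _ => k.mem) hκ.2.1, (conj_mem_fixP k.mem_iff).mpr hκ.2.2⟩)
        ⟨((h.conj_aut a1 g1.symm).trans g1).mem_autP, mul_mem g2 (conj_mem_trivMod a1.mem_autAll
          (fun x _ hx => conj_mem_of_mem_normalizer (hUn hc.1) hx) (Subgroup.inv_mem _ g2)), a0⟩)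
      have a3 : γ * (cj c * γ⁻¹ * (cj c)⁻¹) ∈ autS (hat S U) (hat T U) := mem_autS.mpr ⟨t, Subgroup.mem_sup_right
        (mem_centralizerIn'.mpr ⟨h.le ht, fun x hx => (e' x (Subgroup.mem_sup_left hx)).symm.trans (a0 x hx)⟩), htn, e'⟩
      have a4 := autS_mono k5 _ (conj_mem_of_mem_normalizer (autAll_le_normalizer_inn _ g1.mem_autAll)
        (cj_mem_autS (Subgroup.mem_sup_left hu : u ∈ hat T U) (k3 (hU.1 hu))))
      refine mem_of_eqOn (fixP_le_autS _ _) (mul_mem (mul_mem a4 a3) (cj_mem_autS (Subgroup.mem_sup_right hc)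
        (k3 hc.1))) fun x hx => ?_
      simp only [Perm.mul_apply, perm_inv_apply_self]
      simp only [e _ (g1.inv_mem hx), cj_apply]
      congr 1; group
  rw [sup_eq_right.mpr (((centralizerIn_anti S (le_inf le_sup_left hD.le)).trans le_sup_right))] at m1 m2 m3
  have m4 := m3.trivMod_trans (A := U) (h.satE.pg.to_le k1) k5 (by rwa [← hat_inf hD.le h.le, trivMod_inf])
    fun b hb => (e b hb).symm ▸ g2.2 b hb
  exact ⟨μ, m1.mor, fun x hx => (e x (Subgroup.mem_sup_left hx)).trans (g4 x hx),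
    fun c hc => m4.2 c (Subgroup.mem_sup_right hc)⟩

end Cfsg.Lib.Fus
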