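/-
The product of a normal subsystem with the Sylow subgroup.
-/
import Cfsg.Agent.Lib.Fus.Plus

set_option autoImplicit false
set_option linter.unusedSectionVars false

namespace Cfsg.Lib.Fus

open Cfsg Cfsg.FusionSystem Equiv

variable {Ω : Type*} [Group Ω] {S T U V W Y : Subgroup Ω} {F : FusionSystem S} {E : FusionSystem T}
  {D : FusionSystem U} {P Q R X : Subgroup Ω} {σ τ α β γ δ μ : Perm Ω} {p : ℕ}

/-- generators of the groupoid of maps "induced by `E`" -/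
def BP (p : ℕ) (F : FusionSystem S) (E : FusionSystem T) (Q : Subgroup Ω) (τ : Perm Ω) : Prop :=
  (Q = S ∧ ∃ t ∈ T, τ = cj t) ∨ (Q ≤ S ∧ E.IsCentric (Q ⊓ T) ∧ τ ∈ plusL F E Q ∧ PP p Q τ)

/-- maps between subgroups of `S` "induced by `E`" -/
def EP (p : ℕ) (F : FusionSystem S) (E : FusionSystem T) (P : Subgroup Ω) (σ : Perm Ω) : Prop :=
  Gen S (BP p F E) P σ

theorem ep_one (hP : P ≤ S) : EP p F E P 1 := Gen.fix hP fun _ _ => rfl

theorem ep_cj (hP : P ≤ S) {t : Ω} (ht : t ∈ T) : EP p F E P (cj t) := Gen.of_base (Or.inl ⟨rfl, t, ht, rfl⟩) hP hP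

theorem ep_plus (hP : P ≤ S) (hc : E.IsCentric (P ⊓ T)) (h : τ ∈ plusL F E P) (hp : PP p P τ) : EP p F E P τ :=
  Gen.of_base (Or.inr ⟨hP, hc, h, hp⟩) le_rfl hP

theorem EP.mono (h : EP p F E P σ) (hQ : Q ≤ P) : EP p F E Q σ := Gen.mono h hQ

theorem EP.comp (h : EP p F E P σ) (h' : EP p F E Q τ) (hm : ∀ x ∈ P, σ x ∈ Q) : EP p F E P (τ * σ) :=
  Gen.comp h h' hm

theorem EP.congr (h : EP p F E P σ) (e : ∀ x ∈ P, τ x = σ x) : EP p F E P τ := Gen.congr h e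

variable [Finite S]

theorem BP.iso (h : Inv E F) (k : BP p F E Q τ) : Iso F Q Q τ ∧ τ ∈ trivMod Q T ∧ Mor E (Q ⊓ T) τ ∧ BP p F E Q τ⁻¹ := by
  rcases k with ⟨rfl, t, ht, rfl⟩ | ⟨k1, k2, k3, k4⟩
  · exact ⟨(mor_cj F le_rfl (h.le ht)).iso_top, cj_mem_trivMod (Subgroup.le_normalizer (h.le ht))
      fun x hx => inv_mul_conj_mem ht (sc_le_normalizer h.sc hx), mor_cj E inf_le_right ht,
      Or.inl ⟨rfl, t⁻¹, T.inv_mem ht, (map_inv cj t).symm⟩⟩
  · exact ⟨(mem_autP k1).mp k3.1.1, k3.1.2, ((mem_autP inf_le_right).mp k3.2).mor,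
      Or.inr ⟨k1, k2, Subgroup.inv_mem _ k3, k4.inv⟩⟩

theorem EP.mor (k : EP p F E P σ) (h : Inv E F) : Mor F P σ := Gen.mor k le_rfl fun _ _ a => (a.iso h).1.mor

theorem EP.triv (k : EP p F E P σ) (h : Inv E F) : ∀ x ∈ P, x⁻¹ * σ x ∈ T := by
  induction k with
  | fix _ e => exact fun x hx => by rw [e x hx, inv_mul_cancel]; exact T.one_mem
  | step _ k2 k3 e ih =>
    intro x hx
    have := mul_mem (ih x hx) ((k2.iso h).2.1.2 _ (k3 x hx))
    rwa [mul_assoc, mul_inv_cancel_left, ← e x hx] at this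

theorem EP.mem (k : EP p F E P σ) (h : Inv E F) (hT : T ≤ R) (hP : P ≤ R) : ∀ x ∈ P, σ x ∈ R := fun x hx =>
  (R.mul_mem_cancel_left (R.inv_mem (hP hx))).mp (hT (k.triv h x hx))

theorem EP.morE (k : EP p F E P σ) (h : Inv E F) : Mor E (P ⊓ T) σ := by
  induction k with
  | fix _ e => exact mor_of_fix E inf_le_right fun x hx => e x hx.1
  | step _ k2 k3 e ih => exact (ih.comp (k2.iso h).2.2.1 fun x hx => ⟨k3 x hx.1, ih.mem hx⟩).congr fun x hx => e x hx.1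

theorem EP.inv (k : EP p F E P σ) (h : Inv E F) : EP p F E (img σ P) σ⁻¹ := by
  induction k with
  | fix h1 h2 =>
    rw [img_eq_self_of_fix h2]; exact .fix h1 fun x hx => by rw [Perm.inv_eq_iff_eq, h2 x hx]
  | @step σ τ ρ Q h1 h2 h3 h4 ih =>
    have hρ := EP.mor (.step h1 h2 h3 h4) h
    have h5 : img ρ P ≤ Q := img_le_iff.mpr fun x hx => by rw [h4 x hx]; exact (h2.iso h).1.mem (h3 x hx)
    refine ((Gen.of_base (h2.iso h).2.2.2 h5 hρ.img_le).comp ih fun y hy => ?_).congr fun y hy => ?_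
    · obtain ⟨x, hx, rfl⟩ := hρ.homOn.mem_img.mp hy
      rw [h4 x hx, perm_inv_apply_self]; exact apply_mem_img σ hx
    · obtain ⟨x, hx, rfl⟩ := hρ.homOn.mem_img.mp hy
      rw [perm_inv_apply_self, Perm.mul_apply, h4 x hx, perm_inv_apply_self, perm_inv_apply_self]

theorem EP.conj (k : EP p F E P σ) (h : Inv E F) (hα : Mor F R α) (hT : T ≤ R) (hP : P ≤ R) :
    EP p F E (img α P) (α * σ * α⁻¹) := by
  induction k with
  | fix h1 h2 =>
    refine .fix (hα.mono hP).img_le fun y hy => ?_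
    obtain ⟨x, hx, rfl⟩ := (hα.homOn.mono hP).mem_img.mp hy
    simp [h2 x hx]
  | @step σ τ ρ Q h1 h2 h3 h4 ih =>
    have k1 : EP p F E (img α (Q ⊓ R)) (α * τ * α⁻¹) := by
      have k2 := hα.iso_of_le (inf_le_right : Q ⊓ R ≤ R)
      rcases h2 with ⟨rfl, t, ht, rfl⟩ | ⟨a1, a2, a3, a4⟩
      · exact (ep_cj k2.le' (hα.mem_of_sc h.sc (hT ht) ht)).congr (hα.conj_cj inf_le_right k2 (hT ht))
      · have e : Q ⊓ R ⊓ T = Q ⊓ T := by rw [inf_assoc, inf_eq_right.mpr hT]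
        have a5 := (((mem_autP a1).mp a3.1.1).mor.mono (inf_le_left : Q ⊓ R ≤ Q)).iso_self fun x hx =>
          ⟨autAll_mem a3.1.2.1 hx.1, (R.mul_mem_cancel_left (R.inv_mem hx.2)).mp (hT (a3.1.2.2 x hx.1))⟩
        exact ep_plus k2.le' (h.centric_iso (e.symm ▸ a2) (k2.inf_sc h.sc)) (h.conj_mem_plusL k2
          ⟨⟨a5.mem_autP, a5.mem_autAll, fun x hx => a3.1.2.2 x hx.1⟩, e.symm ▸ a3.2⟩)
          ((a4.anti inf_le_left).conj k2.mem_iff)
    refine (ih.comp k1 fun y hy => ?_).congr fun y hy => ?_ <;>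
    obtain ⟨x, hx, rfl⟩ := (hα.homOn.mono hP).mem_img.mp hy
    · simpa using apply_mem_img α (⟨h3 x hx, EP.mem h1 h hT hP x hx⟩ : σ x ∈ Q ⊓ R)
    · simp [h4 x hx]

theorem EP.img_sup (k : EP p F E P σ) (h : Inv E F) : img σ P ⊔ T = P ⊔ T :=
  le_antisymm (sup_le (img_le_iff.mpr (k.mem h le_sup_right le_sup_left)) le_sup_right) (sup_le (fun x hx =>
    (Subgroup.mul_mem_cancel_right _ (Subgroup.mem_sup_left (apply_mem_img σ hx))).mp
      (Subgroup.mem_sup_right (k.triv h x hx)) |> (Subgroup.inv_mem_iff _).mp) le_sup_right)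

variable [Fact p.Prime]

/-- The Frattini factorization for arbitrary subgroups of `S`. -/
theorem Inv.frat_plus (h : Inv E F) (hF : Sat p F) (hσ : Mor F P σ) :
    ∃ β α, EP p F E P β ∧ Mor F (P ⊔ T) α ∧ ∀ x ∈ P, σ x = α (β x) := by
  have hi : ∀ {P σ β α}, Mor F P σ → EP p F E P β → Mor F (P ⊔ T) α → (∀ x ∈ P, σ x = α (β x)) →
      img α (img β P) = img σ P ∧ img α (P ⊔ T) = img σ P ⊔ T := fun {P σ β α} k1 k2 k3 e => by
    have a : img α (img β P) = img σ P := by rw [← (k2.mor h).homOn.img_mul]; exact (img_congr e).symm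
    refine ⟨a, ?_⟩
    rw [← k2.img_sup h] at k3 ⊢
    rw [k3.homOn.img_sup, a, (k3.iso_of_wc (wc_of_sc h.sc) le_sup_right).img_eq]
  obtain ⟨G, hG⟩ := exists_subsystem F S (fun P σ => Mor F P σ ∧
      ∃ β α, EP p F E P β ∧ Mor F (P ⊔ T) α ∧ ∀ x ∈ P, σ x = α (β x)) (fun k => k.1) (fun k => k.1.le)
    (fun k _ => k.1.mem) (fun ⟨k1, β, α, k2, k3, e⟩ e' => ⟨k1.congr e', β, α, k2, k3, fun x hx => (e' x hx).trans (e x hx)⟩)
    (fun k1 hg => ⟨mor_cj F k1 hg, 1, _, ep_one k1, mor_cj F (sup_le k1 h.le) hg, fun _ _ => rfl⟩)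
    (fun {P Q σ τ} ⟨k1, β, α, k2, k3, e⟩ ⟨l1, β', α', l2, l3, e'⟩ hm => by
      obtain ⟨i1, i2⟩ := hi k1 k2 k3 e
      have a1 := (l2.mono (img_le_iff.mpr hm)).conj h k3.inv (i2 ▸ le_sup_right) (i2 ▸ le_sup_left)
      refine ⟨k1.comp l1 hm, _, α' * α, k2.comp a1 fun x hx => ?_, k3.comp l3 (img_le_iff.mp
        (i2 ▸ sup_le_sup_right (img_le_iff.mpr hm) T)), fun x hx => ?_⟩
      · simpa [e x hx] using apply_mem_img α⁻¹ (apply_mem_img σ hx)
      · rw [Perm.mul_apply, e' _ (hm x hx), e x hx]; simp)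
    fun {P σ} ⟨k1, β, α, k2, k3, e⟩ => by
      obtain ⟨i1, i2⟩ := hi k1 k2 k3 e
      refine ⟨k1.inv, _, α⁻¹, i1 ▸ (k2.inv h).conj h k3 le_sup_right (k2.img_sup h ▸ le_sup_left), i2 ▸ k3.inv,
        fun y hy => ?_⟩
      obtain ⟨x, hx, rfl⟩ := k1.homOn.mem_img.mp hy
      rw [perm_inv_apply_self, e x hx]
      simp
  exact ((hG P σ).mp (h.gen_plus hF (fun R σ k1 k2 => (hG R σ).mpr ⟨k2.mor, 1, σ, ep_one k2.le,
    (sup_eq_left.mpr k1).symm ▸ k2.mor, fun _ _ => rfl⟩) (fun R σ k1 k2 k3 k4 => (hG R σ).mpr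
      ⟨((mem_autP k1).mp k3.1.1).mor, σ, 1, ep_plus k1 k2 k3 k4, mor_one F (sup_le k1 h.le), fun _ _ => rfl⟩) P σ hσ)).2

theorem EP.strong (k : EP p F E P σ) (h : Inv E F) (hF : Sat p F) (hτ : Mor F R τ) (hP : P ≤ R)
    (hm : ∀ x ∈ P, σ x ∈ R) : EP p F E (img τ P) (τ * σ * τ⁻¹) := by
  obtain ⟨β, α, k1, k2, e⟩ := h.frat_plus hF hτ
  have k3 := (k1.mono hP).mor h
  have k4 := EP.conj ((((k1.mono hP).inv h).comp k fun _ => k3.iso.inv_mem).comp k1 fun y hy =>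
    hm _ (k3.iso.inv_mem hy)) h k2 le_sup_right (img_le_iff.mpr (EP.mem (k1.mono hP) h le_sup_right
      (hP.trans le_sup_left)))
  rw [← k3.homOn.img_mul, ← img_congr (σ := α * β) (τ := τ) fun x hx => e x (hP hx)] at k4
  refine k4.congr fun y hy => ?_
  obtain ⟨x, hx, rfl⟩ := (hτ.homOn.mono hP).mem_img.mp hy
  rw [Perm.mul_apply, Perm.mul_apply, perm_inv_apply_self, e x (hP hx), e _ (hm x hx)]
  simp

omit [Fact p.Prime] in
/-- automorphisms "induced by `E`" -/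
def Inv.autEP (h : Inv E F) (p : ℕ) (P : Subgroup Ω) : Subgroup (Perm Ω) where
  carrier := {σ | σ ∈ autP F P ∧ (P ≤ S → EP p F E P σ)}
  one_mem' := ⟨one_mem _, ep_one⟩
  mul_mem' := fun k1 k2 => ⟨mul_mem k1.1 k2.1, fun hP => (k2.2 hP).comp (k1.2 hP)
    fun _ => autAll_mem (autP_le_autAll F P k2.1)⟩
  inv_mem' := fun k => ⟨Subgroup.inv_mem _ k.1, fun hP => ((mem_autP hP).mp k.1).img_eq ▸ (k.2 hP).inv h⟩

omit [Fact p.Prime] in
theorem Inv.mem_autEP (h : Inv E F) (hP : P ≤ S) : σ ∈ h.autEP p P ↔ Iso F P P σ ∧ EP p F E P σ :=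
  ⟨fun k => ⟨(mem_autP hP).mp k.1, k.2 hP⟩, fun k => ⟨k.1.mem_autP, fun _ => k.2⟩⟩

omit [Fact p.Prime] in
theorem Inv.fixP_le_autEP (h : Inv E F) : fixP P ≤ h.autEP p P := fun _ k => ⟨fixP_le_autP F P k, fun hP => .fix hP k⟩

theorem Inv.conj_mem_autEP (h : Inv E F) (hF : Sat p F) (hτ : Iso F P Q τ) (hσ : σ ∈ h.autEP p P) :
    τ * σ * τ⁻¹ ∈ h.autEP p Q :=
  let ⟨k1, k2⟩ := (h.mem_autEP hτ.le).mp hσ
  (h.mem_autEP hτ.le').mpr ⟨hτ.conj k1, hτ.img_eq ▸ k2.strong h hF hτ.mor le_rfl fun _ => k1.mem⟩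

theorem Sat.exists_good_plus (hF : Sat p F) (hT : F.StronglyClosed T) (hP : P ≤ S) :
    ∃ Q ψ, Iso F P Q ψ ∧ Mor F (normalizerIn S P) ψ ∧ F.IsFullyNormalized Q ∧ F.IsFullyNormalized (Q ⊓ T) := by
  obtain ⟨U', Q, ψ, k1, k2, k3, k4, k5⟩ := hF.exists_good_pair (inf_le_left : P ⊓ T ≤ P) fun x hx =>
    ⟨hP hx, mem_normalizer_inf (Subgroup.le_normalizer hx) (sc_le_normalizer hT (hP hx))⟩
  obtain rfl := k2.eq_of_eq (k1.inf_sc hT)
  refine ⟨Q, ψ, k1, k5.mono fun g hg => ⟨⟨hg.1, mem_normalizer_inf hg.2 (sc_le_normalizer hT hg.1)⟩, hg.2⟩,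
    hF.fn_iff.mpr ⟨k4.fc, (isFullyAutomized_iff hF.pg).mpr ⟨k1.le', ?_⟩⟩, k3⟩
  simpa [inf_eq_left.mpr (show autP F Q ≤ autAll (Q ⊓ T) from fun σ hσ =>
    (((mem_autP k1.le').mp hσ).inf_sc hT).mem_autAll)] using k4.not_dvd

/-- The product `E S`. -/
theorem Nrm.exists_es (h : Nrm p E F) : ∃ D : FusionSystem S, Sat p D ∧ D.IsSubsystemOf F ∧ PIdx p E D ∧
    (∀ P σ, EP p F E P σ → Mor D P σ) ∧ ∀ P σ, Iso D P P σ → PP p P σ → EP p F E P σ := by
  have := h.finite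
  have hF := h.satF
  have hTn := sc_le_normalizer h.sc
  obtain ⟨D, hD⟩ := exists_genB (S := S) p (ℋ := fun P => P ≤ S ∧ E.IsCentric (P ⊓ T)) (B := plusL F E)
    (fun _ k => k.1) fun _ _ => plusL_le_autAll
  have hsub : D.IsSubsystemOf F := isSubsystemOf_iff.mpr fun P σ hσ => ((hD P σ).mp hσ).mor le_rfl (by
    rintro Q τ (⟨rfl, g, hg, rfl⟩ | k)
    exacts [mor_cj F le_rfl hg, ((mem_autP k.1.1).mp k.2.1.1.1).mor])
  have hEP : ∀ P σ, EP p F E P σ → Mor D P σ := fun P σ k => (hD P σ).mpr (Gen.imp k (by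
    rintro Q τ (⟨rfl, t, ht, rfl⟩ | ⟨k1, k2, k3, k4⟩)
    exacts [Gen.of_base (Or.inl ⟨rfl, t, h.le ht, rfl⟩) le_rfl le_rfl,
      Gen.of_base (Or.inr ⟨⟨k1, k2⟩, k3, k4⟩) le_rfl k1]))
  have hdec : ∀ P σ, Mor D P σ → ∃ s ∈ S, EP p F E P ((cj s)⁻¹ * σ) := fun P σ k => by
    replace k := (hD P σ).mp k
    induction k with
    | fix k1 e => exact ⟨1, S.one_mem, .fix k1 fun x hx => by simp [e x hx]⟩
    | @step σ τ ρ Q k1 k2 k3 e ih =>
      obtain ⟨s, hs, k4⟩ := ih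
      rcases k2 with ⟨rfl, g, hg, rfl⟩ | ⟨⟨a1, a2⟩, a3, a4⟩
      · exact ⟨g * s, mul_mem hg hs, k4.congr fun x hx => by
          simp only [Perm.mul_apply, e x hx, cj_apply, cj_inv_apply]; group⟩
      · exact ⟨s, hs, (k4.comp ((ep_plus a1 a2 a3 a4).conj h.toInv (mor_cj F le_rfl (S.inv_mem hs)) h.le a1)
          fun x hx => by rw [map_inv]; exact apply_mem_img (cj s)⁻¹ (k3 x hx)).congr fun x hx => by
            simp only [map_inv, Perm.mul_apply, e x hx, inv_inv, perm_apply_inv_self]⟩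
  have hpp : ∀ P σ, Iso D P P σ → PP p P σ → EP p F E P σ := fun P σ k1 k2 => by
    obtain ⟨s, hs, k3⟩ := hdec P σ k1.mor
    have k4 : ∀ n : ℕ, EP p F E P ((cj (s ^ n))⁻¹ * σ ^ n) := fun n => by
      induction n with
      | zero => simpa using ep_one k1.le
      | succ n ih =>
        refine (ih.comp (k3.conj h.toInv (mor_cj F le_rfl (S.inv_mem (pow_mem hs n))) h.le k1.le)
          fun x hx => ?_).congr fun x hx => ?_
        · rw [map_inv]; exact apply_mem_img (cj (s ^ n))⁻¹ ((k1.pow n).mem hx)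
        · simp only [pow_succ', map_inv, map_mul, mul_inv_rev, Perm.mul_apply, inv_inv, perm_apply_inv_self]
    obtain ⟨n, hn⟩ := exists_pow_eq_one hF.pg
    have k5 := k4 (p ^ n)
    rw [hn s hs, map_one, inv_one, one_mul] at k5
    exact ((h.mem_autEP k1.le).mp (k2.mem_of_pow h.fixP_le_autEP ((h.mem_autEP k1.le).mpr
      ⟨(k1.of_sub hsub).pow _, k5⟩))).2
  have hfr : ∀ {P Q ψ}, Iso F P Q ψ → ∃ Q₀ β α, Iso D P Q₀ β ∧ Iso F Q₀ Q α ∧ Mor F (Q₀ ⊔ T) α :=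
    fun {P Q ψ} k => by
      obtain ⟨β, α, k1, k2, e⟩ := h.frat_plus hF k.mor
      rw [← k1.img_sup h.toInv] at k2
      exact ⟨_, β, α, (hEP _ _ k1).iso, (k2.mono le_sup_left).iso_of_img_eq (by
        rw [← (k1.mor h.toInv).homOn.img_mul, ← k.img_eq]; exact (img_congr e).symm), k2⟩
  have hH : ∀ {P Q ψ}, P ≤ S ∧ E.IsCentric (P ⊓ T) → Iso F P Q ψ → Q ≤ S ∧ E.IsCentric (Q ⊓ T) := fun k1 k2 =>
    ⟨k2.le', h.centric_iso k1.2 (k2.inf_sc h.sc)⟩
  obtain ⟨hsat, -⟩ := sat_of_gen hF.pg hD (fun _ k => k.1) (fun P Q σ k1 k2 => hH k1 (k2.of_sub hsub))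
    (fun P Q k1 k2 k3 => ⟨k3, centric_mono k1.2 (inf_le_inf_right T k2) inf_le_right⟩) (fun _ _ => fixP_le_plusL)
    (fun _ _ => plusL_le_autAll) (fun P Q σ _ k2 β => h.conj_mem_plusL (k2.of_sub hsub))
    (fun P Q _ k2 k3 β k4 _ k6 =>
      have a := iso_of_mem_inf k2.le (k3.trans inf_le_left) ⟨k4.1.1, k6⟩
      ⟨⟨a.mem_autP, k6, fun x hx => k4.1.2.2 x (k2.le hx)⟩, a.mem_autP_inf h.sc
        (((mem_autP inf_le_right).mp k4.2).mor.mono (inf_le_inf_right T k2.le))⟩)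
    (fun P hP => by
      obtain ⟨Q, ψ, k1, -, k2, k3⟩ := hF.exists_good_plus h.sc hP.1
      obtain ⟨Q₀, β, α, a1, a2, a3⟩ := hfr k1
      have k4 := not_dvd_relIndex_of_normal ((opr_le p Q (plusL F E Q)).trans (inf_le_left.trans inf_le_left))
        (le_normalizer_opr (autP_le_autAll F Q) (le_normalizer_of_conj_mem fun ρ hρ β =>
          h.conj_mem_plusL ((mem_autP k1.le').mp hρ))) (hF.not_dvd k2)
      rw [← Subgroup.inf_relIndex_right] at k4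
      have k5 := not_dvd_relIndex_of_le_left (h.autS_inf_opr_le k3 (hH hP k1).2 k2) k4
      have k6 : cjS α (opr p Q₀ (plusL F E Q₀)) = opr p Q (plusL F E Q) := le_antisymm
        (by rintro _ ⟨β, hβ, rfl⟩; exact conj_mem_opr a2.mem_iff (fun _ => h.conj_mem_plusL a2) hβ) fun β hβ => by
          have := conj_mem_opr a2.symm.mem_iff (fun _ => h.conj_mem_plusL a2.symm) hβ
          exact mem_map_conj.mpr (by rwa [inv_inv] at this)
      have k7 := a3.homOn.map_autS le_sup_left le_sup_right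
      rw [(a3.iso_of_wc (wc_of_sc h.sc) le_sup_right).img_eq, a2.img_eq] at k7
      rw [← k6, ← k7, relIndex_map_conj] at k5
      exact ⟨Q₀, β, a1, not_dvd_relIndex_of_le_left (autS_mono h.le _) k5⟩)
    (fun P hP _ hN _ X x1 x2 β b1 b2 b3 => by
      have hfX := (fixP_le_autS P P).trans x1
      have hV := normK_le_normalizerIn (S := S) (x2.trans (autS_le_autAll S P))
      have hPV := le_normK_of_inn_le hP.1 x1
      obtain ⟨Q, ψ, k1, k0, k2, k3⟩ := hF.exists_good_plus h.sc hP.1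
      have hPN := le_normalizerIn hP.1
      have k4 : img ψ (normalizerIn T P) = normalizerIn T Q := by
        have : Finite (normalizerIn T P) := finite_of_le (inf_le_left.trans h.le)
        have : Finite (normalizerIn T Q) := finite_of_le (inf_le_left.trans h.le)
        refine (k0.homOn.mono (inf_le_inf_right _ h.le)).img_eq_of_card_le (fun g hg => ⟨k0.mem_of_sc h.sc
          ⟨h.le hg.1, hg.2⟩ hg.1, k1.img_eq ▸ (k0.mem_normalizerIn_img hPN ⟨h.le hg.1, hg.2⟩ hg.2).2⟩) ?_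
        obtain ⟨Q₀, β, α, a1, a2, a3⟩ := hfr k1
        obtain ⟨χ, a4, a5⟩ := hN Q₀ _ a1.symm
        have : Finite (normalizerIn T Q₀) := finite_of_le (inf_le_left.trans h.le)
        have a6 := a3.iso_of_wc (wc_of_sc h.sc) le_sup_right
        have a7 := a3.inv
        rw [a3.homOn.img_sup, a2.img_eq, a6.img_eq] at a7
        refine ((a7.homOn.mono (inf_le_left.trans le_sup_right)).card_le_of_mapsTo (Q := normalizerIn T Q₀)
          fun g hg => ⟨a6.inv_mem hg.1, a2.symm.img_eq ▸ (a7.mem_normalizerIn_img le_sup_left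
            (Subgroup.mem_sup_right hg.1) hg.2).2⟩).trans
          ((a4.homOn.mono (inf_le_inf_right _ h.le)).card_le_of_mapsTo (Q := normalizerIn T P) fun g hg => ⟨(a4.of_sub hsub).mem_of_sc h.sc
            ⟨h.le hg.1, hg.2⟩ hg.1, a5.img_eq ▸ (a4.mem_normalizerIn_img (le_normalizerIn a1.le')
              ⟨h.le hg.1, hg.2⟩ hg.2).2⟩)
      have k5 := k0.iso_of_le hV
      have k6 : autS (img ψ (normK S X)) Q = cjS ψ X := by
        rw [← k1.img_eq, ← k0.homOn.map_autS hPN hV, autS_normK hfX, inf_eq_right.mpr x2]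
      have hQV : Q ≤ img ψ (normK S X) := k1.img_eq ▸ img_mono ψ hPV
      obtain ⟨μ, m1, m2, m3, e⟩ := h.ext_plus k3 (hH hP k1).2 (hF.fa_of_fn k2) (h.conj_mem_plusL k1 b1)
        (b2.conj k1.mem_iff) hQV ((k0.mono hV).img_le_normalizerIn hPV (hV.trans inf_le_right) k1)
        fun α hα => by
          rw [k6] at hα ⊢
          obtain ⟨α, hα, rfl⟩ := hα
          simpa [mul_assoc] using (conj_mem_cjS (g := ψ)).mpr (conj_mem_of_mem_normalizer b3 hα)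
      have m4 : Iso F (img ψ (normK S X)) (img ψ (normK S X)) μ := (m1.mor.mono le_sup_right).iso_self fun v hv => by
        have a1 := m2.2 v (Subgroup.mem_sup_right hv)
        have a2 := ((k0.mono hV).img_le_normalizerIn hPV (hV.trans inf_le_right) k1 hv).2
        have a3 := (k1.conj ((mem_autP hP.1).mp b1.1.1)).congr e
        have a4 : cj (μ v) ∈ cjS ψ X := by
          refine mem_of_eqOn (k1.fixP_le_cjS hfX) (σ := μ * cj v * μ⁻¹) ?_ fun y hy =>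
            (m1.mor.conj_cj (hQV.trans le_sup_right) a3 (Subgroup.mem_sup_right hv) y hy).symm
          refine conj_mem_of_eqOn (k1.fixP_le_cjS hfX) e (fun α hα => ?_) _ (k6 ▸ cj_mem_autS hv a2)
          obtain ⟨α, hα, rfl⟩ := hα
          simpa [mul_assoc] using (conj_mem_cjS (g := ψ)).mpr (conj_mem_of_mem_normalizer b3 hα)
        have a5 : cj (v⁻¹ * μ v) ∈ cjS ψ X := by
          rw [map_mul, map_inv]; exact mul_mem (Subgroup.inv_mem _ (k6 ▸ cj_mem_autS hv a2)) a4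
        obtain ⟨t, ht, e1⟩ := (k0.homOn.mono (inf_le_inf_right _ h.le)).mem_img.mp (k4.ge ⟨a1, cj_mem_autAll_iff.mp
          (k1.cjS_le_autAll (x2.trans (autS_le_autAll S P)) a5)⟩)
        refine (Subgroup.mul_mem_cancel_left _ (Subgroup.inv_mem _ hv)).mp (e1 ▸ apply_mem_img ψ ⟨h.le ht.1, ?_⟩)
        exact (conj_mem_cjS (g := ψ) (x := cj t) (B := X)).mp (mem_of_eqOn (k1.fixP_le_cjS hfX) a5 fun y hy => by
          rw [k0.conj_cj hPN k1 ⟨h.le ht.1, ht.2⟩ y hy, e1, cj_apply])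
      have m5 := k5.symm.conj m4
      have m6 := (m3.anti le_sup_right).conj k5.symm.mem_iff
      have e2 : ∀ x ∈ P, (ψ⁻¹ * μ * ψ⁻¹⁻¹) x = β x := fun x hx => by simp [e _ (k1.mem hx)]
      have hVH : E.IsCentric (normK S X ⊓ T) := centric_mono hP.2 (inf_le_inf_right T hPV) inf_le_right
      exact ⟨_, hEP _ _ (ep_plus m5.le hVH ⟨⟨m5.mem_autP, trivMod_inf _ T ▸ k5.symm.conj_mem_trivMod
        (k5.symm.inf_sc h.sc) ((trivMod_inf _ T).ge ⟨m4.mem_autAll, fun x hx => m2.2 x (Subgroup.mem_sup_right hx)⟩)⟩,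
        (h.iso_of_centric (m5.inf_sc h.sc) (m6.anti inf_le_left) inf_le_right _ (inf_le_inf_right T hPV) hP.2
          (((mem_autP inf_le_right).mp b1.2).congr fun x hx => e2 x hx.1)).mem_autP⟩ m6), e2⟩)
    fun P hP k => by
      obtain ⟨Q, ψ, x, k1, k2, k3, k4, k5⟩ := h.out_plus hF hP fun k' => k ⟨hP, k'⟩
      obtain ⟨Q₀, β, α, a1, a2, a3⟩ := hfr k2
      have a6 := a3.iso_of_wc (wc_of_sc h.sc) le_sup_right
      obtain ⟨y, hy, rfl⟩ := a6.exists_eq k1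
      refine ⟨Q₀, β, y, h.le hy, a1, fun k' => k3 (a2.mem k'), cj_mem_opP_of_centralizes hF.pg
        (sc_of_sub hsub h.sc h.le) a1.le' hy ?_ ?_⟩
      · exact (a3.homOn.mem_normalizer_img le_sup_left (Subgroup.mem_sup_right hy)).mp (a2.img_eq.symm ▸ k4)
      · exact (a3.homOn.mem_centralizer_img (inf_le_left.trans le_sup_left) (Subgroup.mem_sup_right hy)).mp
          ((a2.inf_sc h.sc).img_eq.symm ▸ k5)
  refine ⟨D, hsat, hsub, ⟨h.satE, h.satE.mor_of_pp h.le fun R σ k1 _ _ k2 k3 => ?_,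
    hyp_le_iff'.mpr fun P σ k1 k2 => (hpp P σ k1 k2).triv h.toInv, fun {P σ} k1 k2 k3 =>
      ⟨((hpp P σ k2 k3).morE h.toInv).mono (le_inf le_rfl k1), k2.mem_iff⟩⟩, hEP, hpp⟩
  have e := inf_eq_left.mpr k1.1
  exact hEP _ _ (ep_plus (k1.1.trans h.le) (e.symm ▸ k1) ⟨⟨(k2.of_sub h.sub).mem_autP, k2.mem_autAll, fun x hx =>
    mul_mem (T.inv_mem (k1.1 hx)) (k2.mor.mem hx)⟩, e.symm ▸ k2.mem_autP⟩ k3)

end Cfsg.Lib.Fus
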