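/-
Normalizers in normal subsystems, `E`-balance, and uniqueness of products.
-/
import Cfsg.Agent.Lib.Fus.ES

set_option autoImplicit false
set_option linter.unusedSectionVars false

namespace Cfsg.Lib.Fus

open Cfsg Cfsg.FusionSystem Equiv

variable {Ω : Type*} [Group Ω] {S T U V W Y : Subgroup Ω} {F : FusionSystem S} {E : FusionSystem T}
  {D : FusionSystem U} {N : FusionSystem V} {C : FusionSystem W} {P Q R X : Subgroup Ω} {σ τ α β γ : Perm Ω}
  {K : Subgroup (Perm Ω)} {p : ℕ} [Finite S] [Fact p.Prime]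

omit [Fact p.Prime] in
theorem fn_of_sub_top {F' : FusionSystem S} (hs : F'.IsSubsystemOf F) (h : F.IsFullyNormalized P) :
    F'.IsFullyNormalized P :=
  isFullyNormalized_iff.mpr ⟨h.1, fun Q σ k => (isFullyNormalized_iff.mp h).2 Q σ (k.of_sub hs)⟩

/-- The normalizer `N_E(X)` in a normal subsystem `E`. -/
theorem Nrm.exists_local (h : Nrm p E F) (hX : F.IsFullyNormalized X) (hN : IsNK F X (autAll X) N) :
    ∃ M : FusionSystem (T ⊓ V : Subgroup Ω), Nrm p M N ∧ M.IsSubsystemOf E := by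
  have := hN.finite
  have hF := h.satF
  have hNs := hF.normalizer hX hN
  obtain ⟨D, d1, d2, d3, d4, d5⟩ := h.exists_es
  obtain ⟨N₁, n1⟩ := exists_isNK D hX.1 (fixP_le_autAll X) le_rfl hN.eq
  have n2 := d1.normalizer (fn_of_sub_top d2 hX) n1
  have n3 : N₁.IsSubsystemOf N := isSubsystemOf_iff.mpr fun P σ k =>
    let ⟨_, a1, a2, a3⟩ := n1.ext k; hN.mor_of_ext k.le (a1.of_sub d2) a2 a3
  obtain ⟨M, m1⟩ := n2.exists_pIdx (T := T ⊓ V) inf_le_right (le_inf ((hyp_mono n1.sub).trans d3.hyp) (hyp_le N₁ p))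
  have hT := sc_inf_of_sub hN.sub h.sc
  have : Finite (T ⊓ V : Subgroup Ω) := finite_of_le inf_le_right
  have hXV : X ≤ V := by rw [hN.eq, normK_autAll]; exact le_normalizerIn hX.1
  let H : Subgroup Ω → Subgroup (Perm Ω) := fun P => (h.autEP p (P ⊔ X) ⊓ autAll X ⊓ autAll P) ⊔ fixP P
  have hH1 : ∀ {P σ}, P ≤ V → σ ∈ H P → Iso N₁ P P σ := fun {P σ} k1 k2 => by
    obtain ⟨τ, ⟨⟨a1, a2⟩, a3⟩, e⟩ := exists_eqOn_of_mem_sup_fixP inf_le_right k2
    exact ((n1.mor_of_ext k1 (d4 _ _ (a1.2 (sup_le (k1.trans hN.le_top) hX.1))) (fun _ _ => rfl) a2).iso_of_mem_autAll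
      le_rfl a3).congr fun x hx => (e x hx).symm
  have hH2 : ∀ {P σ}, Iso N₁ P P σ → PP p P σ → σ ∈ H P := fun {P σ} k1 k2 => by
    obtain ⟨τ, a1, e, a2⟩ := n1.ext_iso k1
    obtain ⟨n, a3, e'⟩ := a1.exists_pp_pow (k2.congr (fun _ => k1.mem) e)
    have e2 : ∀ x ∈ P, (τ ^ n) x = σ x := fun x hx => (e' x hx).trans (e x hx)
    exact mem_sup_fixP_of_eqOn ⟨⟨(h.mem_autEP a1.le).mpr ⟨(a1.pow n).of_sub d2, d5 _ _ (a1.pow n) a3⟩, pow_mem a2 n⟩,
      (k1.congr e2).mem_autAll⟩ e2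
  have hH3 : ∀ {P Q ρ σ}, Iso N P Q ρ → σ ∈ H P → ρ * σ * ρ⁻¹ ∈ H Q := fun {P Q ρ σ} k1 k2 => by
    obtain ⟨τ, ⟨⟨a1, a2⟩, a3⟩, e⟩ := exists_eqOn_of_mem_sup_fixP inf_le_right k2
    obtain ⟨ρ', a4, e', a5⟩ := hN.ext_iso k1
    have a6 := k1.congr e'
    refine mem_sup_fixP_of_eqOn ⟨⟨h.conj_mem_autEP hF a4 a1, mul_mem (mul_mem a5 a2) (Subgroup.inv_mem _ a5)⟩,
      a6.cjS_autAll ▸ conj_mem_cjS.mpr a3⟩ fun y hy => ?_
    obtain ⟨x, hx, rfl⟩ := k1.exists_eq hy
    simp only [Perm.mul_apply, perm_inv_apply_self]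
    rw [← e' x hx, perm_inv_apply_self, e' _ (autAll_mem a3 hx), e x hx]
  have hM : Inv M N := by
    refine hNs.inv_of_ext (isSubsystemOf_trans m1.sub n3) hT (fun {P σ α} k hα => m1.sat.conj_of_pp hα.homOn
      hα.img_eq.le (fun R σ k1 k2 => ?_) k) fun P σ k1 k2 k3 => ?_
    · have a := hα.mor.iso_of_le k1.le
      exact (m1.pp (hα.img_le k1.le) (hH1 a.le' (hH3 a (hH2 (k1.of_sub m1.sub) k2))) (k2.conj a.mem_iff)).mor
    · obtain ⟨m, a1, τ, a2, e⟩ := hNs.exists_opr_ext k2 (inf_le_right : T ⊓ V ≤ V) (H := H P) (fun α hα => by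
        obtain ⟨t, ht, htn, e⟩ := mem_autS.mp hα
        have a := hN.le_normalizer ht.2
        exact mem_sup_fixP_of_eqOn ⟨⟨(h.mem_autEP (sup_le (k2.1.trans hN.le_top) hX.1)).mpr ⟨iso_cj F
          (sup_le (k2.1.trans hN.le_top) hX.1) (h.le ht.1) (mem_normalizer_sup htn a),
          ep_cj (sup_le (k2.1.trans hN.le_top) hX.1) ht.1⟩, cj_mem_autAll a⟩, cj_mem_autAll htn⟩
          fun x hx => (e x hx).symm) (fun α hα => ((hH1 k2.1 hα).of_sub n3).mem_autP)
        (fun ρ hρ β => hH3 ((mem_autP k2.1).mp hρ)) k3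
      exact ⟨m, _, τ, (mem_autP k1.le).mp (opr_le_iff.mpr (fun β b1 b2 => (m1.pp k1.le (hH1 k2.1 b1) b2).mem_autP) a1),
        lt_normalizerIn m1.sat.pg k1, normalizerIn_le _ P, a2.mono le_sup_right, e⟩
  obtain ⟨M', k1, k2, -⟩ := WN.exists_nrm ⟨hM, m1.sat, hNs⟩
  exact ⟨M', k1, isSubsystemOf_trans k2.sub (d3.sub_of m1.sat (isSubsystemOf_trans m1.sub n1.sub) inf_le_left)⟩

/-- Subgroups centralized by a component generate a subgroup centralized by it, if both are Sylow in normal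
subsystems. -/
theorem Comp.cent_sup (c : Comp p C F) (hD : Nrm p D F) (hX : F.IsNormal X) (h : Cent F C U) : Cent F C (U ⊔ X) := by
  obtain ⟨Z, z1, z2, -⟩ := hD.exists_centFs
  obtain ⟨G, hG⟩ := exists_centFs F hX.1
  have g1 := hG.nrm_centralizer hD.satF hX
  obtain ⟨M, m1, m2, m3, -⟩ := exists_meet z1.toWN g1.toWN rfl
  exact (m1.cent_iff.mpr (sup_le (m1.le_centS (z2.of_sub m2.sub)) (m1.le_centS (hG.cent.of_sub m3.sub)))).of_sub
    (c.of_le m1 (le_inf (c.of_cent hD z1 h).le (c.cent_normal hD.satF hX).le')).sub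

/-- An `A × B` lemma for fusion systems. -/
theorem Sat.cent_up (hF : Sat p F) (hT : F.StronglyClosed T) (hC : Sat p C) (hp : C.hyperfocalSubgroup p = W) :
    ∀ Y, Y ≤ S → F.IsFullyCentralized Y → centralizerIn (Y ⊔ T) Y ≤ Y → Cent F C Y → Cent F C T := by
  refine induction_down fun Y hY ih h1 h2 h3 => ?_
  by_cases hTY : T ≤ Y
  · exact h3.mono hTY
  have hTn := sc_le_normalizer hT
  obtain ⟨g, g1, g2, g3⟩ := exists_mem_normalizer_not_mem hF.pg hY hT.1 (hY.trans hTn) hTY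
  have k1 : Y ⊔ normalizerIn T Y ≤ S := sup_le hY (inf_le_left.trans hT.1)
  have k2 : Y ⊔ normalizerIn T Y ≤ Y ⊔ T := sup_le_sup_left inf_le_left Y
  refine ih _ k1 (card_lt_of_lt_of_le (lt_of_le_not_ge le_sup_left fun k => g2 (k (Subgroup.mem_sup_right ⟨g1, g3⟩))) k1)
    (hF.fc_of_le h1 le_sup_left k1 fun c hc => mem_normalizer_sup (centralizerIn_le_normalizer S Y hc)
      (mem_normalizer_normalizerIn (hTn hc.1) (centralizerIn_le_normalizer S Y hc)))
    (fun c hc => Subgroup.mem_sup_left (h2 ⟨sup_le k2 le_sup_right hc.1, (centralizerIn_anti _ le_sup_left hc).2⟩)) ?_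
  obtain ⟨N, hN⟩ := exists_isNK F hY (fixP_le_autS (Y ⊔ normalizerIn T Y) Y) (autS_le_autAll _ _) rfl
  have := hN.finite
  have hNs := hN.sat hF (fkn_of_le_autS h1 (inf_le_right.trans (autS_mono k1 Y)))
  have k3 : Y ⊔ normalizerIn T Y ≤ normK S (autS (Y ⊔ normalizerIn T Y) Y) := fun y hy =>
    ⟨k1 hy, cj_mem_autS hy (sup_le Subgroup.le_normalizer inf_le_right hy)⟩
  obtain ⟨G, hG⟩ := exists_centFs F hY
  have := hG.finite
  have g4 := (hN.centralizer_of_le hG le_rfl (le_sup_left.trans k3)).nrm_centralizer hNs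
    (hN.normal (le_sup_left.trans k3))
  have k4 : N.StronglyClosed (Y ⊔ normalizerIn T Y) := by
    have := hNs.sc_sup (sc_of_normal (hN.normal (le_sup_left.trans k3))) (sc_inf_of_sub hN.sub hT)
    rwa [show T ⊓ normK S (autS (Y ⊔ normalizerIn T Y) Y) = normalizerIn T Y from le_antisymm
      (inf_le_inf_left _ hN.le_normalizer) (le_inf inf_le_left (le_sup_right.trans k3))] at this
  exact (g4.cent_of_cent_inf k4 hC hp ((cent_of_central (hG.cent.central g4.satE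
    (Q := (Y ⊔ normalizerIn T Y) ⊓ centralizerIn S Y) (fun c hc => h2 ⟨k2 hc.1, hc.2.2⟩) inf_le_right)).of_sub (hG.cent_iff.mp h3))).of_sub' hN.sub

omit [Finite S] [Fact p.Prime] in
theorem PP.trivMod_of_conj (h : PP p P σ) (hσ : σ ∈ autAll P) (hS : IsPGroup p S)
    (hn : S ≤ Subgroup.normalizer (T : Set Ω)) {g : Ω} (hg : g ∈ S) (e : ∀ x ∈ P, (g * x * g⁻¹)⁻¹ * σ x ∈ T) :
    σ ∈ trivMod P T := by
  have k : ∀ n : ℕ, ∀ x ∈ P, (g ^ n * x * (g ^ n)⁻¹)⁻¹ * (σ ^ n) x ∈ T := fun n => by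
    induction n with
    | zero => exact fun x _ => by simp
    | succ n ih =>
      intro x hx
      have := mul_mem (conj_mem_of_mem_normalizer (hn (pow_mem hg n)) (e x hx)) (ih _ (autAll_mem hσ hx))
      rw [pow_succ σ, Perm.mul_apply, pow_succ g]
      convert this using 1; group
  obtain ⟨n, hn⟩ := hS ⟨g, hg⟩
  refine h.mem_of_pow (trivMod_bot P ▸ trivMod_mono _ bot_le) (k := n) ⟨pow_mem hσ _, fun x hx => ?_⟩
  simpa [show g ^ p ^ n = 1 from congrArg Subtype.val hn] using k (p ^ n) x hx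

theorem CP.pIdx_of_inner [Finite Q] [Finite T] (h : CP (innerFusionSystem Q) E F) (hF : Sat p F) (hE : Sat p E) :
    PIdx p E F := by
  have k := h.symm.nrm₁ hE hF
  refine ⟨hE, k.sub, hyp_le_iff'.mpr fun P σ k1 k2 => ?_, fun {P σ} k1 k2 _ =>
    ⟨(h.symm.mor₁ k2.mor).mono (le_inf le_rfl k1), k2.mem_iff⟩⟩
  obtain ⟨P₁, P₂, τ, a1, a2, a3, a4, e⟩ := h.split k1.mor
  obtain ⟨-, g, hg, e'⟩ := mor_inner_iff.mp a3
  refine (k2.trivMod_of_conj k1.mem_autAll hF.pg (sc_le_normalizer k.sc) (h.le₁ hg) fun x hx => ?_).2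
  obtain ⟨a, ha, b, hb, rfl⟩ := (mem_sup_of_le_normalizer' (h.c₁.le_normalizer a3.le a4.le)).mp (a1 hx)
  rw [← e _ hx, a2.homOn.map_mul (Subgroup.mem_sup_left ha) (Subgroup.mem_sup_right hb), e' a ha,
    show (g * (a * b) * g⁻¹)⁻¹ * (g * a * g⁻¹ * τ b) = g * b⁻¹ * g⁻¹ * τ b by group]
  exact mul_mem (conj_mem_of_mem_normalizer (sc_le_normalizer k.sc (h.le₁ hg)) (T.inv_mem (a4.le hb))) (a4.mem hb)

theorem Layer.exists_fitting (h : Layer p E F) : ∃ D : FusionSystem (F.core ⊔ T),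
    CP (innerFusionSystem F.core) E D ∧ Nrm p D F := by
  have hQ := h.nrm.satF.nrm_inner (normal_core F)
  have := hQ.finite
  have := h.nrm.finite
  have k := h.cent_normal (normal_core F)
  exact exists_cp_nrm hQ h.nrm (fun a ha b hb => (k.comm hb ha).symm)
    (hQ.satE.central_of_fix inf_le_left fun P σ k1 x hx hx' => by
      obtain ⟨-, g, hg, e⟩ := mor_inner_iff.mp k1
      rw [e x hx, ← k.comm hx'.2 hg, mul_inv_cancel_right])
    (k.central h.nrm.satE inf_le_left inf_le_right) rfl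

theorem Layer.centS_le_core (h : Layer p E F) (hD : Nrm p D F) (h1 : F.core ≤ U) (h2 : T ≤ U) : centS p F D ≤ F.core := by
  obtain ⟨Z, z1, -, -⟩ := hD.exists_centFs
  have := z1.finite
  have z2 : Z.IsConstrained p := z1.satE.constrained_iff.mpr fun V C c => by
    have := c.finite
    exact c.qs.not_comm (c.le.trans (centS_le.trans (inf_le_right.trans (Subgroup.centralizer_le
      ((le_of_isSubsystemOf (h.sub (c.of_nrm z1))).trans h2)))))
  have z3 : Z.core ≤ F.core := le_core (z1.normal_core hD.satF)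
  exact (le_inf le_rfl (centS_le.trans (inf_le_right.trans (Subgroup.centralizer_le (z3.trans h1))))).trans
    ((isConstrained_iff.mp z2).2.trans z3)

/-- `E`-balance. -/
theorem Layer.sub_of_comp_normalizer (h : Layer p E F) (hX : F.IsFullyNormalized X) (hN : IsNK F X (autAll X) N)
    (c : Comp p C N) : C.IsSubsystemOf E := by
  have := hN.finite
  have := c.finite
  have := h.nrm.finite
  have hF := h.nrm.satF
  have : Finite F.core := finite_of_le (core_le F)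
  obtain ⟨D, d1, d2⟩ := h.exists_fitting
  have := d2.finite
  obtain ⟨M, m1, m2⟩ := d2.exists_local hX hN
  have hXV : X ≤ V := by rw [hN.eq, normK_autAll]; exact le_normalizerIn hX.1
  have d3 := d1.pIdx_of_inner d2.satE h.nrm.satE
  rcases c.comp_or_cent m1 with k | k
  · have k1 := isSubsystemOf_trans k.sub m2
    exact d3.sub_of c.qs.sat k1 (c.qs.hyp.ge.trans ((hyp_mono k1).trans d3.hyp))
  have k1 := (c.cent_sup m1 (hN.normal hXV) k).of_sub' hN.sub
  have hUn := sc_le_normalizer d2.sc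
  have k2 : (F.core ⊔ T) ⊓ V ⊔ X ≤ S := sup_le (inf_le_left.trans d2.le) hX.1
  have k3 := hF.cent_up d2.sc c.qs.sat c.qs.hyp _ k2 (hF.fc_of_le (hF.fc_of_fn hX) le_sup_right k2 fun c hc =>
    mem_normalizer_sup (mem_normalizer_inf (hUn hc.1) (Subgroup.le_normalizer (hN.centralizerIn_le hc)))
      (centralizerIn_le_normalizer S X hc)) (fun y hy => by
      have a : y ∈ (F.core ⊔ T) ⊔ X := (show (F.core ⊔ T) ⊓ V ⊔ X ⊔ (F.core ⊔ T) ≤ _ from
        sup_le (sup_le_sup_right inf_le_left X) le_sup_left) hy.1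
      obtain ⟨u, hu, x, hx, rfl⟩ := (mem_sup_of_le_normalizer' (hX.1.trans hUn)).mp a
      exact Subgroup.mul_mem_sup ⟨hu, hN.mem_iff.mpr ⟨d2.le hu, cj_mem_autAll ((Subgroup.mul_mem_cancel_right _
        (Subgroup.le_normalizer hx)).mp (Subgroup.centralizer_le_normalizer _
          (centralizerIn_anti _ le_sup_right hy).2))⟩⟩ hx) k1
  have k4 := c.qs.hyp.ge.trans ((hyp_le_focal C p).trans (d2.focal_le_centS k3))
  exact (c.qs.not_cent (k4.trans ((h.centS_le_core d2 le_sup_left le_sup_right).trans le_sup_left)) k3).elim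

/-- Uniqueness of products. -/
theorem Inv.sub_of_hyp_le {F' : FusionSystem S} (h : Inv E F) (hF : Sat p F) (hF' : Sat p F') (h1 : E.IsSubsystemOf F')
    (h2 : F'.IsSubsystemOf F) (h3 : PIdx p E F) : F.IsSubsystemOf F' := by
  have := h.finite
  have hTn := sc_le_normalizer h.sc
  have key : ∀ P σ, F.IsFullyNormalized P → F.IsFullyNormalized (P ⊓ T) → E.IsCentric (P ⊓ T) → Iso F P P σ →
      PP p P σ → Mor F' P σ := fun P σ k1 k2 k3 k4 k5 => by
    have : Finite P := finite_of_le k1.1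
    have : Finite (P ⊓ T : Subgroup Ω) := finite_of_le k2.1
    have a1 := h3.pp inf_le_right (k4.inf_sc h.sc) (k5.anti inf_le_left)
    have hPn : P ≤ Subgroup.normalizer ((P ⊓ T : Subgroup Ω) : Set Ω) := fun x hx =>
      mem_normalizer_inf (Subgroup.le_normalizer hx) (hTn (k1.1 hx))
    obtain ⟨τ, a2, e⟩ := hF'.extend_aut (V := P ⊔ centralizerIn S (P ⊓ T)) (a1.of_sub h1)
      (hF'.fc_of_fn (fn_of_sub_top h2 k2)) (inf_le_left.trans le_sup_left) (sup_le (le_inf k1.1 hPn)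
      (centralizerIn_le_normalizerIn S _)) le_sup_right fun α hα => by
        obtain ⟨v, hv, -, e⟩ := mem_autS.mp hα
        obtain ⟨q, hq, c, hc, rfl⟩ := (mem_sup_of_le_normalizer fun x hx => mem_normalizer_centralizerIn
          (Subgroup.le_normalizer (k1.1 hx)) (hPn hx)).mp hv
        refine mem_autS.mpr ⟨σ q, Subgroup.mem_sup_left (k4.mem hq), hPn (k4.mem hq), fun y hy => ?_⟩
        obtain ⟨x, hx, rfl⟩ := a1.exists_eq hy
        rw [Perm.mul_apply, Perm.mul_apply, perm_inv_apply_self, e x hx, ← k4.homOn.map_conj hq hx.1,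
          show q * c * x * (q * c)⁻¹ = q * (c * x * c⁻¹) * q⁻¹ by group, conj_eq_of_mem_centralizer hc.2 hx]
    obtain ⟨n, a3, e'⟩ := a2.exists_pp_pow ((k5.anti inf_le_left).congr (fun _ => a1.mem) e)
    have a4 := a2.pow n
    set μ := τ ^ n
    have e2 : ∀ x ∈ P ⊓ T, μ x = σ x := fun x hx => (e' x hx).trans (e x hx)
    have a5 : ∀ x ∈ P, x⁻¹ * μ x ∈ T := fun x hx =>
      h3.hyp ((a4.of_sub h2).inv_mul_mem_hyp' a3 (Subgroup.mem_sup_left hx))
    have a6 : ∀ x ∈ P, x⁻¹ * σ x ∈ T := fun x hx => h3.hyp (k4.inv_mul_mem_hyp' k5 hx)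
    have a7 : Iso F' P P μ := (a4.mor.mono le_sup_left).iso_self fun q hq => by
      refine (P.mul_mem_cancel_left (P.inv_mem (k4.mem hq))).mp (centric_centralizerIn_le k3
        (mem_centralizerIn'.mpr ⟨?_, fun y hy => ?_⟩)).1
      · have := mul_mem (T.inv_mem (a6 q hq)) (a5 q hq)
        rwa [show (q⁻¹ * σ q)⁻¹ * (q⁻¹ * μ q) = (σ q)⁻¹ * μ q by group] at this
      · obtain ⟨x, hx, rfl⟩ := a1.exists_eq hy
        have b := a4.homOn.map_conj (Subgroup.mem_sup_left hq) (Subgroup.mem_sup_left hx.1)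
        rw [e2 _ (conj_mem_of_mem_normalizer (hPn hq) hx), k4.homOn.map_conj hq hx.1, e2 x hx] at b
        rw [show (σ q)⁻¹ * μ q * σ x * ((σ q)⁻¹ * μ q)⁻¹ = (σ q)⁻¹ * (μ q * σ x * (μ q)⁻¹) * σ q by group, ← b]
        group
    have a8 := fa_le_autS hF.pg (hF.fa_of_fn k1) (X := autP F P ⊓ (trivMod P (P ⊓ T) ⊓ fixP (P ⊓ T))) inf_le_left
      ((pMod_trivMod (hF.pg.to_le k2.1) inf_le_left).mono inf_le_right) (fun ρ hρ κ hκ =>
        have k := ((mem_autP k1.1).mp hρ).inf_sc h.sc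
        ⟨mul_mem (mul_mem hρ hκ.1) (Subgroup.inv_mem _ hρ), conj_mem_trivMod (autP_le_autAll F _ hρ)
          (fun _ _ => k.mem) hκ.2.1, (conj_mem_fixP k.mem_iff).mpr hκ.2.2⟩)
      (show μ⁻¹ * σ ∈ _ from ⟨(k4.trans (a7.of_sub h2).symm).mem_autP, (trivMod_inf P T).ge (mul_mem
        (Subgroup.inv_mem _ ⟨a7.mem_autAll, a5⟩) ⟨k4.mem_autAll, a6⟩), inv_mul_mem_fixP.mpr fun x hx => (e2 x hx).symm⟩)
    simpa using ((mem_autP k1.1).mp (autS_le_autP F' k1.1 le_rfl a8)).comp_mor a7.mor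
  refine isSubsystemOf_iff.mpr (hF.mor_of_down fun P hP ih σ hσ => ?_)
  have : Finite P := finite_of_le hP.1
  by_cases he : P = S ∨ F.IsEssential p P
  swap
  · exact ((mem_autP hP.1).mp (extAut_le_autP ih (hF.autP_le_extAut (lt_of_le_of_ne hP.1 fun e => he (Or.inl e)) hP
      (fun e => he (Or.inr e)) hσ.mem_autP))).mor
  obtain ⟨k1, k2, -⟩ := hF.cr_of_top_or_essential he
  have k3 := h.centric_inf_of_radical hF k1 k2
  refine ((mem_autP hP.1).mp (le_of_pp (fixP_le_autP F P) (autP_le_autAll F P) (hF.not_dvd hP)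
    (inf_le_left.trans (autS_le_autP F' hP.1 le_rfl)) (fun β b1 b2 => ?_) hσ.mem_autP)).mor
  have b3 := (mem_autP hP.1).mp b1
  by_cases hS : P = S
  · subst hS
    exact (key P β hP (isFullyNormalized_of_normal F inf_le_left fun x hx => mem_normalizer_inf
      (Subgroup.le_normalizer hx) (hTn hx)) k3 b3 b2).iso_top.mem_autP
  obtain ⟨Q, ψ, a1, a2, a3, a4⟩ := hF.exists_good_plus h.sc hP.1
  have a5 : Iso F' P Q ψ := ⟨(ih _ ψ (card_lt_of_lt_of_le (lt_normalizerIn hF.pg (lt_of_le_of_ne hP.1 hS))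
    inf_le_left) a2).mono (le_normalizerIn hP.1), a1.mem_iff⟩
  exact a5.conj_mem_autP.mp (Iso.mem_autP ⟨key Q _ a3 a4 (h.centric_iso k3 (a1.inf_sc h.sc)) (a1.conj b3)
    (b2.conj a1.mem_iff), (a1.conj b3).mem_iff⟩)

end Cfsg.Lib.Fus
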