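/-
Fusion systems over `p`-groups whose centre has index `p²`: the prime two, and the conclusion.
-/
import Cfsg.Agent.Lib.Fus.CI

set_option autoImplicit false
set_option linter.unusedSectionVars false

namespace Cfsg.Lib.Fus

open Cfsg Cfsg.FusionSystem Equiv
open scoped commutatorElement

variable {Ω : Type*} [Group Ω] {S D : Subgroup Ω} {F : FusionSystem S}
  {P Q R R₁ R₂ A B : Subgroup Ω} {σ τ α ρ : Perm Ω} {p : ℕ} [Fact p.Prime] [Finite S]

omit [Fact p.Prime] [Finite S] in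
theorem relIndex_eq_of_card [Finite B] {n : ℕ} (h : A ≤ B) (hc : Nat.card B = n * Nat.card A) : A.relIndex B = n := by
  have := finite_of_le h
  exact Nat.eq_of_mul_eq_mul_left Nat.card_pos ((Core.card_mul_relIndex h).trans (hc.trans (mul_comm _ _)))

omit [Fact p.Prime] [Finite S] in
theorem mul_mem_of_relIndex_two (h : A.relIndex B = 2) {x y : Ω} (hx : x ∈ B) (hy : y ∈ B) (hx' : x ∉ A) (hy' : y ∉ A) :
    x * y ∈ A :=
  (Subgroup.mul_mem_iff_of_index_two h (a := ⟨x, hx⟩) (b := ⟨y, hy⟩)).mpr (iff_of_false hx' hy')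

omit [Fact p.Prime] [Finite S] in
theorem eq_of_card_two (h : Nat.card D = 2) {c d : Ω} (hc : c ∈ D) (hc1 : c ≠ 1) (hd : d ∈ D) (hd1 : d ≠ 1) : d = c := by
  obtain ⟨y, -, hy⟩ := (Nat.card_eq_two_iff' (1 : D)).mp h
  exact congrArg Subtype.val ((hy ⟨d, hd⟩ fun e => hd1 (congrArg Subtype.val e)).trans
    (hy ⟨c, hc⟩ fun e => hc1 (congrArg Subtype.val e)).symm)

namespace CI

theorem exists_ess_ne (h : CI p S D) (hF : Sat p F) (h0 : F.core = ⊥) (hR : F.IsEssential p R) :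
    ∃ R', F.IsEssential p R' ∧ R' ≠ R := by
  by_contra hne
  have h1 : ∀ R', F.IsEssential p R' → R' = R := fun R' h' => not_not.mp fun e => hne ⟨R', h', e⟩
  have h2 : F.IsNormal R := hF.normal_of_invariant fun Q hQ => by
    rcases hQ with rfl | hQ
    · exact ⟨hR.1.1, fun τ hτ x hx => h1 _ (hτ.essential_img hR) ▸ apply_mem_img τ hx⟩
    · rw [h1 Q hQ]; exact ⟨le_rfl, fun τ hτ x hx => hτ.mem hx⟩
  exact not_lt_bot ((h.ess_lt hF hR).1.trans_le (h0 ▸ le_core h2))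

theorem inf_le (h : CI p S D) (hF : Sat p F) (h1 : F.IsEssential p R₁) (h2 : F.IsEssential p R₂) (hne : R₁ ≠ R₂)
    {x : Ω} (hx : x ∈ R₁) (hx' : x ∈ R₂) : x ∈ centralizerIn S S := by
  by_contra hZ
  obtain ⟨a1, a2⟩ := h.ess_lt hF h1
  obtain ⟨b1, b2⟩ := h.ess_lt hF h2
  exact hne ((h.eq_sup a1.le a2 hx hZ).symm.trans (h.eq_sup b1.le b2 hx' hZ))

variable (h : CI 2 S D)
include h

theorem idx (hF : Sat 2 F) (hR : F.IsEssential 2 R) : (centralizerIn S S).relIndex R = 2 ∧ R.relIndex S = 2 := by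
  obtain ⟨l1, l2⟩ := h.ess_lt hF hR
  have := finite_of_le l2.le
  exact ⟨relIndex_eq_of_card l1.le (h.card_eq l1 l2).1, relIndex_eq_of_card l2.le (h.card_eq l1 l2).2⟩

theorem trichotomy (hF : Sat 2 F) (hR : F.IsEssential 2 R) (hσ : Iso F R R σ) (hσ' : σ ∉ extAut F R) {a : Ω}
    (ha : a ∈ S) (ha' : a ∉ R) (hρ : Iso F R R ρ) :
    ρ ∈ extAut F R ∨ σ⁻¹ * ρ ∈ extAut F R ∨ (cj a * σ)⁻¹ * ρ ∈ extAut F R := by
  obtain ⟨l1, l2⟩ := h.ess_lt hF hR
  obtain ⟨c, hc, hc1⟩ := h.exists_gen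
  have hcR := l1.le (h.le hc)
  by_contra hne
  simp only [not_or] at hne
  obtain ⟨n1, n2, n3⟩ := hne
  have hA := iso_cj F l2.le ha (h.norm l1.le l2.le ha)
  have m1 := h.not_mem_center hF hR hρ n1 hc hc1
  have m2 := h.not_mem_center hF hR (hρ.trans hσ.symm) n2 hc hc1
  have m3 := h.not_mem_center hF hR hσ.symm (fun h => hσ' (by simpa using inv_mem h)) hc hc1
  refine h.not_mem_center hF hR (hρ.trans (hσ.trans hA).symm) n3 hc hc1 ?_
  have e : a⁻¹ * ρ c * a⁻¹⁻¹ = ρ c * c := by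
    exact inv_mul_eq_iff_eq_mul.mp (eq_of_card_two h.cardD hc hc1 (h.comm _ (l2.le (hρ.mem hcR)) _ (S.inv_mem ha)) fun e =>
      ha' (by simpa using R.inv_mem (h.mem_of_commute l1 l2 (hρ.mem hcR) m1 (S.inv_mem ha) (inv_mul_eq_one.mp e).symm)))
  rw [mul_inv_rev, Perm.mul_apply, Perm.mul_apply, ← map_inv, cj_apply, e, hσ.symm.homOn.map_mul (hρ.mem hcR) hcR]
  exact mul_mem_of_relIndex_two (h.idx hF hR).1 (hσ.inv_mem (hρ.mem hcR)) (hσ.inv_mem hcR) m2 m3

theorem eq_or_eq (hF : Sat 2 F) (h0 : F.core = ⊥) (h1 : F.IsEssential 2 R₁) (h2 : F.IsEssential 2 R₂) (hne : R₁ ≠ R₂)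
    (hR : F.IsEssential 2 R) : R = R₁ ∨ R = R₂ := by
  by_contra hc
  simp only [not_or] at hc
  obtain ⟨l1, l2⟩ := h.ess_lt hF h1
  obtain ⟨r, hr, hr'⟩ := SetLike.exists_of_lt (h.ess_lt hF hR).1
  obtain ⟨s, hs, hs'⟩ := SetLike.exists_of_lt (h.ess_lt hF h2).1
  have n1 : s ∉ R₁ := fun e => hs' (h.inf_le hF h1 h2 hne e hs)
  have a1 := mul_mem_of_relIndex_two (h.idx hF h1).2 (hR.1.1 hr) (h2.1.1 hs)
    (fun e => hr' (h.inf_le hF hR h1 hc.1 hr e)) n1
  have a2 : r * s ∉ centralizerIn S S := fun e =>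
    hr' (h.inf_le hF hR h2 hc.2 hr ((R₂.mul_mem_cancel_right hs).mp (center_le_of_centric h2.1 e)))
  have e := (h.elem hF h0).2
  have e1 := e R hR r hr
  have e2 := e _ h2 s hs
  have e3 := e _ h1 _ a1
  refine n1 (h.mem_of_commute l1 l2 a1 a2 (h2.1.1 hs) ?_)
  rw [pow_two, mul_eq_one_iff_eq_inv] at e1 e2 e3
  rw [← mul_assoc, mul_inv_cancel_right, e3, mul_inv_rev, ← e1, ← e2]

theorem autP_top_le (hF : Sat 2 F) (h0 : F.core = ⊥) (hR : F.IsEssential 2 R) : autP F S ≤ autS S S := by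
  obtain ⟨R', hR', hne⟩ := h.exists_ess_ne hF h0 hR
  obtain ⟨c, hc, hc1⟩ := h.exists_gen
  refine hF.autP_top_le_of_pMod (pMod_of_pp (autP_le_autAll F S) fun α hα hp => ?_)
  replace hα := (mem_autP le_rfl).mp hα
  have k1 : ∀ Q, F.IsEssential 2 Q → ∀ x ∈ Q, (α ^ 2) x ∈ Q := fun Q hQ x hx => by
    have a1 := hα.essential_img hQ
    by_cases e : img α Q = Q
    · exact e ▸ apply_mem_img α (e ▸ apply_mem_img α hx)
    rcases h.eq_or_eq hF h0 hQ a1 (Ne.symm e) (hα.essential_img a1) with e' | e'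
    · exact e' ▸ apply_mem_img α (apply_mem_img α hx)
    · exact (e (hα.homOn.img_injective a1.1.1 hQ.1.1 e')).elim
  have hβ := hα.pow 2
  have hp2 := hp.pow 2
  have k2 : ∀ Q, F.IsEssential 2 Q → Iso F Q Q (α ^ 2) := fun Q hQ => (hβ.mor.mono hQ.1.1).iso_self (k1 Q hQ)
  refine hp.mem_of_pow le_rfl (k := 1) ?_
  rw [pow_one]
  generalize α ^ 2 = β at *
  have k3 : β c = c := eq_of_card_two h.cardD hc hc1 (h.inv β hβ.mem_autAll c hc) fun e =>
    hc1 (β.injective (e.trans hβ.homOn.map_one.symm))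
  refine hp2.fix_of_trivMod (h.pg.to_le (centralizerIn_le S S)) (centralizerIn_le S S) ⟨hβ.mem_autAll, fun x hx => ?_⟩
    fun z hz => ?_
  · have : ∀ Q, F.IsEssential 2 Q → x⁻¹ * β x ∈ Q := fun Q hQ =>
      (mem_trivMod_of_index_two hβ.mem_autAll (h.idx hF hQ).2 (k2 Q hQ).mem_iff).2 x hx
    exact h.inf_le hF hR' hR hne (this _ hR') (this _ hR)
  refine (inv_mul_eq_one.mp (Subgroup.mem_bot.mp (h0 ▸ le_core hF.normal_zCore (mem_zCore.mpr
    ⟨mul_mem (inv_mem hz) (hβ.mem_center_top hz), fun Q ρ hQ hρ => ?_⟩)))).symm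
  obtain ⟨l1, l2⟩ := h.ess_lt hF hQ
  obtain ⟨σ, hσ, hσ'⟩ := hF.exists_not_ext hQ
  obtain ⟨a, ha, ha'⟩ := SetLike.exists_of_lt l2
  obtain ⟨w, hw, hw', d, hd, rfl⟩ := h.decomp_center hF hQ hσ hσ' hz
  have k4 : ∀ τ, Iso F Q Q τ → τ w ∈ centralizerIn S S := fun τ hτ => by
    rcases h.trichotomy hF hQ hσ.symm (fun h => hσ' (by simpa using inv_mem h)) ha ha' hτ.symm with e | e | e <;>
      replace e := inv_mem e
    · exact h.ext_center hF hQ (by simpa using e) hw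
    · simpa using h.ext_center hF hQ e hw'
    · have := h.ext_center hF hQ e hw'
      rwa [mul_inv_rev, inv_inv, inv_inv, Perm.mul_apply, Perm.mul_apply, perm_inv_apply_self, cj_apply,
        center_conj hw ha] at this
  have k5 : β d = d := by
    by_cases e : d = 1
    · rw [e, hβ.homOn.map_one]
    · rw [eq_of_card_two h.cardD hc hc1 hd e, k3]
  have e : (w * d)⁻¹ * β (w * d) = w⁻¹ * β w := by
    have := center_conj (mul_mem (inv_mem hw) (hβ.mem_center_top hw)) (S.inv_mem (h.le hd).1)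
    rw [hβ.homOn.map_mul hw.1 (h.le hd).1, k5, ← this]; group
  rw [e, hρ.homOn.map_mul (Q.inv_mem (l1.le hw)) (k1 Q hQ w (l1.le hw)), hρ.homOn.map_inv (l1.le hw)]
  exact mul_mem (inv_mem (k4 ρ hρ)) (k4 _ ((k2 Q hQ).trans hρ))

theorem exists_gen_ess (hF : Sat 2 F) (h0 : F.core = ⊥) (hR : F.IsEssential 2 R) : ∃ r ∈ R, r ∉ centralizerIn S S ∧
    ∀ τ, Iso F R R τ → ∀ x ∈ R, x⁻¹ * τ x ∈ D ⊔ Subgroup.zpowers r := by
  obtain ⟨l1, l2⟩ := h.ess_lt hF hR
  obtain ⟨c, hc, hc1⟩ := h.exists_gen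
  have hcR := l1.le (h.le hc)
  obtain ⟨σ, hσ, hσ'⟩ := hF.exists_not_ext hR
  obtain ⟨a, ha, ha'⟩ := SetLike.exists_of_lt l2
  have n1 := h.not_mem_center hF hR hσ hσ' hc hc1
  have n2 := h.not_mem_center hF hR hσ.symm (fun h => hσ' (by simpa using inv_mem h)) hc hc1
  have hA := iso_cj F l2.le ha (h.norm l1.le l2.le ha)
  have k1 : extAut F R ≤ trivMod R (D ⊔ Subgroup.zpowers (σ c)) := fun e he => by
    obtain ⟨α, a1, a2⟩ := h.ext_top hF hR he
    obtain ⟨g, hg, a3⟩ := mem_autS_self.mp (h.autP_top_le hF h0 hR a1.mem_autP)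
    refine ⟨autP_le_autAll F R (extAut_le F R he), fun x hx => Subgroup.mem_sup_left ?_⟩
    rw [← a2 x hx, a3 x (l2.le hx)]; exact h.comm x (l2.le hx) g hg
  have k2 : σ * cj a * σ⁻¹ ∈ trivMod R (D ⊔ Subgroup.zpowers (σ c)) := ⟨(hσ.conj hA).mem_autAll, fun x hx => by
    have := h.conj_triv hσ ha hx l1.le
    rw [← zpowers_eq_of_card h.cardD hc hc1, (hσ.homOn.mono (Subgroup.zpowers_le.mpr hcR)).img_zpowers] at this
    exact Subgroup.mem_sup_right this⟩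
  have k3 : σ * cj a * σ⁻¹ ∉ extAut F R := fun e => by
    have a1 := h.ext_center hF hR e (h.le hc)
    have a2 : a * σ⁻¹ c * a⁻¹ = σ⁻¹ c * c :=
      inv_mul_eq_iff_eq_mul.mp (eq_of_card_two h.cardD hc hc1 (h.comm _ (l2.le (hσ.inv_mem hcR)) _ ha) fun e =>
        ha' (h.mem_of_commute l1 l2 (hσ.inv_mem hcR) n2 ha (inv_mul_eq_one.mp e).symm))
    rw [Perm.mul_apply, Perm.mul_apply, cj_apply, a2, hσ.homOn.map_mul (hσ.inv_mem hcR) hcR, perm_apply_inv_self] at a1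
    exact n1 ((Subgroup.mul_mem_cancel_left _ (h.le hc)).mp a1)
  refine ⟨σ c, hσ.mem hcR, n1, fun τ hτ => (?_ : τ ∈ trivMod R _).2⟩
  rcases h.trichotomy hF hR (hσ.conj hA) k3 ha ha' hτ with e | e | e
  · exact k1 e
  · exact (Subgroup.mul_mem_cancel_left _ (inv_mem k2)).mp (k1 e)
  · exact (Subgroup.mul_mem_cancel_left _ (inv_mem (mul_mem
      (k1 (autS_le_extAut F l2 (cj_mem_autS ha (h.norm l1.le l2.le ha)))) k2))).mp (k1 e)

theorem center_eq_of_two (hF : Sat 2 F) (h0 : F.core = ⊥) (hR : F.IsEssential 2 R) (hh : F.hyperfocalSubgroup 2 = S) :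
    centralizerIn S S = D := by
  obtain ⟨R', hR', hne⟩ := h.exists_ess_ne hF h0 hR
  obtain ⟨r, hr, hr', k⟩ := h.exists_gen_ess hF h0 hR
  obtain ⟨s, hs, hs', k'⟩ := h.exists_gen_ess hF h0 hR'
  have nm : ∀ A, D ≤ A → A ≤ S → S ≤ Subgroup.normalizer (A : Set Ω) := fun A h1 h2 =>
    le_normalizer_of_conj_mem fun g hg x hx => by simpa using A.mul_mem hx (h1 (h.comm x (h2 hx) g hg))
  have hD := h.le.trans (centralizerIn_le S S)
  have k1 : F.focalSubgroup ≤ D ⊔ Subgroup.zpowers r ⊔ Subgroup.zpowers s := hF.focal_le_of_essential fun Q hQ τ hτ x hx => by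
    rcases hQ with rfl | hQ
    · obtain ⟨g, hg, a3⟩ := mem_autS_self.mp (h.autP_top_le hF h0 hR hτ.mem_autP)
      rw [a3 x hx]; exact Subgroup.mem_sup_left (Subgroup.mem_sup_left (h.comm x hx g hg))
    rcases h.eq_or_eq hF h0 hR hR' hne.symm hQ with rfl | rfl
    · exact Subgroup.mem_sup_left (k τ hτ x hx)
    · exact (sup_le_sup_right le_sup_left _ : D ⊔ Subgroup.zpowers s ≤ _) (k' τ hτ x hx)
  refine le_antisymm (fun z hz => ?_) h.le
  obtain ⟨y, hy, j, rfl⟩ := (PGrp.mem_sup_zpowers_of_mem_normalizer (nm _ le_sup_left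
    (sup_le hD (Subgroup.zpowers_le.mpr (hR.1.1 hr))) (hR'.1.1 hs))).mp (k1 (hyp_le_focal F 2 (hh.ge hz.1)))
  obtain ⟨d, hd, i, rfl⟩ := (PGrp.mem_sup_zpowers_of_mem_normalizer (nm _ le_rfl hD (hR.1.1 hr))).mp hy
  have e := (h.elem hF h0).2
  have hZ := center_le_of_centric hR.1
  have two : ∀ {x : Ω} (i : ℤ), x ^ 2 = 1 → x ^ i = 1 ∨ x ^ i = x := fun {x} i hx => by
    rcases Int.even_or_odd' i with ⟨t, rfl | rfl⟩
    · left; rw [zpow_mul, zpow_ofNat, hx, one_zpow]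
    · right; rw [zpow_add_one, zpow_mul, zpow_ofNat, hx, one_zpow, one_mul]
  rcases two j (e _ hR' s hs) with e1 | e1 <;> rw [e1] at hz ⊢
  · rcases two i (e _ hR r hr) with e2 | e2 <;> rw [e2] at hz ⊢
    · simpa using hd
    · exact (hr' ((Subgroup.mul_mem_cancel_left _ (h.le hd)).mp (by simpa using hz))).elim
  · exact (hs' (h.inf_le hF hR hR' hne.symm
      ((R.mul_mem_cancel_left (R.mul_mem (hZ (h.le hd)) (R.zpow_mem hr i))).mp (hZ hz)) hs)).elim

end CI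

theorem Sat.extraspecial_of_center_index (hF : Sat p F) (hS1 : S ≠ ⊥) (h0 : F.core = ⊥)
    (hh : F.hyperfocalSubgroup p = S) (hZ : (Subgroup.center S).index ≤ p ^ 2) :
    IsExtraspecial p S ∧ Nat.card S = p ^ 3 ∧ (p ≠ 2 → Monoid.exponent S = p) ∧
      (p = 2 → Nonempty (S ≃* DihedralGroup 4)) := by
  have hp : p.Prime := Fact.out
  have hn : ¬ F.IsNormal S := fun h => hS1 (le_bot_iff.mp (h0 ▸ le_core h))
  have hna : ¬ IsMulCommutative S := fun h => hn (hF.normal_top_of_comm h)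
  have h := ci_of_index hF.pg hZ hna
  obtain ⟨R, hR⟩ : ∃ R, F.IsEssential p R := by
    by_contra hc
    exact hn (hF.normal_top_of fun R hR => hc ⟨R, hR⟩)
  have h1 : centralizerIn S S = (commutator S).map S.subtype := by
    by_cases h2 : p = 2
    · subst h2; exact h.center_eq_of_two hF h0 hR hh
    · exact h.center_eq_of_odd hF h0 hR h2
  have h2 : commutator S = Subgroup.center S :=
    Subgroup.map_injective S.subtype_injective (h1.symm.trans (map_center_eq S).symm)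
  obtain ⟨-, a2, a3, a4⟩ := center_index_sq hF.pg hZ hna
  have h3 : Nat.card S = p ^ 3 := by rw [h.card, h1, h.cardD, ← pow_succ]
  have e := h.elem hF h0
  refine ⟨⟨⟨hF.pg, le_antisymm (PGrp.frattini_le hF.pg _ a2 a4) (h2 ▸ PGrp.commutator_le_frattini hF.pg), h2⟩, h2 ▸ a3⟩,
    h3, fun hp2 => ?_, fun hp2 => ?_⟩
  · have hmul : ∀ x ∈ S, ∀ y ∈ S, (x * y) ^ p = x ^ p * y ^ p := fun x hx y hy => by
      have hc : ⁅y, x⁆ ∈ centralizerIn S S := h1 ▸ ⟨⁅⟨y, hy⟩, ⟨x, hx⟩⁆, PGrp.commutator_mem _ _, rfl⟩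
      exact PGrp.mul_pow_eq_of_odd (hc.2 x hx).symm (hc.2 y hy).symm (hp.odd_of_ne_two hp2) (e.1 _ hc)
    let K : Subgroup Ω :=
      { carrier := {x | x ∈ S ∧ x ^ p = 1}
        one_mem' := ⟨S.one_mem, one_pow p⟩
        mul_mem' := fun {x y} hx hy => ⟨S.mul_mem hx.1 hy.1, by rw [hmul x hx.1 y hy.1, hx.2, hy.2, mul_one]⟩
        inv_mem' := fun {x} hx => ⟨S.inv_mem hx.1, by rw [inv_pow, hx.2, inv_one]⟩ }
    obtain ⟨R', hR', hne⟩ := h.exists_ess_ne hF h0 hR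
    have hK : ∀ Q, F.IsEssential p Q → Q ≤ K := fun Q hQ x hx => ⟨hQ.1.1 hx, e.2 Q hQ x hx⟩
    have hKS : K = S := h.max (h.ess_lt hF hR).1 K (lt_of_le_of_ne (hK R hR) fun e' =>
      hne (h.eq_of_lt (h.ess_lt hF hR').1 (e' ▸ hK R' hR') (h.ess_lt hF hR).2)) fun x hx => hx.1
    haveI : Nontrivial S := (Subgroup.nontrivial_iff_ne_bot S).mpr hS1
    exact (Monoid.exponent_eq_prime_iff hp).mpr fun x hx =>
      orderOf_eq_prime (Subtype.ext (hKS.ge x.2).2) hx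
  · subst hp2
    obtain ⟨R', hR', hne⟩ := h.exists_ess_ne hF h0 hR
    obtain ⟨l1, l2⟩ := h.ess_lt hF hR
    obtain ⟨r, hr, hr'⟩ := SetLike.exists_of_lt l1
    obtain ⟨s, hs, hs'⟩ := SetLike.exists_of_lt (h.ess_lt hF hR').1
    let x : S := ⟨r, hR.1.1 hr⟩
    let y : S := ⟨s, hR'.1.1 hs⟩
    have hx : x * x = 1 := Subtype.ext ((pow_two r).symm.trans (e.2 R hR r hr))
    have hy : y * y = 1 := Subtype.ext ((pow_two s).symm.trans (e.2 R' hR' s hs))
    have ho : orderOf (x * y) = 2 ^ (1 + 1) := orderOf_eq_prime_pow (fun e' => hs' (h.inf_le hF hR hR' hne.symm ?_ hs))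
      (Subtype.ext (by
        have := e.1 _ (h.pow _ (x * y).2)
        rwa [← pow_mul] at this))
    · have hi := Invol.dihedralHom_injective (n := 4) x (x * y) hx (by have := pow_orderOf_eq_one (x * y); rwa [ho] at this)
        (Invol.left_inverts hx hy) ho (Invol.left_not_mem_zpowers
          (Invol.two_of_mul_self hx fun e' => hr' (by rw [show r = 1 from congrArg Subtype.val e']; exact one_mem _))
          (Invol.two_of_mul_self hy fun e' => hs' (by rw [show s = 1 from congrArg Subtype.val e']; exact one_mem _)))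
      exact ⟨(MulEquiv.ofBijective _ (hi.bijective_of_nat_card_le (by rw [h3, DihedralGroup.nat_card]; rfl))).symm⟩
    · refine h.mem_of_commute l1 l2 hr hr' y.2 ?_
      rw [pow_one, pow_two, mul_eq_one_iff_eq_inv, mul_inv_rev, ← mul_eq_one_iff_eq_inv.mp hx,
        ← mul_eq_one_iff_eq_inv.mp hy] at e'
      exact mul_inv_eq_iff_eq_mul.mpr (congrArg Subtype.val e').symm

end Cfsg.Lib.Fus
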