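/-
The `p`-fusion system of `PSL_n`, `n ≥ 3`, in characteristic `p` is simple.
-/
import Cfsg.Agent.Lib.Fus.SimpleG
import Cfsg.Agent.Lib.Linear.TvConj
import Cfsg.Agent.Lib.Linear.Simple

set_option autoImplicit false
set_option linter.unusedSectionVars false

namespace Cfsg.Lib.Fus

open Cfsg Subgroup Matrix Cfsg.Lib.Linear
open Cfsg.Lib.Amalg (Syl syl_top syl_of_not_dvd)

theorem simple_of_data' {G Γ : Type*} [Group G] [Group Γ] {p : ℕ} [Fact p.Prime] {H U : Subgroup Γ} [Finite H]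
    (π : H →* G) (hπ : Function.Surjective π) (hk : ¬ p ∣ Nat.card π.ker) (hU : Syl p U H) (h : SimpleData p H U)
    (S : Sylow p G) : (groupFusionSystem (S : Subgroup G)).IsSimple p := by
  refine simple_of_surjective π hπ hk (fun S => ?_) S
  obtain ⟨g, rfl⟩ := MulAction.exists_smul_eq H hU.toSylow S
  obtain ⟨I, -, -, hI⟩ := Fus2.exists_fIso_of_surjective (syl_top hU.toSylow) (MulAut.conj g).toMonoidHom
    (MulAut.conj g).surjective (by rw [(MonoidHom.ker_eq_bot_iff _).mpr (MulAut.conj g).injective, inf_bot_eq])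
  exact hI.isSimple (SimpleData.simple _ (hU.map_toSylow.symm ▸ h))

variable {F : Type*} [Field F] [Finite F] {n : ℕ} (p : ℕ) [Fact p.Prime] [CharP F p]

local notation "SL" => Matrix.SpecialLinearGroup

/-- The standard flag. -/
abbrev flagV (F : Type*) [Field F] (n k : ℕ) : Submodule F (Fin n → F) := coordKer F fun i : Fin n => k ≤ i.val

theorem sl_smul_apply (g : SL (Fin n) F) (v : Fin n → F) (i : Fin n) : (g • v) i = ∑ j, g i j * v j := rfl

theorem sl_smul_single (g : SL (Fin n) F) (i j : Fin n) : (g • (Pi.single j 1 : Fin n → F)) i = g i j := by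
  simp [sl_smul_apply, Pi.single_apply]

theorem sl_inv_smul_mem {W : Submodule F (Fin n → F)} {g : SL (Fin n) F} (h : ∀ v ∈ W, g • v ∈ W) {v : Fin n → F}
    (hv : v ∈ W) : g⁻¹ • v ∈ W :=
  ((mem_stabilizing_iff_mapsTo (toMat := SpecialLinearGroup.coeMonoidHom)).mpr h _).mpr
    (show g • g⁻¹ • v ∈ W by rwa [smul_inv_smul])

theorem slTv_smul (v φ : Fin n → F) (h : φ ⬝ᵥ v = 0) (w : Fin n → F) : slTv v φ h • w = w + (φ ⬝ᵥ w) • v :=
  one_add_vecMulVec_mulVec v φ w

theorem mem_slUnitri_iff {g : SL (Fin n) F} : g ∈ slUnitri n F ↔ ∀ k, ∀ v ∈ flagV F n (k + 1), g • v - v ∈ flagV F n k := by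
  refine ⟨fun h k v hv i hi => ?_, fun h => mem_slUnitri.mpr ⟨fun i j hij => ?_, fun i => ?_⟩⟩
  · rw [Pi.sub_apply, sub_eq_zero, sl_smul_apply, Finset.sum_eq_single i, h.2, one_mul]
    · intro j _ hj
      rcases lt_or_gt_of_ne hj with h1 | h1
      · rw [(mem_slUnitri.mp h).1 i j h1, zero_mul]
      · rw [hv j (by omega), mul_zero]
    · simp
  · simpa [sl_smul_single, hij.ne'] using h j _ (single_mem_coordKer.mpr (Nat.lt_irrefl _)) i hij.le
  · simpa [sl_smul_single, sub_eq_zero] using h i _ (single_mem_coordKer.mpr (Nat.lt_irrefl _)) i le_rfl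

theorem smul_mem_flagV {g : SL (Fin n) F} (h : ∀ i j : Fin n, j < i → g i j = 0) (k : ℕ) : ∀ v ∈ flagV F n k,
    g • v ∈ flagV F n k := fun v hv i hi => (sl_smul_apply g v i).trans <| Finset.sum_eq_zero fun j _ => by
  rcases lt_or_ge j i with h1 | h1
  · exact mul_eq_zero_of_left (h i j h1) _
  · exact mul_eq_zero_of_right _ (hv j (by omega))

theorem mem_normalizer_slUnitri {g : SL (Fin n) F} :
    g ∈ normalizer (slUnitri n F : Set (SL (Fin n) F)) ↔ ∀ i j : Fin n, j < i → g i j = 0 := by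
  refine ⟨fun h i j hij => ?_, fun h => mem_normalizer_of_conj_mem_finite fun u hu => mem_slUnitri_iff.mpr fun k v hv => ?_⟩
  · suffices ∀ k, ∀ v ∈ flagV F n k, g • v ∈ flagV F n k from
      sl_smul_single g i j ▸ this (j + 1) _ (single_mem_coordKer.mpr (Nat.lt_irrefl _)) i hij
    intro k
    induction k with
    | zero => exact fun v hv => by rw [show v = 0 from funext fun i => hv i (Nat.zero_le _), smul_zero]; exact zero_mem _
    | succ k ih =>
      intro v hv a ha
      have h1 : (⟨k, by omega⟩ : Fin n) < a := ha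
      simpa [mul_smul, smul_sub, sl_transvection_smul_apply] using ih _ (mem_slUnitri_iff.mp
        (inv_conj_mem_of_mem_normalizer h (transvection_mem_slUnitri h1 1)) k v hv) ⟨k, by omega⟩ le_rfl
  · simpa [mul_smul, smul_sub] using smul_mem_flagV h k _ (mem_slUnitri_iff.mp hu k _
      (sl_inv_smul_mem (smul_mem_flagV h (k + 1)) hv))

theorem slUnitri_le_closure : slUnitri n F ≤ closure {t | t ∈ slUnitri n F ∧ IsTv t} := by
  suffices ∀ k, ∀ u ∈ slUnitri n F, (∀ j : Fin n, k ≤ j.val → u • (Pi.single j 1 : Fin n → F) = Pi.single j 1) →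
      u ∈ closure {t | t ∈ slUnitri n F ∧ IsTv t} from fun u hu => this n u hu fun j hj => absurd j.2 (by omega)
  intro k
  induction k with
  | zero =>
    intro u _ h
    rw [show u = 1 from Subtype.ext (Matrix.ext fun i j => by
      simpa [sl_smul_single, one_apply, Pi.single_apply] using congrFun (h j (Nat.zero_le _)) i)]
    exact one_mem _
  | succ k ih =>
  intro u hu h
  by_cases hk : k < n
  swap
  · exact ih u hu fun j hj => absurd j.2 (by omega)
  have h1 := mem_slUnitri_iff.mp hu k (Pi.single ⟨k, hk⟩ 1) (single_mem_coordKer.mpr (Nat.lt_irrefl _))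
  have h2 : Pi.single ⟨k, hk⟩ 1 ⬝ᵥ (u • (Pi.single ⟨k, hk⟩ 1 : Fin n → F) - Pi.single ⟨k, hk⟩ 1) = 0 := by
    simpa using h1 ⟨k, hk⟩ le_rfl
  have h3 : slTv _ _ h2 ∈ slUnitri n F := mem_slUnitri_iff.mpr fun l v hv i hi => by
    rw [slTv_smul, add_sub_cancel_left, single_dotProduct, one_mul, Pi.smul_apply, smul_eq_mul]
    rcases le_or_gt k l with h4 | h4
    · exact mul_eq_zero_of_right _ (h1 i (by omega))
    · exact mul_eq_zero_of_left (hv ⟨k, hk⟩ h4) _
  refine (Subgroup.mul_mem_cancel_left _ (inv_mem (Subgroup.subset_closure (by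
    exact ⟨h3, isTv_of_coe_eq (coe_slTv _ _ h2)⟩)))).mp
    (ih _ (mul_mem (inv_mem h3) hu) fun j hj => ?_)
  rw [mul_smul, inv_smul_eq_iff, slTv_smul]
  rcases hj.eq_or_lt with rfl | hj
  · simp
  · simp [h j hj, show (⟨k, hk⟩ : Fin n) ≠ j from fun e => by subst e; exact lt_irrefl _ hj]

/-- The unipotent radical of the stabiliser of a subspace. -/
def slRad (W : Submodule F (Fin n → F)) : Subgroup (SL (Fin n) F) :=
  SpecialLinearGroup.lineStab W ⊓ fixingSubgroup _ (W : Set (Fin n → F))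

theorem mem_slRad {W : Submodule F (Fin n → F)} {g : SL (Fin n) F} :
    g ∈ slRad W ↔ (∀ v, g • v - v ∈ W) ∧ ∀ v ∈ W, g • v = v :=
  and_congr Iff.rfl (mem_fixingSubgroup_iff _)

theorem mem_normalizer_slRad {W : Submodule F (Fin n → F)} {g : SL (Fin n) F} (h : ∀ v ∈ W, g • v ∈ W) :
    g ∈ normalizer (slRad W : Set (SL (Fin n) F)) := mem_normalizer_of_conj_mem_finite fun u hu => by
  obtain ⟨h1, h2⟩ := mem_slRad.mp hu
  refine mem_slRad.mpr ⟨fun v => by simpa [mul_smul, smul_sub] using h _ (h1 (g⁻¹ • v)), fun v hv => ?_⟩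
  rw [mul_smul, mul_smul, h2 _ (sl_inv_smul_mem h hv), smul_inv_smul]

theorem slRad_le (k : ℕ) : slRad (flagV F n k) ≤ slUnitri n F := fun g hg => mem_slUnitri_iff.mpr fun l v hv i hi => by
  obtain ⟨h1, h2⟩ := mem_slRad.mp hg
  rcases le_or_gt k l with h | h
  · exact h1 v i (by omega)
  · simp [h2 v fun j hj => hv j (by omega)]

theorem centralizer_slRad {k : ℕ} (h0 : 0 < k) (hk : k < n) :
    slUnitri n F ⊓ centralizer (slRad (flagV F n k) : Set (SL (Fin n) F)) ≤ slRad (flagV F n k) := fun s ⟨h1, h2⟩ => by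
  have key : ∀ v ∈ flagV F n k, ∀ b : Fin n, k ≤ b.val → ∀ w : Fin n → F, (s • w) b • v = w b • s • v := fun v hv b hb w => by
    have h3 : Pi.single b 1 ⬝ᵥ v = 0 := by simpa using hv b hb
    have := congrArg (· • w) (h2 (slTv v _ h3) (mem_slRad.mpr ⟨fun w => by
      rw [slTv_smul, add_sub_cancel_left]; exact Submodule.smul_mem _ _ hv, fun w hw => by simp [slTv_smul, hw b hb]⟩))
    simpa [mul_smul, slTv_smul, smul_comm s] using this
  have h3 : ∀ v ∈ flagV F n k, s • v = v := fun v hv => by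
    simpa [sl_smul_single, h1.2] using (key v hv ⟨k, hk⟩ le_rfl (Pi.single ⟨k, hk⟩ 1)).symm
  refine mem_slRad.mpr ⟨fun w b hb => ?_, h3⟩
  have h4 : (Pi.single ⟨0, by omega⟩ 1 : Fin n → F) ∈ flagV F n k := single_mem_coordKer.mpr (by simpa using h0.ne')
  simpa [h3 _ h4, sub_eq_zero] using congrFun (key _ h4 b hb w) ⟨0, by omega⟩

theorem diag2n_mem_pGen {k : ℕ} {i j : Fin n} (hij : i ≠ j) (h : k ≤ i.val ↔ k ≤ j.val) {a : F} (ha : a ≠ 0) :
    SpecialLinearGroup.diag2n hij a ha ∈ pGen p ⊤ (slRad (flagV F n k)) := by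
  have key : ∀ {i j : Fin n} (hij : i ≠ j), (k ≤ i.val → k ≤ j.val) → ∀ c : F,
      SpecialLinearGroup.transvection hij c ∈ pGen p ⊤ (slRad (flagV F n k)) := fun hij h c =>
    mem_pGen (mem_top _) (mem_normalizer_slRad fun v hv l hl => by
      rw [sl_transvection_smul_apply, hv l hl, zero_add]
      split_ifs with e
      · rw [hv _ (h (e ▸ hl)), mul_zero]
      · rfl) ⟨1, by rw [pow_one, transvection_pow_char]⟩
  rw [sl_diag2n_decompose]
  refine mul_mem (mul_mem (mul_mem (mul_mem (mul_mem ?_ ?_) ?_) ?_) ?_) ?_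
  exacts [key _ h.1 _, key _ h.2 _, key _ h.1 _, key _ h.1 _, key _ h.2 _, key _ h.1 _]

theorem simpleData_sl (m : ℕ) : SimpleData p ⊤ (slUnitri (m + 3) F) := by
  have h01 : (0 : Fin (m + 3)) < Fin.last _ := Fin.last_pos
  refine ⟨fun e => ?_, fun T hT h0 => ?_, fun M _ hM g ⟨_, hg⟩ => ?_⟩
  · have h1 := mem_bot.mp (e.le (transvection_mem_slUnitri h01 (1 : F)))
    simpa [h1, h01.ne] using sl_transvection_smul_apply h01.ne (1 : F) (Pi.single (Fin.last _) 1) 0
  · obtain ⟨z, z1, z2, z3⟩ := exists_central_mem (isPGroup_slUnitri (p := p) _) hT.1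
      (fun s hs => mem_normalizer_of_conj_mem_finite fun x hx =>
        hT.2 x hx s (mem_top _) (mul_mem (mul_mem hs (hT.1 hx)) (inv_mem hs))) h0
    have h1 := eq_of_commute_upper (u := z.1) fun i j hij => by
      simpa [SpecialLinearGroup.transvection_coe, mul_add, add_mul] using
        congrArg Subtype.val (z3 _ (transvection_mem_slUnitri hij 1)).symm
    rw [show z.1 0 0 = 1 from (hT.1 z1).2 0, one_smul, single_eq_vecMulVec] at h1
    refine slUnitri_le_closure.trans ((closure_le _).mpr fun t ⟨t1, t2⟩ => ?_)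
    rcases eq_or_ne t 1 with rfl | t3
    · exact one_mem T
    obtain ⟨c, rfl⟩ := isConj_iff.mp ((isTv_of_coe_eq h1).isConj (by simp) t2 z2 t3)
    exact hT.2 z z1 c (mem_top _) t1
  have hR : ∀ k, 0 < k → k < m + 3 → pGen p ⊤ (slRad (flagV F (m + 3) k)) ⊓
      normalizer (slUnitri (m + 3) F : Set (SL (Fin (m + 3)) F)) ≤ M := fun k h1 h2 =>
    hM _ (slRad_le k) (fun s hs => mem_normalizer_slRad (smul_mem_flagV (mem_slUnitri.mp hs).1 k)) (centralizer_slRad h1 h2)
  have h1 := mem_normalizer_slUnitri.mp hg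
  have hD : det (diagonal fun i => g i i) = 1 := by
    rw [det_diagonal, ← det_of_isUpperTriangular fun i j h => h1 i j h, g.2]
  have h2 : (⟨_, hD⟩ : SL (Fin (m + 3)) F) ∈ M := by
    rw [SpecialLinearGroup.diag_eq_diag2n_prod 1 _ hD]
    refine Finset.noncommProd_induction _ _ _ (· ∈ M) (fun _ _ => mul_mem) (one_mem M) fun i hi => ?_
    have hi := (Finset.mem_filter.1 hi).2
    have hi' : i.val ≠ 1 := fun e => hi (Fin.ext e)
    simp only [hi, ne_eq, not_false_eq_true, dite_true]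
    refine hR (if i.val = 0 then 2 else 1) (by split_ifs <;> omega) (by split_ifs <;> omega)
      ⟨diag2n_mem_pGen p hi (by simp only [Fin.val_one]; split_ifs <;> omega) _, mem_normalizer_slUnitri.mpr fun a b h => ?_⟩
    exact diagonal_apply_ne _ h.ne'
  obtain ⟨d, hd, h2⟩ : ∃ d : SL (Fin (m + 3)) F, d.1 = (diagonal fun i => g i i) ∧ d ∈ M := ⟨_, rfl, h2⟩
  have h3 : d⁻¹ * g ∈ slUnitri (m + 3) F := by
    have : ∀ i j, g i i * (d⁻¹ * g) i j = g i j := fun i j => by
      conv_rhs => rw [← mul_inv_cancel_left d g, sl_coe_mul, hd, diagonal_mul]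
    exact mem_slUnitri.mpr ⟨fun i j h => (mul_eq_zero.mp ((this i j).trans (h1 i j h))).resolve_left
      (SpecialLinearGroup.diagonal_neZero _ hD i), fun i => mul_left_cancel₀ (SpecialLinearGroup.diagonal_neZero _ hD i)
      ((this i i).trans (mul_one _).symm)⟩
  exact (M.mul_mem_cancel_left (inv_mem h2)).mp (hR 1 one_pos (by omega) ⟨mem_pGen (mem_top _)
    (mem_normalizer_slRad (smul_mem_flagV (mem_slUnitri.mp h3).1 1))
    (Amalg.isPGroup_iff_mem.mp (isPGroup_slUnitri _) _ h3), le_normalizer h3⟩)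

theorem simple_psl (hn : 3 ≤ n) (S : Sylow p (ProjectiveSpecialLinearGroup (Fin n) F)) :
    (groupFusionSystem (S : Subgroup (ProjectiveSpecialLinearGroup (Fin n) F))).IsSimple p := by
  obtain ⟨m, rfl⟩ := Nat.exists_eq_add_of_le' hn
  refine simple_of_data' ((QuotientGroup.mk' (center _)).comp (⊤ : Subgroup _).subtype)
    ((QuotientGroup.mk'_surjective _).comp fun g => ⟨⟨g, mem_top g⟩, rfl⟩) (fun hd => ?_)
    (syl_of_not_dvd le_top (isPGroup_slUnitri _) (by simpa using not_dvd_index_slUnitri _)) (simpleData_sl p m) S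
  obtain ⟨x, hx⟩ := exists_prime_orderOf_dvd_card' p hd
  have h3 : x = 1 := Subtype.ext (Subtype.ext (sl_center_eq_one_of_pow (p := p) ((QuotientGroup.eq_one_iff _).mp x.2)
    (by rw [← hx]; exact congrArg (fun y => y.1.1) (pow_orderOf_eq_one x))))
  exact (Fact.out : p.Prime).ne_one (by rw [← hx, h3, orderOf_one])

end Cfsg.Lib.Fus
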