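/-
The fusion systems of symplectic and unitary groups in their defining characteristic are simple.
-/
import Cfsg.Agent.Lib.Fus.SimpleG
import Cfsg.Agent.Lib.CAut.Fam

set_option autoImplicit false
set_option linter.unusedSectionVars false

namespace Cfsg.Lib.Fus

open Cfsg Subgroup Module Cfsg.Lib.Forms Cfsg.Lib.Forms.Form Cfsg.Lib.CAut
open Cfsg.Lib.Amalg (Syl exists_syl_ge)
open scoped commutatorElement

universe u
variable {F : Type*} [Field F] [Finite F] {σ : F →+* F} {K : Kind σ}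
  {V : Type u} [AddCommGroup V] [Module F V] [FiniteDimensional F V] {D : Form K V}
  {p : ℕ} [Fact p.Prime] [CharP F p] {e f : V} {P : Subgroup D.isom}

/-- Kinds of forms with transvections. -/
structure TK (K : Kind σ) : Prop where
  ex : ∃ d, d ≠ 0 ∧ K.tr d = 0
  span : ∀ d d', d ≠ 0 → K.tr d = 0 → K.tr d' = 0 → ∃ x y, d' = x * σ x * d + y * σ y * d
  sing : ∀ a, K.μ * K.tr a = 0 → K.tr a = 0

theorem finite_isom' (D : Form K V) : Finite D.isom := by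
  have := Module.finite_of_finite F (M := V)
  exact finite_isom

theorem exists_eich_mul_extend (hD : D.Nondeg) (h : D.IsHyp e f) {g : D.isom} (hg : g.1 e = e) :
    ∃ k ∈ D.eichAt e, ∃ l, g = k * extend h.isOrthCompl.symm l := by
  obtain ⟨d, hd, hk⟩ := D.exists_eich_map (e := e) (x := f) (y := g.1 f) h.Q_e
    (by conv_rhs => rw [← hg, B_isom]) (by rw [h.B_ef]; exact one_ne_zero) (by rw [Q_isom])
  have h1 : (D.eich e _ d hd)⁻¹ * g ∈ D.fix (Submodule.span F {e, f}) := D.mem_fix_span.mpr (by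
    rintro x (rfl | rfl)
    · rw [isom_mul_apply, hg, isom_inv_apply_eq, eich_apply_self]
    · rw [isom_mul_apply, isom_inv_apply_eq, hk])
  obtain ⟨l, hl⟩ := (range_extend h.isOrthCompl.symm hD).ge h1
  exact ⟨_, eich_mem_eichAt hd, l, by rw [hl, mul_inv_cancel_left]⟩

theorem extend_apply_e (h : D.IsHyp e f) (l : (D.restrict (D.hp e f)).isom) : (extend h.isOrthCompl.symm l).1 e = e :=
  extend_apply_right _ _ (Submodule.subset_span (by simp))

theorem mem_normalizer_of_conj' {g : D.isom} {R : Subgroup D.isom} (h : ∀ x ∈ R, g * x * g⁻¹ ∈ R) :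
    g ∈ normalizer (R : Set D.isom) := by
  have := finite_isom' D
  exact mem_normalizer_of_conj_mem_finite h

theorem fix_of_eichAt_le (hD : D.Nondeg) (hK : TK K) (h : D.IsHyp e f) (hP : IsPGroup p P) (he : D.eichAt e ≤ P) :
    ∀ g ∈ P, g.1 e = e := by
  have : Nontrivial V := ⟨⟨e, 0, h.e_ne_zero⟩⟩
  exact mem_fixSp.mp (mem_of_invariant p hD (Or.inl hK.ex) h.Q_e h.e_ne_zero (fixSp_ne_bot p hP) fun k hk x hx => by
    rwa [hx k (he hk)])

theorem syl_comap (hD : D.Nondeg) (hK : TK K) (h : D.IsHyp e f) (hP : Syl p P ⊤) (he : D.eichAt e ≤ P) :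
    Syl p (P.comap (extend h.isOrthCompl.symm)) ⊤ ∧
      ∀ g ∈ P, ∃ k ∈ D.eichAt e, ∃ l ∈ P.comap (extend h.isOrthCompl.symm), g = k * extend h.isOrthCompl.symm l := by
  have h1 : ∀ g ∈ P, ∃ k ∈ D.eichAt e, ∃ l ∈ P.comap (extend h.isOrthCompl.symm),
      g = k * extend h.isOrthCompl.symm l := fun g hg => by
    obtain ⟨k, hk, l, rfl⟩ := exists_eich_mul_extend hD h (fix_of_eichAt_le hD hK h hP.isPGroup he g hg)
    exact ⟨k, hk, l, (P.mul_mem_cancel_left (he hk)).mp hg, rfl⟩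
  refine ⟨⟨le_top, hP.isPGroup.comap_of_injective _ (extend_injective _), fun U h2 _ h3 => le_antisymm ?_ h2⟩, h1⟩
  have h4 : U.map (extend h.isOrthCompl.symm) ≤ normalizer (D.eichAt e : Set D.isom) := by
    rintro _ ⟨l, -, rfl⟩
    exact mem_normalizer_of_conj' fun k hk =>
      conj_mem_eichAt_of_fx h.e_ne_zero ⟨1, by rw [extend_apply_e h, one_smul]⟩ hk
  refine map_le_iff_le_comap.mp (le_sup_right.trans (hP.le_of_le (fun g hg => ?_) le_top
    ((isPGroup_eichAt p h.Q_e).to_sup_of_normal_left' (h3.map _) h4)))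
  obtain ⟨k, hk, l, hl, rfl⟩ := h1 g hg
  exact mul_mem_sup hk (mem_map_of_mem _ (h2 hl))

theorem exists_eichAt_le (hD : D.Nondeg) (hP : Syl p P ⊤) {x : V} (h0 : x ≠ 0) (hx : D.Q x = 0) :
    ∃ e f, D.IsHyp e f ∧ D.eichAt e ≤ P := by
  have := finite_isom' D
  obtain ⟨g, -, hg⟩ := hP.exists_conj_le (isPGroup_eichAt p hx) le_top
  obtain ⟨y, hy⟩ := hD.exists_isHyp hx h0
  refine ⟨_, _, hy.isom g, fun k hk => hg ⟨g⁻¹ * k * g⁻¹⁻¹, ?_, by simp [mul_assoc]⟩⟩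
  simpa using conj_mem_eichAt g⁻¹ hk

theorem le_closure_eich (hK : TK K) (n : ℕ) : ∀ {V : Type u} [AddCommGroup V] [Module F V] [FiniteDimensional F V]
    {D : Form K V} {P : Subgroup D.isom}, D.Nondeg → finrank F V = n → Syl p P ⊤ →
    P ≤ Subgroup.closure {g | g ∈ P ∧ ∃ e z d h, g = D.eich e z d h} := by
  induction n using Nat.strong_induction_on with
  | _ n ih =>
  intro V _ _ _ D P hD hn hP
  by_cases hs : ∃ x, x ≠ 0 ∧ D.Q x = 0
  · obtain ⟨x, h0, hx⟩ := hs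
    obtain ⟨e, f, h, he⟩ := exists_eichAt_le hD hP h0 hx
    obtain ⟨h1, h2⟩ := syl_comap hD hK h hP he
    intro g hg
    obtain ⟨k, hk, l, hl, rfl⟩ := h2 g hg
    refine mul_mem ?_ (mem_comap.mp <| (?_ : Subgroup.closure _ ≤ comap (extend h.isOrthCompl.symm) _)
      (ih _ (by have := h.finrank_hp; omega) (h.nondeg_hp hD) rfl h1 hl))
    · rcases id hk with rfl | ⟨z, d, hd, rfl⟩
      · exact one_mem _
      · exact subset_closure ⟨he hk, e, z, d, hd, rfl⟩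
    · rw [closure_le]
      rintro _ ⟨a1, a, z, d, hd, rfl⟩
      exact subset_closure ⟨a1, _, _, _, _, extend_eich _ a z d hd⟩
  intro g hg
  suffices h : (⊤ : Submodule F V) ≤ fixSp P by
    rw [show g = 1 from isom_ext fun x => h Submodule.mem_top g hg]; exact one_mem _
  by_contra hne
  obtain ⟨v, -, h1, h2⟩ := exists_fixed_mod p hP.isPGroup (rho P) hne (fun m x hx => by rwa [rho_apply, hx m m.2])
    fun _ _ _ => trivial
  refine h1 fun m hm => by_contra fun h3 => hs ⟨_, sub_ne_zero.mpr h3, ?_⟩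
  have h4 : m.1 (m.1 v - v) = m.1 v - v := h2 ⟨m, hm⟩ m hm
  obtain ⟨a, ha⟩ := D.Q_mem (m.1 v - v)
  rw [← ha]
  refine hK.sing a ?_
  rw [ha, ← D.B_self, D.B_sub_left, sub_eq_zero]
  conv_lhs => rw [← h4, B_isom]

theorem mem_RU_of_comm (hD : D.Nondeg) (hK : TK K) {W : Submodule F V} (hW : D.IsTS W) (h0 : W ≠ ⊥) {s : D.isom}
    (hs : Unip p s) (hc : s ∈ centralizer (RU D W : Set D.isom)) : s ∈ RU D W := by
  have key : ∀ u ∈ W, ∀ z ∈ D.perp W, ∀ d (h : D.IsEich u z d) y,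
      (D.eich (s.1 u) (s.1 z) d (h.isom s)).1 y = (D.eich u z d h).1 y := fun u hu z hz d h y => by
    rw [← D.conj_eich s h, conj_eq_of_mem_centralizer hc (eich_mem_RU hW h hu hz)]
  have h1 : ∀ u ∈ W, s.1 u = u := fun u hu => by
    by_cases hu0 : u = 0
    · simp [hu0]
    obtain ⟨d, hd0, hd⟩ := hK.ex
    obtain ⟨y, hy⟩ := hD.exists_ne_zero ((map_ne_zero_iff _ s.1.injective).mpr hu0)
    have := key u hu 0 (zero_mem _) d ⟨hW.Q_eq u hu, by simp, by simp [hd]⟩ y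
    simp only [eich_apply, map_zero, LinearMap.zero_apply, zero_smul, add_zero, zero_add, sub_right_inj, smul_smul] at this
    refine hs.apply_eq ⟨(K.ε * D.B (s.1 u) y * d)⁻¹ * (K.ε * D.B u y * d), ?_⟩
    rw [mul_smul, ← this, smul_smul, inv_mul_cancel₀ (mul_ne_zero (mul_ne_zero K.ε_ne_zero hy) hd0), one_smul]
  refine ⟨h1, fun x hx => ?_⟩
  obtain ⟨u, hu, hu0⟩ := Submodule.exists_mem_ne_zero_of_ne_bot h0
  obtain ⟨d, hd⟩ := exists_isEich (hW.Q_eq u hu) (hx u hu)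
  refine (Submodule.span_singleton_le_iff_mem u W).mpr hu ?_
  rw [← hD.perp_perp (F ∙ u), D.mem_perp']
  intro y hy
  have := key u hu x hx d hd y
  rw [D.mem_perp_span_singleton] at hy
  rw [D.eich_apply_of_perp (hd.isom s) (by rw [h1 u hu]; exact hy), D.eich_apply_of_perp _ hy, h1 u hu,
    add_right_inj] at this
  rw [D.B_sub_left, smul_left_injective F hu0 this, sub_self]

theorem mem_normalizer_RU {W : Submodule F V} {g : D.isom} (hg : g ∈ D.stab W) : g ∈ normalizer (RU D W : Set D.isom) :=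
  mem_normalizer_of_conj' fun _ hk => conj_mem_RU hg hk

theorem mem_pGen_of_fix (hD : D.Nondeg) (h : D.IsHyp e f)
    (hE : ∀ l, extend h.isOrthCompl.symm l ∈ D.E → l ∈ (D.restrict (D.hp e f)).E) {g : D.isom} (hg : g ∈ D.E)
    (he : g.1 e = e) : g ∈ pGen p D.E (RU D (F ∙ e)) := by
  have hf : ∀ k : D.isom, k.1 e = e → k ∈ normalizer (RU D (F ∙ e) : Set D.isom) := fun k hk =>
    mem_normalizer_RU (D.fix_le_stab _ (D.mem_fix_span.mpr (by simpa using hk)))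
  obtain ⟨k, hk, l, rfl⟩ := exists_eich_mul_extend hD h he
  refine mul_mem (mem_pGen (eichAt_le_E e hk) (hf k (apply_of_mem_eichAt h.Q_e hk))
    (unip_of_mem (isPGroup_eichAt p h.Q_e) hk)) (mem_comap.mp <| (E_le fun a z d hd => ?_ : _ ≤ comap (extend h.isOrthCompl.symm) _)
    (hE l ((D.E.mul_mem_cancel_left (eichAt_le_E e hk)).mp hg)))
  exact mem_pGen (extend_mem_E _ (eich_mem_E a z d hd)) (hf _ (extend_apply_e h _))
    (by rw [extend_eich]; exact unip_eich p _)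

theorem syl_top_of_E (hD : D.Nondeg) (hK : TK K) (hP : Syl p P D.E) : Syl p P ⊤ := by
  obtain ⟨Q, hQ, h⟩ := exists_syl_ge hP.isPGroup le_top
  rwa [le_antisymm h (hP.le_of_le h ((le_closure_eich hK _ hD rfl hQ).trans ((closure_le _).mpr ?_)) hQ.isPGroup)]
  rintro _ ⟨-, a, z, d, hd, rfl⟩
  exact eich_mem_E a z d hd

theorem eich_mem_stab {W : Submodule F V} (hW : D.IsTS W) {u z : V} {d : F} (h : D.IsEich u z d) (hu : u ∈ W) :
    D.eich u z d h ∈ D.stab W := D.mem_stab_of_mapsTo fun x hx => by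
  rw [D.eich_apply_of_perp h (hW.B_eq u hu x hx)]
  exact add_mem hx (W.smul_mem _ hu)

theorem exists_E_map {e₂ f₂ : D.hp e f} (hD : D.Nondeg) (h : D.IsHyp e f) (h₂ : (D.restrict (D.hp e f)).IsHyp e₂ f₂)
    {x y : V} (hx : x ≠ 0) (hy : y ≠ 0) (hQ : D.Q x = D.Q y) : ∃ g ∈ D.E, g.1 x = y :=
  h.exists_mem_map eich_mem_E hD (fun a => ⟨_, ((1 : F) • e₂ + a • f₂ + 0 : D.hp e f).2, by
    have := h₂.Q_comb 1 a (zero_mem _)
    rw [restrict_Q, Q_zero, map_one, one_mul, add_zero (K.tr a)] at this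
    exact this⟩) hx hy hQ

theorem gen_of_frame {e₂ f₂ : D.hp e f} (hD : D.Nondeg) (hK : TK K) (h : D.IsHyp e f)
    (h₂ : (D.restrict (D.hp e f)).IsHyp e₂ f₂) (hE : ∀ l, extend h.isOrthCompl.symm l ∈ D.E → l ∈ (D.restrict (D.hp e f)).E)
    (hP : Syl p P D.E) (he : D.eichAt e ≤ P) (he₂ : (D.restrict (D.hp e f)).eichAt e₂ ≤ P.comap (extend h.isOrthCompl.symm))
    (M : Subgroup D.isom) (hM : ∀ R, R ≤ P → P ≤ normalizer (R : Set D.isom) → P ⊓ centralizer (R : Set D.isom) ≤ R →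
      pGen p D.E R ⊓ normalizer (P : Set D.isom) ≤ M) : D.E ⊓ normalizer (P : Set D.isom) ≤ M := by
  have := finite_isom' D
  have hP' := syl_top_of_E hD hK hP
  obtain ⟨a1, a2⟩ := syl_comap hD hK h hP' he
  have hfe := fix_of_eichAt_le hD hK h hP.isPGroup he
  have hR : ∀ W, D.IsTS W → W ≠ ⊥ → P ≤ D.stab W → pGen p D.E (RU D W) ⊓ normalizer (P : Set D.isom) ≤ M :=
    fun W h1 h2 h3 => hM _ (hP'.le_of_le_normalizer (isPGroup_RU p W) le_top fun g hg => mem_normalizer_RU (h3 hg))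
      (fun g hg => mem_normalizer_RU (h3 hg)) fun s hs => mem_RU_of_comm hD hK h1 h2 (unip_of_mem hP.isPGroup hs.1) hs.2
  obtain ⟨b1, b2⟩ := D.mem_hp.mp e₂.2
  obtain ⟨b3, b4⟩ := D.mem_hp.mp f₂.2
  have hW : D.IsTS (F ∙ e ⊔ F ∙ (e₂ : V)) := (isTS_span_singleton h.Q_e).sup_span h₂.Q_e
    (D.mem_perp_span_singleton.mpr b1)
  have m1 : e ∈ F ∙ e ⊔ F ∙ (e₂ : V) := Submodule.mem_sup_left (Submodule.mem_span_singleton_self _)
  have m2 : (e₂ : V) ∈ F ∙ e ⊔ F ∙ (e₂ : V) := Submodule.mem_sup_right (Submodule.mem_span_singleton_self _)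
  have hPW : P ≤ D.stab (F ∙ e ⊔ F ∙ (e₂ : V)) := fun g hg => by
    obtain ⟨k, hk, l, hl, rfl⟩ := a2 g hg
    refine mul_mem ?_ (D.fix_le_stab _ ?_)
    · rcases hk with rfl | ⟨z, d, hd, rfl⟩
      exacts [one_mem _, eich_mem_stab hW hd m1]
    · rw [fix_sup, mem_inf, D.mem_fix_span, D.mem_fix_span]
      refine ⟨by simpa using extend_apply_e h l, ?_⟩
      simpa [extend_apply_left] using fix_of_eichAt_le (h.nondeg_hp hD) hK h₂ a1.isPGroup he₂ l hl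
  have hg : ∀ {u z : V} {d : F} (hd : D.IsEich u z d), u ∈ F ∙ e ⊔ F ∙ (e₂ : V) →
      D.eich u z d hd ∈ pGen p D.E (RU D (F ∙ e ⊔ F ∙ (e₂ : V))) := fun hd hu =>
    mem_pGen (eich_mem_E _ _ _ hd) (mem_normalizer_RU (eich_mem_stab hW hd hu)) (unip_eich p hd)
  have hk : ∀ c : F, c ≠ 0 → ∃ k ∈ pGen p D.E (RU D (F ∙ e ⊔ F ∙ (e₂ : V))), k.1 e = c • e₂ := fun c hc => by
    have c1 : D.IsEich e ((-(K.ε * σ c⁻¹)) • (f₂ : V)) 0 :=
      ⟨h.Q_e, by rw [D.B_smul_right, b3, mul_zero], by rw [D.Q_smul_of_Q (x := f₂) h₂.Q_f, map_zero]⟩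
    have c2 : D.IsEich e₂ ((K.ε * σ c) • f) 0 :=
      ⟨h₂.Q_e, by rw [D.B_smul_right, D.eq_zero_symm b2, mul_zero], by rw [D.Q_smul_of_Q h.Q_f, map_zero]⟩
    refine ⟨_, mul_mem (hg c1 m1) (hg c2 m2), ?_⟩
    have c3 : D.B f₂ e₂ = K.ε := h₂.B_fe
    rw [isom_mul_apply, D.eich_apply_of_perp c2 (D.eq_zero_symm b1), map_add, map_smul, eich_apply_self,
      D.eich_apply_of_perp c1 b1, D.B_smul_left, D.B_smul_left, h.B_fe, c3, map_neg, map_mul, map_mul, K.σσ, K.σσ, K.σ_ε,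
      show K.ε * c * K.ε = c by linear_combination c * K.ε_mul,
      show -(K.ε * c⁻¹) * K.ε = -c⁻¹ by linear_combination -c⁻¹ * K.ε_mul, smul_add, smul_smul, mul_neg,
      mul_inv_cancel₀ hc, neg_smul, one_smul]
    abel
  intro g ⟨g1, g2⟩
  obtain ⟨c, hc⟩ := Submodule.mem_span_singleton.mp (mem_span_of_fx hD (Or.inl hK.ex) h.Q_e h.e_ne_zero (x := g.1 e)
    fun z d hd => ⟨1, by
      have := hfe _ (inv_conj_mem_of_mem_normalizer g2 (he (eich_mem_eichAt hd)))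
      rw [isom_mul_apply, isom_mul_apply, isom_inv_apply_eq] at this
      rw [one_smul, ← this]⟩)
  have hc0 : c ≠ 0 := Fx.ne_zero hc.symm h.e_ne_zero
  obtain ⟨k₁, k1, k2⟩ := hk 1 one_ne_zero
  obtain ⟨k₂, k3, k4⟩ := hk c hc0
  have t1 : (k₁⁻¹ * k₂).1 e = c • e := by
    rw [isom_mul_apply, isom_inv_apply_eq, map_smul, k2, k4, one_smul]
  have t2 : k₁⁻¹ * k₂ ∈ D.stab (F ∙ e) := D.mem_stab_of_mapsTo fun x hx => by
    obtain ⟨a, rfl⟩ := Submodule.mem_span_singleton.mp hx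
    rw [map_smul, t1]
    exact Submodule.smul_mem _ _ (Submodule.smul_mem _ _ (Submodule.mem_span_singleton_self _))
  have hf : P ≤ D.fix (F ∙ e) := fun s hs => D.mem_fix_span.mpr (by simpa using hfe s hs)
  obtain ⟨n, hn, a, ha, e1⟩ := (hP.of_le (K := pGen p D.E (RU D (F ∙ e ⊔ F ∙ (e₂ : V))) ⊓ D.fix (F ∙ e))
    (le_inf (fun s hs => mem_pGen (hP.le hs) (mem_normalizer_RU (hPW hs)) (unip_of_mem hP.isPGroup hs)) hf)
    (inf_le_left.trans (pGen_le _ _ _))).frattini_mem (g := k₁⁻¹ * k₂) (mem_normalizer_of_conj' fun x hx =>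
      mem_inf.mpr ⟨mul_mem (mul_mem (mul_mem (inv_mem k1) k3) hx.1) (inv_mem (mul_mem (inv_mem k1) k3)), conj_mem_fix t2 hx.2⟩)
  have ha' : a ∈ pGen p D.E (RU D (F ∙ e ⊔ F ∙ (e₂ : V))) :=
    (Subgroup.mul_mem_cancel_left _ hn.1).mp (e1 ▸ mul_mem (inv_mem k1) k3)
  have h0 : (F ∙ e) ≠ ⊥ := by simpa using h.e_ne_zero
  refine (M.mul_mem_cancel_left (inv_mem (hR _ hW (ne_bot_of_le_ne_bot h0 le_sup_left) hPW ⟨ha', ha⟩))).mp
    (hR _ (isTS_span_singleton h.Q_e) h0 (hf.trans (D.fix_le_stab _)) (mem_inf.mpr ⟨mem_pGen_of_fix hD h hE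
      (mul_mem (inv_mem (pGen_le _ _ _ ha')) g1) ?_, mul_mem (inv_mem ha) g2⟩))
  rw [isom_mul_apply, isom_inv_apply_eq, ← hc, eq_inv_mul_iff_mul_eq.mpr e1.symm, isom_mul_apply, t1,
    isom_inv_apply_eq]
  exact hn.2 _ (Submodule.smul_mem _ _ (Submodule.mem_span_singleton_self _))

theorem scl_psi {T : Subgroup D.isom} (he : D.eichAt e ≤ P) (hT : SCl D.E P T) {l : D.isom} {c : F} (hl : IsL D e f l c)
    {w : D.hp e f} {d : F} (hd : D.IsEich e w d) (h1 : D.eich e w d hd ∈ T) :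
    D.eich e (hl.psi w) _ (hl.isEich hd) ∈ T := by
  rw [← hl.conj_eich hd]
  exact hT.2 _ h1 _ hl.mem (by rw [hl.conj_eich hd]; exact he (eich_mem_eichAt _))

theorem scl_all {T : Subgroup D.isom} (hD : Std D) (h : D.IsHyp e f) (he : D.eichAt e ≤ P) (hT : SCl D.E P T)
    {w : V} (hw : w ∈ D.hp e f) (h0 : w ≠ 0) {d : F} (hd : D.IsEich e w d) (h1 : D.eich e w d hd ∈ T) (w' : D.hp e f) :
    ∃ d hd, D.eich e w' d hd ∈ T := by
  let X : AddSubgroup (D.hp e f) :=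
    { carrier := {w | ∃ d hd, D.eich e w d hd ∈ T}
      zero_mem' := ⟨0, ⟨h.Q_e, by simp, by simp [Q_zero]⟩, by simp only [ZeroMemClass.coe_zero, eich_zero, one_mem]⟩
      add_mem' := by
        rintro w w' ⟨d, hd, h1⟩ ⟨d', hd', h2⟩
        exact ⟨_, hd.add hd', by simpa only [eich_mul, Submodule.coe_add] using mul_mem h1 h2⟩
      neg_mem' := by
        rintro w ⟨d, hd, h1⟩
        exact ⟨_, hd.neg, by simpa only [eich_inv, Submodule.coe_neg] using inv_mem h1⟩ }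
  refine ((hD.irred h X fun l c hl x ⟨d, hd, hx⟩ => ⟨_, _, scl_psi he hT hl hd hx⟩).resolve_left fun e1 =>
    h0 ?_).ge (AddSubgroup.mem_top w')
  exact congrArg Subtype.val (AddSubgroup.mem_bot.mp (e1.le (⟨d, hd, h1⟩ : ⟨w, hw⟩ ∈ X)))

theorem scl_exists_tv {T : Subgroup D.isom} (hD : Std D) (hK : TK K) (h : D.IsHyp e f)
    (hδ : ∀ δ : D.hp e f → F, (∀ w w', δ (w + w') = δ w + δ w' + D.B w w') →
      ¬ ∀ l (hl : IsL D e f l 1) w, δ (hl.psi w) = δ w)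
    (hP : Syl p P D.E) (he : D.eichAt e ≤ P) (hT : SCl D.E P T) (h0 : T ≠ ⊥) :
    ∃ d, ∃ hd : D.IsEich e 0 d, d ≠ 0 ∧ D.eich e 0 d hd ∈ T := by
  have := finite_isom' D
  by_contra! hn
  have h1 : ∀ {w : V} {d d' : F} (hd : D.IsEich e w d) (hd' : D.IsEich e w d'), D.eich e w d hd ∈ T →
      D.eich e w d' hd' ∈ T → d' = d := fun hd hd' h1 h2 => by
    obtain ⟨h3, h4⟩ := eich_eq_mul hd hd'
    exact sub_eq_zero.mp (by_contra fun h5 => hn _ h3 h5 ((T.mul_mem_cancel_left h1).mp (h4 ▸ h2)))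
  obtain ⟨z, z1, z2, z3⟩ := exists_central_mem hP.isPGroup hT.1 (fun s hs => mem_normalizer_of_conj' fun x hx =>
    hT.2 x hx s (hP.le hs) (mul_mem (mul_mem hs (hT.1 hx)) (inv_mem hs))) h0
  obtain ⟨w, hw, d, hd, rfl⟩ := exists_eich_of_mem h (RU_le_eichAt h (mem_RU_of_comm hD.nondeg hK
    (isTS_span_singleton h.Q_e) (by simpa using h.e_ne_zero) (unip_of_mem hP.isPGroup (hT.1 z1))
    fun s hs => z3 s (he (RU_le_eichAt h hs))))
  choose δ hδ1 hδ2 using scl_all hD h he hT hw (fun e1 => by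
    subst e1
    exact hn d hd (fun e2 => z2 (by subst e2; exact D.eich_zero _)) z1) hd z1
  refine hδ δ (fun w w' => h1 ((hδ1 w).add (hδ1 w')) (hδ1 (w + w')) ?_ (hδ2 (w + w'))) fun l hl w => ?_
  · simpa only [eich_mul] using mul_mem (hδ2 w) (hδ2 w')
  · simpa using h1 _ _ (scl_psi he hT hl _ (hδ2 w)) (hδ2 _)

theorem sc_of_frame {e₂ f₂ : D.hp e f} (hD : Std D) (hK : TK K) (h : D.IsHyp e f)
    (h₂ : (D.restrict (D.hp e f)).IsHyp e₂ f₂) (hδ : ∀ δ : D.hp e f → F, (∀ w w', δ (w + w') = δ w + δ w' + D.B w w') →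
      ¬ ∀ l (hl : IsL D e f l 1) w, δ (hl.psi w) = δ w)
    (hP : Syl p P D.E) (he : D.eichAt e ≤ P) (he₂ : (D.restrict (D.hp e f)).eichAt e₂ ≤ P.comap (extend h.isOrthCompl.symm))
    (T : Subgroup D.isom) (hT : SCl D.E P T) (h0 : T ≠ ⊥) : P ≤ T := by
  have hN := hD.nondeg
  obtain ⟨d, hd, hd0, hdT⟩ := scl_exists_tv hD hK h hδ hP he hT h0
  have hcj : ∀ {u : V} {k : D.isom}, u ≠ 0 → D.Q u = 0 → k ∈ P → (∀ g : D.isom, g.1 u = e → g * k * g⁻¹ ∈ T) → k ∈ T :=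
    fun {u k} h1 h2 h3 h4 => by
      obtain ⟨g, g1, g2⟩ := exists_E_map hN h h₂ h1 h.e_ne_zero (h2.trans h.Q_e.symm)
      simpa [mul_assoc] using hT.2 _ (h4 g g2) _ (inv_mem g1) (by simpa [mul_assoc] using h3)
  have h3 : ∀ (x : F) (hx : D.IsEich e 0 (x * σ x * d)), D.eich e 0 _ hx ∈ T := fun x hx => by
    rcases eq_or_ne x 0 with rfl | hx0
    · simpa only [zero_mul, eich_zero] using one_mem T
    refine hcj (smul_ne_zero hx0 h.e_ne_zero) (D.Q_smul_of_Q h.Q_e x) (he (eich_mem_eichAt hx)) fun g hg => ?_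
    rw [D.eich_congr hx (by simpa using hx) rfl (smul_zero (σ x)).symm rfl, ← D.eich_smul_left x _ (hd.smul_left x),
      conj_eich]
    simpa only [hg, map_zero] using hdT
  have h4 : ∀ (d' : F) (hd' : D.IsEich e 0 d'), D.eich e 0 d' hd' ∈ T := fun d' hd' => by
    obtain ⟨x, y, rfl⟩ := hK.span d d' hd0 (by simpa [Q_zero] using hd.tr_d) (by simpa [Q_zero] using hd'.tr_d)
    have := mul_mem (h3 x (by simpa using hd.smul x)) (h3 y (by simpa using hd.smul y))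
    rw [D.eich_mul] at this
    simpa using this
  have c1 : (D.restrict (D.hp e f)).IsEich e₂ 0 d := ⟨h₂.Q_e, by simp, by simpa [Q_zero] using hd.tr_d⟩
  have c2 : D.IsEich e f₂ 0 := ⟨h.Q_e, (D.mem_hp.mp f₂.2).1, by rw [map_zero]; exact h₂.Q_f.symm⟩
  obtain ⟨τ, t1, t2, t3⟩ : ∃ τ ∈ T, τ.1 e = (1 : F) • e ∧ τ.1 f₂ = f₂ - (K.ε * d) • e₂ :=
    ⟨extend h.isOrthCompl.symm (eich _ e₂ 0 d c1), hcj (u := e₂) (by simpa using h₂.e_ne_zero) h₂.Q_e
      (he₂ (eich_mem_eichAt c1)) fun g hg => by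
        rw [extend_eich, conj_eich]
        simpa only [hg, ZeroMemClass.coe_zero, map_zero] using hdT, by rw [extend_apply_e h, one_smul], by
      simp [extend_apply_left, eich_apply, h₂.B_ef, smul_smul]⟩
  obtain ⟨d', hd', e1⟩ := exists_commutator_eich _ t2 c2
  have k1 := he (eich_mem_eichAt c2)
  have h5 := scl_all hD h he hT (by
    rw [t3]; exact sub_mem (Submodule.smul_mem _ _ (sub_mem f₂.2 (Submodule.smul_mem _ _ e₂.2))) f₂.2) (by
    simpa [t3, K.ε_ne_zero, hd0] using h₂.e_ne_zero) hd' (by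
    rw [← e1, commutatorElement_def, mul_assoc, mul_assoc, ← mul_assoc (D.eich e f₂ 0 c2)]
    exact mul_mem t1 (hT.2 _ (inv_mem t1) _ (hP.le k1) (mul_mem (mul_mem k1 (inv_mem (hT.1 t1))) (inv_mem k1))))
  have h6 : D.eichAt e ≤ T := fun k hk => by
    obtain ⟨w, hw, d, hd, rfl⟩ := exists_eich_of_mem h hk
    obtain ⟨d', hd', h1⟩ := h5 ⟨w, hw⟩
    obtain ⟨h3, e2⟩ := eich_eq_mul hd' hd
    exact e2 ▸ mul_mem h1 (h4 _ h3)
  refine (le_closure_eich hK _ hN rfl (syl_top_of_E hN hK hP)).trans ((closure_le _).mpr ?_)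
  rintro _ ⟨k1, u, z, d, hd, rfl⟩
  rcases eq_or_ne u 0 with rfl | hu
  · rw [show D.eich 0 z d hd = 1 from isom_ext fun x => by simp [eich_apply]]
    exact one_mem T
  exact hcj hu hd.Q_e k1 fun g hg => h6 (hg ▸ conj_mem_eichAt g (eich_mem_eichAt hd))

theorem simpleData_E (hD : Std D) (hB : Big D) (hK : TK K)
    (hE : ∀ e f (h : D.IsHyp e f) l, extend h.isOrthCompl.symm l ∈ D.E → l ∈ (D.restrict (D.hp e f)).E)
    (hδ : ∀ e f, D.IsHyp e f → ∀ δ : D.hp e f → F, (∀ w w', δ (w + w') = δ w + δ w' + D.B w w') →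
      ¬ ∀ l (hl : IsL D e f l 1) w, δ (hl.psi w) = δ w) (P : Subgroup D.isom) (hP : Syl p P D.E) :
    SimpleData p D.E P := by
  have hN := hD.nondeg
  obtain ⟨x, y, hx⟩ := hD.hyp
  obtain ⟨e, f, h, he⟩ := exists_eichAt_le hN (syl_top_of_E hN hK hP) hx.e_ne_zero hx.Q_e
  obtain ⟨u, u', hu⟩ := hB.exists_hyp hN h
  obtain ⟨e₂, f₂, h₂, he₂⟩ := exists_eichAt_le (h.nondeg_hp hN) (syl_comap hN hK h (syl_top_of_E hN hK hP) he).1
    hu.e_ne_zero hu.Q_e
  refine ⟨fun e1 => ?_, sc_of_frame hD hK h h₂ (hδ e f h) hP he he₂, fun M _ =>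
    gen_of_frame hN hK h h₂ (hE e f h) hP he he₂ M⟩
  obtain ⟨d, hd0, hd⟩ := hK.ex
  have c1 : D.IsEich e 0 d := ⟨h.Q_e, by simp, by simpa [Q_zero] using hd⟩
  have c2 : D.IsEich e 0 0 := ⟨h.Q_e, by simp, by simp [Q_zero]⟩
  exact hd0 (eich_inj h (zero_mem _) (zero_mem _) ((mem_bot.mp (e1 ▸ he (eich_mem_eichAt c1))).trans
    (D.eich_zero c2).symm)).2

end Cfsg.Lib.Fus
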