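/-
The `p`-fusion systems of `PSp` and `PSU` in characteristic `p` are simple.
-/
import Cfsg.Agent.Lib.Fus.ClassP

set_option autoImplicit false
set_option linter.unusedSectionVars false

namespace Cfsg.Lib.Fus

open Cfsg Subgroup Module Cfsg.Lib.Forms Cfsg.Lib.Forms.Form Cfsg.Lib.CAut
open Cfsg.Lib.Amalg (Syl exists_syl_ge)

universe u
variable {F : Type*} [Field F] [Finite F] {σ : F →+* F} {K : Kind σ}
  {V : Type u} [AddCommGroup V] [Module F V] [FiniteDimensional F V]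
  (p : ℕ) [Fact p.Prime] [CharP F p] {G : Type*} [Group G]

theorem simple_of_equiv_E {D : Form K V} (hD : Std D) (j : G ≃* D.E) (h : ∀ P, Syl p P D.E → SimpleData p D.E P)
    (S : Sylow p (G ⧸ center G)) : (groupFusionSystem (S : Subgroup (G ⧸ center G))).IsSimple p := by
  have := finite_isom' D
  refine simple_of_data ((QuotientGroup.mk' (center G)).comp j.symm.toMonoidHom)
    ((QuotientGroup.mk'_surjective _).comp j.symm.surjective) (fun hd => ?_) h S
  obtain ⟨x, hx⟩ := exists_prime_orderOf_dvd_card' p hd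
  obtain ⟨e, f, he⟩ := hD.hyp
  have h1 : j.symm x.1 ∈ center G := (QuotientGroup.eq_one_iff _).mp x.2
  have h2 : x.1 ∈ center D.E := mem_center_iff.mpr fun y => j.symm.injective (by
    rw [map_mul, map_mul, mem_center_iff.mp h1])
  have h3 : x = 1 := Subtype.ext (Subtype.ext (Unip.eq_one_of_isScal (p := p) ⟨1, by
    rw [pow_one, ← hx]; exact congrArg (fun y => y.1.1) (pow_orderOf_eq_one x)⟩
    ((he.mem_center_iff hD.nondeg hD.rich eich_mem_E _).mp h2)))
  exact (Fact.out : p.Prime).ne_one (by rw [← hx, h3, orderOf_one])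

theorem tk_alt : TK (altKind F) :=
  ⟨⟨1, one_ne_zero, rfl⟩, fun d d' hd _ _ => by
    obtain ⟨x, y, h⟩ := exists_sq_add_sq (d' / d)
    exact ⟨x, y, by simp only [RingHom.id_apply]; field_simp at h; linear_combination h⟩, fun _ _ => rfl⟩

theorem tk_herm {q : ℕ} (h : Forms.IsConj σ q) : TK h.kind :=
  ⟨h.exists_trace_zero, fun d d' hd h1 h2 => by
    obtain ⟨x, hx⟩ := h.exists_norm_eq (a := d' / d) (by
      rw [map_div₀, show σ d = -d from eq_neg_of_add_eq_zero_right h1,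
        show σ d' = -d' from eq_neg_of_add_eq_zero_right h2, neg_div_neg_eq])
    exact ⟨x, 0, by rw [hx]; field_simp; simp⟩, fun _ h => by simpa using h⟩

theorem simpleData_alt {D : Form (altKind F) V} (hD : D.Nondeg) (hn : 4 ≤ finrank F V)
    (hex : 5 ≤ finrank F V ∨ 3 ≤ Nat.card F) (P : Subgroup D.isom) (hP : Syl p P D.E) : SimpleData p D.E P := by
  refine simpleData_E (std_alt hD hn) ⟨Symp.hasTS hD hn, Symp.rich D 5⟩ tk_alt
    (fun e f h l _ => (Symp.E_eq_top (h.nondeg_hp hD)).ge (mem_top l)) (fun e f h δ h1 h2 => ?_) P hP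
  have hN := h.nondeg_hp hD
  have hr := h.finrank_hp
  have h3 : ∀ w w' : D.hp e f, w ≠ 0 → w' ≠ 0 → δ w' = δ w := fun w w' a1 a2 => by
    obtain ⟨g, rfl⟩ := Symp.exists_map hN a1 a2
    obtain ⟨l, hl, -, e1⟩ := exists_isL_extend h ((Symp.E_eq_top hN).ge (mem_top g))
    rw [← e1, h2]
  have h4 : ∀ w w' : D.hp e f, w ≠ 0 → w' ≠ 0 → w + w' ≠ 0 → δ w + D.B w w' = 0 := fun w w' a1 a2 a3 => by
    linear_combination h3 _ _ a2 a3 - h1 w w'
  obtain ⟨u, v, huv⟩ := Symp.exists_isHyp hN (by omega)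
  have h5 := h4 u v huv.e_ne_zero huv.f_ne_zero fun e1 => by
    simpa [e1, Symp.B_self, huv.B_ef] using ((D.restrict (D.hp e f)).B_add_right u u v).symm
  have h6 : D.B u v = 1 := huv.B_ef
  suffices ∃ w, w ≠ 0 ∧ u + w ≠ 0 ∧ D.B u w = 0 by
    obtain ⟨w, a1, a2, a3⟩ := this
    exact one_ne_zero (by linear_combination h5 - h6 - h4 u w huv.e_ne_zero a1 a2 + a3 : (1 : F) = 0)
  rcases hex with h7 | h7
  · have : Nontrivial ((D.restrict (D.hp e f)).hp u v) := (Module.finrank_pos_iff (R := F)).mp (by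
      have := huv.finrank_hp; omega)
    obtain ⟨w, hw⟩ := exists_ne (0 : (D.restrict (D.hp e f)).hp u v)
    refine ⟨w, by simpa using hw, fun e1 => huv.not_mem_hp ?_, ((Form.mem_hp _).mp w.2).1⟩
    simpa only [← eq_neg_of_add_eq_zero_left e1] using neg_mem w.2
  · obtain ⟨c, hc⟩ : ∃ c : F, c ≠ 0 ∧ c ≠ -1 := by
      by_contra! hc
      have := Nat.card_le_card_of_surjective (fun b : Bool => if b then (0 : F) else -1) fun c =>
        (eq_or_ne c 0).elim (fun e => ⟨true, e.symm⟩) fun e => ⟨false, (hc c e).symm⟩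
      simp at this; omega
    refine ⟨c • u, smul_ne_zero hc.1 huv.e_ne_zero, ?_, by simp [D.B_smul_right, Symp.B_self]⟩
    rw [show u + c • u = (c + 1) • u by module]
    exact smul_ne_zero (fun e1 => hc.2 (eq_neg_of_add_eq_zero_left e1)) huv.e_ne_zero

theorem ker_det_le_E {q : ℕ} {h : Forms.IsConj σ q} {D : Form h.kind V} (hD : D.Nondeg) (hn : 2 ≤ finrank F V) :
    D.det.ker ≤ D.E := by
  rcases hn.eq_or_lt with hn | hn
  swap
  · exact (Herm.E_eq hD hn).ge
  obtain ⟨e, f, hef⟩ := Herm.exists_isHyp hD hn.le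
  have h1 : ∀ g : D.isom, g.1 e = e → g ∈ D.E := fun g hg => by
    obtain ⟨k, hk, l, rfl⟩ := exists_eich_mul_extend hD hef hg
    have : Subsingleton (D.hp e f) := (Module.finrank_zero_iff (R := F)).mp (by have := hef.finrank_hp; omega)
    rw [show l = 1 from isom_ext fun x => Subsingleton.elim _ _, map_one, mul_one]
    exact eichAt_le_E e hk
  have h2 : ∀ a : F, a ≠ 0 → a + σ a = 0 → ∃ k ∈ D.E, k.1 e = -a • f := fun a a1 a2 => by
    have c1 : D.IsEich e 0 (-a⁻¹) := ⟨hef.Q_e, by simp, by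
      simp [Q_zero, eq_neg_of_add_eq_zero_right a2]⟩
    have c2 : D.IsEich f 0 a := ⟨hef.Q_f, by simp, by simpa [Q_zero] using a2⟩
    refine ⟨_, mul_mem (eich_mem_E _ _ _ c1) (eich_mem_E _ _ _ c2), ?_⟩
    simp [isom_mul_apply, eich_apply, hef.B_fe, hef.B_ee, hef.B_ef, smul_smul, a1, smul_add, smul_sub]
  intro g hg
  obtain ⟨k, hk, c, hc, e1⟩ := hD.exists_mem_map_smul eich_mem_E (Herm.rich D 3) ((D.Q_isom g e).trans hef.Q_e)
    ((map_ne_zero_iff _ g.1.injective).mpr hef.e_ne_zero) hef.Q_e hef.e_ne_zero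
  obtain ⟨t, t1, t2, t3⟩ := hef.exists_torus hD hc
  have h3 : t⁻¹ * (k * g) ∈ D.det.ker := E_le_ker_det (h1 _ (by
    rw [isom_mul_apply, isom_inv_apply_eq, t1, isom_mul_apply, e1]))
  have h4 : c * (σ c)⁻¹ = 1 := by
    rw [← hef.det_torus t1 t2 t3, Units.val_eq_one]
    exact inv_mem_iff.mp ((Subgroup.mul_mem_cancel_right _ (mul_mem (E_le_ker_det hk) hg)).mp h3)
  obtain ⟨a, a1, a2⟩ := h.exists_trace_zero
  obtain ⟨k₁, k1, k2⟩ := h2 a a1 a2
  obtain ⟨k₂, k3, k4⟩ := h2 (c * a) (mul_ne_zero hc a1) (by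
    rw [map_mul, ← (mul_inv_eq_one₀ ((map_ne_zero σ).mpr hc)).mp h4, ← mul_add, a2, mul_zero])
  refine (D.E.mul_mem_cancel_left (mul_mem (mul_mem (inv_mem k3) k1) hk)).mp (h1 _ ?_)
  simp only [isom_mul_apply]
  rw [isom_inv_apply_eq, e1, map_smul, k2, k4, smul_smul, mul_neg]

theorem simpleData_herm {q : ℕ} {h : Forms.IsConj σ q} {D : Form h.kind V} (hD : D.Nondeg) (hn : 4 ≤ finrank F V)
    (P : Subgroup D.isom) (hP : Syl p P D.E) : SimpleData p D.E P := by
  refine simpleData_E (std_herm hD (by omega) (by omega)) ⟨Herm.hasTS hD hn, Herm.rich D 5⟩ (tk_herm h)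
    (fun e f he l hl => ker_det_le_E (he.nondeg_hp hD) (by have := he.finrank_hp; omega)
      ((det_extend _ l).symm.trans (E_le_ker_det hl))) (fun e f he δ h1 _ => ?_) P hP
  obtain ⟨u, v, huv⟩ := Herm.exists_isHyp (he.nondeg_hp hD) (by have := he.finrank_hp; omega)
  obtain ⟨c, hc⟩ := h.exists_not_fixed
  have h2 := h1 (c • v) u
  have h3 : D.B u v = 1 := huv.B_ef
  have h4 : D.B v u = 1 := huv.B_fe
  rw [add_comm, h1, Submodule.coe_smul, D.B_smul_left, D.B_smul_right, h3, h4] at h2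
  exact hc (by linear_combination -h2)

end Cfsg.Lib.Fus
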