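/-
Facts about fusion systems over arbitrary (possibly infinite) groups, proved directly with homomorphisms.
-/
import Cfsg.Prelude.Def_FusionSystem

set_option autoImplicit false

namespace Cfsg.Lib.Fus

open Cfsg Cfsg.FusionSystem

variable {Ω : Type*} [Group Ω] {S : Subgroup Ω} {F : FusionSystem S} {P Q R : Subgroup Ω}

theorem hom_restrict {φ : P →* Ω} (hφ : φ ∈ F.Hom P) (hQ : Q ≤ P) : φ.comp (Subgroup.inclusion hQ) ∈ F.Hom Q := by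
  have h1 : ∀ x : Q, conjHom Q 1 x ∈ P := fun x => by
    show 1 * (x : Ω) * 1⁻¹ ∈ P
    simpa using hQ x.2
  have := F.comp_mem (F.conj_mem (hQ.trans (F.le_of_mem hφ).1) S.one_mem) hφ h1
  convert this using 1
  ext x
  show φ _ = φ _
  congr 1
  exact Subtype.ext (by show (x : Ω) = 1 * (x : Ω) * 1⁻¹; simp)

theorem hom_range_sup (ψ : ↥(P ⊔ Q) →* Ω) :
    ψ.range = (P.subgroupOf (P ⊔ Q)).map ψ ⊔ (Q.subgroupOf (P ⊔ Q)).map ψ := by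
  rw [← Subgroup.map_sup, ← Subgroup.subgroupOf_sup le_sup_left le_sup_right, Subgroup.subgroupOf_self,
    MonoidHom.range_eq_map]

theorem map_subgroupOf_eq_range {φ : P →* Ω} (ψ : R →* Ω) (h : P ≤ R) (e : ∀ x : P, ψ (Subgroup.inclusion h x) = φ x) :
    (P.subgroupOf R).map ψ = φ.range := by
  ext y
  constructor
  · rintro ⟨x, hx, rfl⟩; exact ⟨⟨x, hx⟩, (e _).symm⟩
  · rintro ⟨x, rfl⟩; exact ⟨Subgroup.inclusion h x, x.2, e x⟩

/-- The general construction behind normalizer and centralizer systems: `C ψ` is a condition on maps defined on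
overgroups of `Q` that forces `ψ(Q) = Q`. -/
theorem exists_localSystem (F : FusionSystem S) (hQ : Q ≤ S) (T : Subgroup Ω) (hT : T ≤ S)
    (C : ∀ P : Subgroup Ω, (↥(P ⊔ Q) →* Ω) → Prop)
    (hC : ∀ P ψ, C P ψ → (Q.subgroupOf (P ⊔ Q)).map ψ = Q)
    (hcj : ∀ P, ∀ g ∈ T, C P (conjHom (P ⊔ Q) g))
    (hcomp : ∀ P R ψ χ, C P ψ → C R χ → ∀ h : ∀ x, ψ x ∈ R ⊔ Q, C P (χ.comp (ψ.codRestrict _ h)))
    (hinv : ∀ P R (ψ : ↥(P ⊔ Q) →* Ω) (χ : ↥(R ⊔ Q) →* Ω), C P ψ →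
      (∀ x (y : ↥(R ⊔ Q)), ψ x = (y : Ω) → χ y = x) → C R χ) :
    ∃ E : FusionSystem T, ∀ P, E.Hom P = {φ | φ ∈ F.Hom P ∧ P ≤ T ∧ (∀ x : P, φ x ∈ T) ∧
      ∃ ψ ∈ F.Hom (P ⊔ Q), (∀ x : P, ψ (Subgroup.inclusion le_sup_left x) = φ x) ∧ C P ψ} := by
  refine ⟨⟨fun P => {φ | φ ∈ F.Hom P ∧ P ≤ T ∧ (∀ x : P, φ x ∈ T) ∧
      ∃ ψ ∈ F.Hom (P ⊔ Q), (∀ x : P, ψ (Subgroup.inclusion le_sup_left x) = φ x) ∧ C P ψ},
    fun h => ⟨h.2.1, h.2.2.1⟩, fun h => F.injective_of_mem h.1, ?_, ?_, ?_⟩, fun _ => rfl⟩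
  · intro P g hP hg
    exact ⟨F.conj_mem (hP.trans hT) (hT hg), hP, fun x => T.mul_mem (T.mul_mem hg (hP x.2)) (T.inv_mem hg),
      _, F.conj_mem (sup_le (hP.trans hT) hQ) (hT hg), fun _ => rfl, hcj P g hg⟩
  · rintro P R φ φ' ⟨h1, h2, -, ψ, h4, h5, h6⟩ ⟨h1', -, h3', χ, h4', h5', h6'⟩ h
    have hm : ∀ x, ψ x ∈ R ⊔ Q := fun x => by
      have : ψ.range ≤ R ⊔ Q := by
        rw [hom_range_sup, hC P ψ h6, map_subgroupOf_eq_range ψ le_sup_left h5]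
        exact sup_le_sup_right (by rintro _ ⟨x, rfl⟩; exact h x) Q
      exact this ⟨x, rfl⟩
    refine ⟨F.comp_mem h1 h1' h, h2, fun x => h3' _, _, F.comp_mem h4 h4' hm, fun x => ?_, hcomp P R ψ χ h6 h6' hm⟩
    rw [MonoidHom.comp_apply, MonoidHom.comp_apply, ← h5']
    congr 1
    exact Subtype.ext (h5 x)
  · rintro P φ ⟨h1, h2, h3, ψ, h4, h5, h6⟩
    obtain ⟨φ', hφ', e⟩ := F.inv_mem h1
    obtain ⟨ψ', hψ', e'⟩ := F.inv_mem h4
    have hr : φ.range ⊔ Q ≤ ψ.range := by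
      rw [hom_range_sup, hC P ψ h6, map_subgroupOf_eq_range ψ le_sup_left h5]
    refine ⟨φ', ⟨hφ', by rintro _ ⟨x, rfl⟩; exact h3 x, ?_, _, hom_restrict hψ' hr, ?_, hinv P _ ψ _ h6 ?_⟩, e⟩
    · rintro ⟨_, x, rfl⟩; rw [e]; exact h2 x.2
    · rintro ⟨_, x, rfl⟩
      rw [e, MonoidHom.comp_apply]
      have := e' (Subgroup.inclusion le_sup_left x)
      rw [show (x : Ω) = (Subgroup.inclusion (le_sup_left : P ≤ P ⊔ Q) x : Ω) from rfl, ← this]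
      congr 1
      exact Subtype.ext (h5 x).symm
    · intro x y hxy
      rw [MonoidHom.comp_apply, ← e' x]
      congr 1
      exact Subtype.ext hxy.symm

end Cfsg.Lib.Fus
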