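/-
Supersolubility of the saturated fusion systems on metacyclic `p`-groups.
-/
import Cfsg.Agent.Lib.Fus.RzF
import Cfsg.Agent.Lib.Fus.AbSSol
import Cfsg.Agent.Lib.Fus3.MetaAut

set_option autoImplicit false
set_option linter.unusedSectionVars false

namespace Cfsg.Lib.Fus

open Cfsg Equiv Subgroup
open Cfsg.FusionSystem hiding inv_mem
open scoped commutatorElement

section group

variable {X : Type*} [Group X] {p : ℕ} [hp : Fact p.Prime]

theorem scalar_step {Q : Type*} [Group Q] (π : X →* Q) {M : Subgroup X} (hM : ∀ α : MulAut X, ∀ x ∈ M, α x ∈ M)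
    (hk : ∀ α : MulAut X, ∀ x, π x = 1 → π (α x) = 1) {u : X} (hu : u ∈ M) (h1 : ∀ x ∈ M, π x ∈ zpowers (π u))
    (h2 : ∀ x, π x ^ p = 1) {δ : MulAut X} (hδ : (∃ α β : MulAut X, δ = ⁅α, β⁆) ∨ ∃ α, δ = α ^ (p - 1)) :
    ∀ x ∈ M, π (δ x) = π x := by
  have k : ∀ α : MulAut X, ∃ i : ℤ, ∀ x ∈ M, π (α x) = π x ^ i := fun α => by
    obtain ⟨i, hi⟩ := mem_zpowers_iff.1 (h1 _ (hM α u hu))
    refine ⟨i, fun x hx => ?_⟩
    obtain ⟨j, hj⟩ := mem_zpowers_iff.1 (h1 x hx)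
    have := hk α ((u ^ j)⁻¹ * x) (by rw [map_mul, map_inv, map_zpow, hj, inv_mul_cancel])
    simp only [map_mul, map_inv, map_zpow, inv_mul_eq_one] at this
    rw [← this, ← hi, ← hj, ← zpow_mul, ← zpow_mul, mul_comm]
  rcases hδ with ⟨α, β, rfl⟩ | ⟨α, rfl⟩ <;> intro x hx <;> obtain ⟨i, hi⟩ := k α
  · obtain ⟨j, hj⟩ := k β
    obtain ⟨y, hy, rfl⟩ : ∃ y ∈ M, x = β (α y) := ⟨α⁻¹ (β⁻¹ x), hM _ _ (hM _ _ hx), by simp⟩
    have : ⁅α, β⁆ (β (α y)) = α (β y) := by simp [commutatorElement_def]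
    rw [this, hi _ (hM _ _ hy), hj _ (hM _ _ hy), hi _ hy, hj _ hy, ← zpow_mul, ← zpow_mul, mul_comm]
  · have e : ∀ n : ℕ, π ((α ^ n) x) = π x ^ i ^ n := fun n => by
      induction n with
      | zero => simp
      | succ n ih => rw [pow_succ', MulAut.mul_apply, hi _ (hM _ _ hx), ih, ← zpow_mul, pow_succ]
    have e2 : (orderOf (π x) : ℤ) ∣ p := by exact_mod_cast orderOf_dvd_of_pow_eq_one (h2 x)
    by_cases hpi : (p : ℤ) ∣ i
    · have e3 : ∀ y ∈ M, π y = 1 := fun y hy => by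
        obtain ⟨c, rfl⟩ := hpi
        rw [← α.apply_symm_apply y, hi _ (hM α.symm _ hy), zpow_mul, zpow_natCast, h2, one_zpow]
      rw [e3 _ hx, e3 _ (hM _ _ hx)]
    · rw [e, (zpow_eq_zpow_iff_modEq (n := 1)).2 ((Int.ModEq.pow_card_sub_one_eq_one hp.out
        ((Nat.prime_iff_prime_int.1 hp.out).coprime_iff_not_dvd.2 hpi).symm).of_dvd e2), zpow_one]

variable [Finite X]

theorem small_of_flag (hX : IsPGroup p X) (M : Subgroup X) [M.Normal] (hM : ∀ α : MulAut X, ∀ x ∈ M, α x ∈ M)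
    {u v : X} (hu : u ∈ M) (h1 : ∀ x ∈ M, ∃ i : ℤ, (u ^ i)⁻¹ * x ∈ frattini X) (h2 : ∀ x, ∃ i : ℤ, (v ^ i)⁻¹ * x ∈ M)
    (h3 : ∀ x, x ^ p ∈ M) (H : Subgroup (MulAut X)) (hH : (Nat.card H).Coprime p) :
    IsMulCommutative H ∧ ∀ h ∈ H, h ^ (p - 1) = 1 := by
  have key : ∀ δ ∈ H, ((∃ α β : MulAut X, δ = ⁅α, β⁆) ∨ ∃ α, δ = α ^ (p - 1)) → δ = 1 := fun δ hδ h => by
    let π := QuotientGroup.mk' (frattini X)
    have e1 := scalar_step π hM (fun α x hx => (QuotientGroup.eq_one_iff _).2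
        (characteristic_iff_le_comap.1 inferInstance α ((QuotientGroup.eq_one_iff _).1 hx))) hu
      (fun x hx => let ⟨i, hi⟩ := h1 x hx; ⟨i, (map_zpow π u i).symm.trans (QuotientGroup.eq.2 hi)⟩)
      (fun x => Core.pow_eq_one_quotient_frattini hX _) h
    have e2 := scalar_step (QuotientGroup.mk' M) (M := ⊤) (fun _ _ _ => trivial) (fun α x hx =>
        (QuotientGroup.eq_one_iff _).2 (hM α _ ((QuotientGroup.eq_one_iff _).1 hx))) (mem_top v)
      (fun x _ => let ⟨i, hi⟩ := h2 x; ⟨i, (map_zpow _ v i).symm.trans (QuotientGroup.eq.2 hi)⟩)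
      (fun x => (map_pow _ x p).symm.trans ((QuotientGroup.eq_one_iff _).2 (h3 x))) h
    have e3 : ∀ x, x⁻¹ * δ x ∈ M := fun x => QuotientGroup.eq.1 (e2 x trivial).symm
    have e4 : ∀ (n : ℕ) x, π ((δ ^ n) x) = π x * π (x⁻¹ * δ x) ^ n := fun n x => by
      induction n with
      | zero => simp
      | succ n ih =>
        obtain ⟨y, hy⟩ : ∃ y, y = x⁻¹ * (δ ^ n) x := ⟨_, rfl⟩
        have e5 : y ∈ M := by
          rw [hy]; clear ih hy
          induction n with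
          | zero => simp
          | succ n ih => simpa [pow_succ', mul_assoc] using M.mul_mem ih (e3 ((δ ^ n) x))
        have e6 : (δ ^ n) x = x * y := by rw [hy, mul_inv_cancel_left]
        rw [e6, map_mul, mul_right_inj] at ih
        rw [pow_succ', MulAut.mul_apply, e6, map_mul, map_mul, e1 _ e5, ih, pow_succ', ← mul_assoc, ← map_mul,
          mul_inv_cancel_left]
    have ho : (orderOf δ).Coprime p := hH.coprime_dvd_left (orderOf_dvd_natCard H hδ)
    obtain ⟨k, hk⟩ := IsPGroup.iff_card.mp (hX.to_subgroup (frattini X))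
    have : δ ^ p = 1 := Coprime.aut_eq_one_of_frattini
      (by rw [hk]; exact (ho.coprime_dvd_left (orderOf_pow_dvd p)).pow_right k)
      fun x => QuotientGroup.eq.mp ((e4 p x).trans (by rw [Core.pow_eq_one_quotient_frattini hX, mul_one]; rfl)).symm
    exact orderOf_eq_one_iff.mp (ho.eq_one_of_dvd (orderOf_dvd_of_pow_eq_one this))
  exact ⟨⟨⟨fun a b => Subtype.ext (commutatorElement_eq_one_iff_mul_comm.mp (key _
    (H.mul_mem (H.mul_mem (H.mul_mem a.2 b.2) (H.inv_mem a.2)) (H.inv_mem b.2)) (Or.inl ⟨_, _, rfl⟩)))⟩⟩,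
    fun a ha => key _ (H.pow_mem ha _) (Or.inr ⟨_, rfl⟩)⟩

theorem small_of_two_normal (hX : IsPGroup p X) (hp2 : p ≠ 2) {a b : X} (ha : (zpowers a).Normal)
    (hb : (zpowers b).Normal) (ho : orderOf b = orderOf a) (hs : zpowers a ⊔ zpowers b = ⊤)
    (hi : zpowers b ⊓ zpowers a ≠ ⊥) (H : Subgroup (MulAut X)) (hH : (Nat.card H).Coprime p) :
    IsMulCommutative H ∧ ∀ h ∈ H, h ^ (p - 1) = 1 := by
  obtain ⟨z, hz⟩ := exists_zpowers_eq_inf (zpowers b) a
  have hza : z ∈ zpowers a := (hz ▸ mem_zpowers z).2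
  have hzb : z ∈ zpowers b := (hz ▸ mem_zpowers z).1
  obtain ⟨n, hn⟩ := IsPGroup.iff_orderOf.1 hX a
  obtain ⟨t, ht, hzt⟩ := (Nat.dvd_prime_pow hp.out).1 (hn ▸ orderOf_dvd_of_mem_zpowers hza)
  obtain ⟨m, rfl⟩ := Nat.exists_eq_add_of_le' ht
  have k1 : ∀ {a : X}, orderOf a = p ^ (m + t) → z ∈ zpowers a → zpowers (a ^ p ^ m) = zpowers z := fun {a} hn hza => by
    have e : orderOf (a ^ p ^ m) = p ^ t := by
      rw [orderOf_pow_of_dvd (pow_ne_zero _ hp.out.ne_zero) (hn ▸ pow_dvd_pow p (Nat.le_add_right m t)), hn, pow_add,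
        Nat.mul_div_cancel_left _ (pow_pos hp.out.pos _)]
    exact le_antisymm (zpowers_le.2 (mem_zpowers_of_pow_eq_one hza (pow_mem (mem_zpowers a) _)
      (by rw [hzt, ← e, pow_orderOf_eq_one]))) (zpowers_le.2 (mem_zpowers_of_pow_eq_one (pow_mem (mem_zpowers a) _)
        hza (by rw [e, ← hzt, pow_orderOf_eq_one])))
  have hZ : zpowers z ≤ center X := zpowers_le.2 (Subgroup.mem_center_iff.2 fun x => by
    obtain ⟨i, j, rfl⟩ := exists_eq_mul_of_sup ha hs x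
    exact ((comm_of_mem_zpowers ⟨i, rfl⟩ hza).mul_left (comm_of_mem_zpowers ⟨j, rfl⟩ hzb)).eq)
  have ka := k1 hn hza
  have kb := k1 (ho.trans hn) hzb
  let π := QuotientGroup.mk' (center X)
  have k2 : Commute (π a) (π b) := by
    rw [← commutatorElement_eq_one_iff_commute, ← map_commutatorElement]
    refine (QuotientGroup.eq_one_iff _).2 (hZ (hz ▸ ⟨?_, ?_⟩))
    · exact (zpowers b).mul_mem (hb.conj_mem _ (mem_zpowers b) a) (inv_mem (mem_zpowers b))
    · simpa [commutatorElement_def, mul_assoc] using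
        mul_mem (mem_zpowers a) (ha.conj_mem _ (inv_mem (mem_zpowers a)) b)
  have k3 : ∀ x y : X, ⁅x, y⁆ ∈ center X := fun x y => by
    obtain ⟨i, j, rfl⟩ := exists_eq_mul_of_sup ha hs x
    obtain ⟨k, l, rfl⟩ := exists_eq_mul_of_sup ha hs y
    refine (QuotientGroup.eq_one_iff _).1 ((map_commutatorElement π _ _).trans ?_)
    simp only [commutatorElement_eq_one_iff_commute, map_mul, map_zpow]
    exact ((Commute.zpow_zpow_self _ _ _).mul_right (k2.zpow_zpow _ _)).mul_left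
      ((k2.symm.zpow_zpow _ _).mul_right (Commute.zpow_zpow_self _ _ _))
  have k4 : ∀ x : X, x ^ p ^ m ∈ center X := fun x => by
    obtain ⟨i, j, rfl⟩ := exists_eq_mul_of_sup ha hs x
    refine (QuotientGroup.eq_one_iff _).1 ((map_pow π _ _).trans ?_)
    have e1 : π a ^ p ^ m = 1 := (map_pow π _ _).symm.trans ((QuotientGroup.eq_one_iff _).2 (hZ (ka ▸ mem_zpowers _)))
    have e2 : π b ^ p ^ m = 1 := (map_pow π _ _).symm.trans ((QuotientGroup.eq_one_iff _).2 (hZ (kb ▸ mem_zpowers _)))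
    rw [map_mul, map_zpow, map_zpow, (k2.zpow_zpow _ _).mul_pow, ← zpow_natCast, ← zpow_natCast, zpow_comm,
      zpow_comm (π b), zpow_natCast, zpow_natCast, e1, e2, one_zpow, one_zpow, mul_one]
  let φ : X →* X := MonoidHom.mk' (fun x => x ^ p ^ m) fun x y =>
    PGrp.mul_pow_eq_of_odd (PGrp.commute_of_mem_center (k3 _ _) _) (PGrp.commute_of_mem_center (k3 _ _) _)
      (hp.out.odd_of_ne_two hp2).pow (by
        rw [← PGrp.commutator_pow_left (PGrp.commute_of_mem_center (k3 _ _) _), commutatorElement_eq_one_iff_commute]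
        exact PGrp.commute_of_mem_center (k4 y) x)
  obtain ⟨k, hk⟩ : ∃ k : ℤ, φ a ^ k = φ b := mem_zpowers_iff.1 ((kb.trans ka.symm).le (mem_zpowers _))
  have k5 : ∀ i j : ℤ, φ (a ^ i * b ^ j) = φ a ^ (i + k * j) := fun i j => by
    rw [map_mul, map_zpow, map_zpow, ← hk, ← zpow_mul, zpow_add]
  have k6 : ∀ x, φ x ^ p ∈ zpowers (φ a ^ p) := fun x => by
    obtain ⟨i, j, rfl⟩ := exists_eq_mul_of_sup ha hs x
    rw [k5, ← zpow_natCast (φ a ^ _), zpow_comm, zpow_natCast]; exact zpow_mem (mem_zpowers _) _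
  have : (zpowers (φ a ^ p)).Normal := ⟨fun x hx g => by
    rwa [Subgroup.mem_center_iff.1 (zpowers_le.2 (pow_mem (k4 a) p) hx) g, mul_inv_cancel_right]⟩
  refine small_of_flag hX ((zpowers (φ a ^ p)).comap φ) (fun α x hx => ?_) (u := (a ^ k)⁻¹ * b) (v := a) ?_
    (fun x hx => ?_) (fun x => ?_) (fun x => mem_comap.2 (map_pow φ x p ▸ k6 x)) H hH
  · obtain ⟨i, hi⟩ := mem_zpowers_iff.1 (mem_comap.1 hx)
    have e : ∀ x, φ (α x) = α (φ x) := fun x => (map_pow α _ _).symm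
    rw [mem_comap, e, ← hi, map_zpow, map_pow, ← e]
    exact zpow_mem (k6 _) _
  · rw [mem_comap, map_mul, map_inv, map_zpow, hk, inv_mul_cancel]; exact one_mem _
  · obtain ⟨i, j, rfl⟩ := exists_eq_mul_of_sup ha hs x
    rw [mem_comap, k5] at hx
    obtain ⟨N, hN⟩ := hX (φ a)
    obtain ⟨c, hc⟩ : (p : ℤ) ∣ i + k * j := by_contra fun h => hi (by
      have : a ^ p ^ m = 1 := eq_one_of_mem_zpowers_pow' hN (zpow_coprime_mem hN h hx)
      rw [← hz, ← ka, this, zpowers_one_eq_bot])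
    refine ⟨j, QuotientGroup.eq.1 ?_⟩
    have := hX.isNilpotent
    have hc' : ∀ v w : X ⧸ frattini X, Commute v w := (Core.isMulCommutative_quotient_frattini (G := X)).is_comm.comm
    change QuotientGroup.mk' _ _ = QuotientGroup.mk' _ _
    simp only [map_mul, map_zpow, map_inv]
    rw [(hc' _ _).mul_zpow, mul_left_inj, eq_sub_of_add_eq hc, zpow_sub, zpow_mul _ (p : ℤ), zpow_natCast,
      Core.pow_eq_one_quotient_frattini hX, one_zpow, one_mul, inv_zpow, zpow_mul]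
  · obtain ⟨i, j, rfl⟩ := exists_eq_mul_of_sup ha hs x
    exact ⟨i + k * j, by rw [mem_comap, map_mul, map_inv, map_zpow, k5, inv_mul_cancel]; exact one_mem _⟩

theorem small_of_metacyclic (hX : IsPGroup p X) (hp2 : p ≠ 2) (hm : IsMetacyclic X)
    (h : ¬ ∃ n : ℕ, 0 < n ∧ Nonempty (X ≃* Multiplicative (ZMod (p ^ n)) × Multiplicative (ZMod (p ^ n))))
    (H : Subgroup (MulAut X)) (hH : (Nat.card H).Coprime p) : IsMulCommutative H ∧ ∀ h ∈ H, h ^ (p - 1) = 1 := by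
  obtain ⟨a, y, ha, hs⟩ := PGrp.isMetacyclic_iff.mp hm
  by_cases h1 : ∀ α : MulAut X, α a ∈ zpowers a ⊔ frattini X
  · refine small_of_flag hX (zpowers a ⊔ frattini X) (fun α => ?_) (mem_sup_left (mem_zpowers a)) (v := y)
      (fun x hx => ?_) (fun x => ?_) (fun x => mem_sup_right (Core.pow_mem_frattini_of_isPGroup hX x)) H hH
    · exact (sup_le (zpowers_le.2 (h1 α)) fun x hx => mem_sup_right
        (mem_comap.1 (characteristic_iff_le_comap.1 inferInstance α hx)) : _ ≤ (zpowers a ⊔ frattini X).comap α.toMonoidHom)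
    · obtain ⟨_, ⟨i, rfl⟩, z, hz, rfl⟩ := mem_sup_of_normal_right.1 hx
      exact ⟨i, by rwa [inv_mul_cancel_left]⟩
    · obtain ⟨i, j, rfl⟩ := exists_eq_mul_of_sup ha hs x
      exact ⟨j, mem_sup_left (by simpa [mul_assoc] using ha.conj_mem _ ⟨i, rfl⟩ (y ^ j)⁻¹)⟩
  obtain ⟨α, h1⟩ := not_forall.1 h1
  have hb : (zpowers (α a)).Normal := by
    rw [← MulEquiv.coe_toMonoidHom, ← MonoidHom.map_zpowers]; exact ha.map _ α.surjective
  have hs' : zpowers a ⊔ zpowers (α a) = ⊤ := by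
    obtain ⟨i, j, e⟩ := exists_eq_mul_of_sup ha hs (α a)
    obtain ⟨N, hN⟩ := hX y
    refine eq_top_iff.2 (hs.ge.trans (sup_le le_sup_left (zpowers_le.2 (zpow_coprime_mem hN (u := j) ?_ ?_))))
    · rintro ⟨c, rfl⟩
      exact h1 (e ▸ mul_mem_sup ⟨i, rfl⟩ (by
        rw [zpow_mul, zpow_natCast]; exact zpow_mem (Core.pow_mem_frattini_of_isPGroup hX y) c))
    · rw [← inv_mul_eq_iff_eq_mul.2 e]; exact mul_mem_sup (inv_mem ⟨i, rfl⟩) (mem_zpowers _)
  refine small_of_two_normal hX hp2 ha hb (α.orderOf_eq a) hs' (fun hi => h ?_) H hH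
  obtain ⟨n, hn⟩ := IsPGroup.iff_orderOf.1 hX a
  rw [inf_comm] at hi
  refine ⟨n, Nat.pos_of_ne_zero fun e => h1 ?_, nonempty_equiv_homocyclic hn ((α.orderOf_eq a).trans hn)
    (commute_of_normal_of_disjoint _ _ ha hb (disjoint_iff.2 hi) _ _ (mem_zpowers _) (mem_zpowers _)) hi hs'⟩
  rw [e, pow_zero, orderOf_eq_one_iff] at hn
  rw [hn, map_one]; exact one_mem _

/-- An automorphism of order `3` of the quaternion group. -/
def q8three : MulAut (QuaternionGroup 2) where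
  toFun | .a i => if i = 0 ∨ i = 2 then .a i else .xa (i - 1) | .xa i => if i = 0 ∨ i = 2 then .xa (i + 1) else .a i
  invFun | .a i => if i = 0 ∨ i = 2 then .a i else .xa i | .xa i => if i = 0 ∨ i = 2 then .a (i + 1) else .xa (i - 1)
  left_inv := by decide
  right_inv := by decide
  map_mul' := by decide

theorem orderOf_q8three : orderOf q8three = 3 :=
  orderOf_eq_prime (MulEquiv.ext (by decide)) fun e => absurd (congrArg (· (.a 1)) e) (by decide)

end group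

variable {Ω : Type*} [Group Ω] {S : Subgroup Ω} [Finite S] {a b : Ω} {m e : ℕ} {k : ℤ}

theorem MR.exists_not_normal (h : MR S a b m k e) (ht : MType m k e) : ∃ F : FusionSystem S, Sat 2 F ∧ ¬ F.IsNormal S := by
  have : Fact (Nat.Prime 2) := ⟨Nat.prime_two⟩
  have key : ∀ (G : Type) [Group G] [Finite G], RD G m k e True True → ∃ F : FusionSystem S, Sat 2 F ∧ ¬ F.IsNormal S := by
    rintro G _ _ ⟨T, a', b', h', h1, -⟩
    obtain ⟨ι, k1, k2, k3, k4⟩ := h.exists_hom h'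
    obtain ⟨F, hF⟩ := exists_realized k1
    have hS := sat_of_realized hF ⟨T, k2.symm⟩
    refine ⟨F, hS, fun hn => ?_⟩
    obtain ⟨R, hR, -⟩ := (h.mx ht).ess_of_act hS h.not_mem ((act_iff_of_realized hF h.ha h.hb).2 (by
      rw [k3, k4]; exact h1.2 trivial))
    exact hS.not_essential_of_normal_top hn hR
  rcases ht with ⟨rfl, rfl⟩ | ⟨hm, rfl, rfl⟩ | ⟨hm, rfl, rfl⟩
  · obtain ⟨K, _, _, c, hK⟩ := exists_sb (m + 1)
    exact key _ hK.rd_PSL
  · obtain ⟨K, _, _, c, hK⟩ := exists_sb m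
    exact key _ (hK.rd_SL hm)
  · obtain ⟨K, _, _, h3, u, hu, hK⟩ := exists_field_three m hm
    exact key _ (rd_PSL3 hm h3 hu hK)

end Cfsg.Lib.Fus
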