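/-
Residual limits and reductions to normal subsystems.
-/
import Cfsg.Agent.Lib.Fus.Bal
import Cfsg.Prelude.Def_FusionReduction

set_option autoImplicit false
set_option linter.unusedSectionVars false

namespace Cfsg.Lib.Fus

open Cfsg Cfsg.FusionSystem Equiv

variable {Ω : Type*} [Group Ω] {S T U V W : Subgroup Ω} {F : FusionSystem S} {E : FusionSystem T}
  {L : FusionSystem U} {G : FusionSystem V} {D : FusionSystem W} {P Q R : Subgroup Ω} {σ τ α : Perm Ω}
  {K K' : Subgroup (Perm Ω)} {p : ℕ} [Finite S] [Fact p.Prime]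

theorem WN.sub_of_le_of_opPrime (h : WN p L F) (hL : L.IsPPrimeResidual p L) (hG : WN p G F) (hU : U ≤ V) :
    L.IsSubsystemOf G := by
  have := h.finite
  obtain ⟨M, -, m2, m3, -⟩ := exists_meet h hG (inf_eq_left.mpr hU).symm
  exact isSubsystemOf_trans (m2.sub_of_isPPrimeResidual hL) m3.sub

theorem Nrm.sc_hyp (h : WN p E F) : F.StronglyClosed (E.hyperfocalSubgroup p) :=
  have := h.finite
  h.sc_of_invariant h.satE.sc_hyp fun _ hα _ hx => ((h.tr hα).hyp (p := p)).ge (apply_mem_img _ hx)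

theorem Nrm.residualLimit (hG : Nrm p G F) (h : L.IsResidualLimitOf G p) : Nrm p L F ∧ L.IsSubsystemOf G ∧
    L.hyperfocalSubgroup p = U ∧ L.IsPPrimeResidual p L ∧ ∀ {W : Subgroup Ω} (D : FusionSystem W), WN p D F →
      D.hyperfocalSubgroup p = W → D.IsPPrimeResidual p D → W ≤ V → W ≤ U := by
  induction h generalizing ‹Fact _› ‹Finite _› with
  | stable G q h1 h2 => exact ⟨hG, isSubsystemOf_refl G, h1, h2, fun _ _ _ _ k => k⟩
  | step G q D D' h1 h2 _ ih =>
    have := hG.finite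
    have k1 := (isPResidual_iff hG.satE.pg).mp h1
    have k2 := hG.nrm_of_pIdx k1 (Nrm.sc_hyp hG.toWN)
    obtain ⟨a1, a2, a3, a4, a5⟩ := ih (k2.nrm_of_isPPrimeResidual h2)
    refine ⟨a1, isSubsystemOf_trans a2 (isSubsystemOf_trans h2.2.1.1 k1.sub), a3, a4, fun M m1 m2 m3 m4 =>
      a5 M m1 m2 m3 (m2.ge.trans (hyp_mono (m1.sub_of_le_of_opPrime m3 hG.toWN m4)))⟩

theorem Nrm.residualLimit_eq {G' : FusionSystem W} {L' : FusionSystem T} (hG : Nrm p G F) (hG' : Nrm p G' F)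
    (h : L.IsResidualLimitOf G p) (h' : L'.IsResidualLimitOf G' p) (h1 : U ≤ W) (h2 : T ≤ V) (P : Subgroup Ω) :
    L.Hom P = L'.Hom P := by
  obtain ⟨a1, -, a3, a4, a5⟩ := hG.residualLimit h
  obtain ⟨b1, -, b3, b4, b5⟩ := hG'.residualLimit h'
  exact Set.Subset.antisymm (a1.sub_of_le_of_opPrime a4 b1.toWN (b5 L a1.toWN a3 a4 h1) P)
    (b1.sub_of_le_of_opPrime b4 a1.toWN (a5 L' b1.toWN b3 b4 h2) P)

theorem WN.sub_of_autP_le {F₀ F₁ : FusionSystem S} (h₀ : WN p F₀ F) (h₁ : WN p F₁ F)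
    (h : ∀ σ, Iso F₁ S S σ → Mor F₀ S σ) : F₁.IsSubsystemOf F₀ := by
  obtain ⟨O, hO⟩ := h₀.satF.exists_isPPrimeResidual
  have k := (h₀.satF.nrm_of_isPPrimeResidual hO).toInv.of_sub h₁.satE (h₁.sub_of_isPPrimeResidual hO) h₁.sub
  refine isSubsystemOf_iff.mpr fun P σ k1 => ?_
  obtain ⟨α, σ₀, a1, a2, e⟩ := k.frat k1.le k1
  exact ((a2.of_sub (h₀.sub_of_isPPrimeResidual hO)).comp (h α a1) fun _ => a2.mem).congr e

theorem WN.hyp_le_normK (h : WN p E F) (h1 : autP E T ≤ K) (h2 : autP F T ≤ Subgroup.normalizer (K : Set (Perm Ω)))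
    (h3 : PMod p K (autP F T)) : F.hyperfocalSubgroup p ≤ normK S K := by
  have hf := (fixP_le_autP E T).trans h1
  have hTn := sc_le_normalizer h.sc
  refine hyp_le_iff'.mpr fun P σ k1 k2 => ?_
  obtain ⟨β, α, a1, a2, e⟩ := h.frat_plus h.satF k1.mor
  have a3 := a2.iso_of_wc (wc_of_sc h.sc) le_sup_right
  have hS : ∀ x ∈ S, cj x ∈ Subgroup.normalizer (K : Set (Perm Ω)) := fun x hx =>
    h2 (iso_cj F h.le hx (hTn hx)).mem_autP
  have k : ∀ n : ℕ, ∀ x ∈ P, (α ^ n * cj x * (α ^ n)⁻¹)⁻¹ * cj ((σ ^ n) x) ∈ K := fun n => by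
    induction n with
    | zero => exact fun x _ => by simp
    | succ n ih =>
      intro x hx
      have b1 : (α * cj x * α⁻¹)⁻¹ * cj (σ x) ∈ K := by
        have b := a1.triv h.toInv x hx
        refine mem_of_eqOn hf (conj_mem_of_mem_normalizer (h2 a3.mem_autP)
          (h1 (iso_cj E le_rfl b (Subgroup.le_normalizer b)).mem_autP)) fun y hy => ?_
        rw [Perm.mul_apply, Perm.inv_eq_iff_eq, e x hx, cj_apply, ← a2.conj_cj le_sup_right a3
          (a1.mem h.toInv le_sup_right le_sup_left x hx) y hy]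
        simp [mul_assoc]
      have := mul_mem (conj_mem_of_mem_normalizer (pow_mem (h2 a3.mem_autP) n) b1) (ih _ (k1.mem hx))
      rw [pow_succ σ, Perm.mul_apply, pow_succ α]
      convert this using 1; group
  obtain ⟨n, hn⟩ := h3 α a3.mem_autP
  refine (k2.mem_of_pow (trivMod_bot P ▸ trivMod_mono _ bot_le) (k := n) ⟨(k1.pow _).mem_autAll, fun x hx =>
    ⟨mul_mem (S.inv_mem (k1.le hx)) ((k1.pow _).mor.mem hx), ?_⟩⟩ : σ ∈ trivMod P (normK S K)).2
  have := mul_mem (mul_mem (inv_conj_mem_of_mem_normalizer (hS x (k1.le hx)) hn) (K.inv_mem hn)) (k (p ^ n) x hx)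
  show cj _ ∈ K
  rw [map_mul, map_inv]
  convert this using 1; group

/-- One step of the descent along a `p`-solvable series of `Aut_F(T)/Aut_E(T)`. -/
theorem Nrm.descend (hG : Nrm p G F) (h : WN p E F) (hE : E.IsSubsystemOf G) (hC : centralizerIn S T ≤ V)
    (h1 : autP E T ≤ K) (h2 : autP F T ≤ Subgroup.normalizer (K : Set (Perm Ω)))
    (h3 : PMod p K (autP G T) ∨ ¬ p ∣ K.relIndex (autP G T)) :
    ∃ (W : Subgroup Ω) (D : FusionSystem W), Nrm p D F ∧ E.IsSubsystemOf D ∧ centralizerIn S T ≤ W ∧ autP D T ≤ K ∧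
      G.hyperfocalSubgroup p ≤ W := by
  have := hG.finite
  have := h.finite
  have hE' := h.of_sub hG.satE hE hG.sub
  have hf := (fixP_le_autP E T).trans h1
  have h4 := autP_le_of_sub hG.sub hE'.le
  have hα : ∀ {α}, Iso F V V α → α ∈ Subgroup.normalizer (K : Set (Perm Ω)) := fun k =>
    h2 (k.mor.iso_of_wc (wc_of_sc h.sc) hE'.le).mem_autP
  rcases h3 with h3 | h3
  · have k1 := hE'.hyp_le_normK h1 (h4.trans h2) h3
    obtain ⟨D, d1⟩ := hG.satE.exists_pIdx (normK_le V K) k1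
    have k2 : ∀ α, Iso F V V α → ∀ x ∈ normK V K, α x ∈ normK V K := fun α k x hx => ⟨k.mem hx.1,
      mem_of_eqOn hf (conj_mem_of_mem_normalizer (hα k) hx.2) fun y hy => (k.mor.conj_cj hE'.le
        (k.mor.iso_of_wc (wc_of_sc h.sc) hE'.le) hx.1 y hy).symm⟩
    have k3 : T ≤ normK V K := fun t ht => ⟨hE'.le ht, h1 (iso_cj E le_rfl ht (Subgroup.le_normalizer ht)).mem_autP⟩
    refine ⟨_, D, hG.nrm_of_pIdx d1 (hG.sc_of_invariant (hG.satE.sc_of_hyp_le (normK_le V K)
      (le_normalizer_of_conj_mem fun g hg => k2 _ (iso_cj F hG.le (hG.le hg) (Subgroup.le_normalizer hg))) k1) k2),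
      d1.sub_of h.satE hE k3, fun c hc => ⟨hC hc, hf (cj_mem_fixP.mpr hc.2)⟩, ?_, k1⟩
    refine le_of_pp (fixP_le_autP D T) (autP_le_autAll D T) (d1.sat.not_dvd (isFullyNormalized_of_normal D k3
      (((normK_le V K).trans hG.le).trans (sc_le_normalizer h.sc)))) (inf_le_left.trans ?_)
      fun σ k k' => k'.mem_of_pMod hf h3 (autP_le_of_sub d1.sub k3 k)
    rw [autS_normK hf]; exact inf_le_right
  · obtain ⟨D, d1, d2, d3, d4⟩ := hE'.exists_theta h1 (h4.trans h2) h3
    have key : ∀ α, Iso F V V α → ∀ {P σ}, Mor D P σ → Mor D (img α P) (α * σ * α⁻¹) := fun α k P σ k1 => by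
      obtain ⟨D', t⟩ := exists_tr (T' := V) D k.homOn k.img_eq.symm
      have a := t.wn (hG.tr k) d1.toWN
      refine (t.mor k1).of_sub (d1.sub_of_autP_le a fun τ k2 => (d4 τ (k2.of_sub a.sub) ?_).mor)
      have := t.symm.iso k2
      rw [k.symm.img_eq] at this
      simpa [mul_assoc] using conj_mem_of_mem_normalizer (hα k) (d3 V _ hE'.le this)
    refine ⟨V, D, (d1.wn_of_tr hG.toWN fun α k => tr_self k.mem_autAll (key α k) fun k1 => by
      simpa using key _ k.symm k1).nrm_of_centric ((centralizerIn_anti S hE'.le).trans hC), d2, hC,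
      fun σ k => d3 T σ le_rfl ((mem_autP hE'.le).mp k), hyp_le G p⟩

theorem WN.exists_envelope (h : WN p E F) [((E.autGroup T).subgroupOf (F.autGroup T)).Normal]
    (hs : IsPSolvable p (F.autGroup T ⧸ (E.autGroup T).subgroupOf (F.autGroup T))) :
    ∃ D : FusionSystem (T ⊔ centralizerIn S T), Nrm p D F ∧ E.IsSubsystemOf D ∧ autP D T ≤ autP E T ∧
      ∀ {U : Subgroup Ω} (L : FusionSystem U), WN p L F → L.hyperfocalSubgroup p = U → L.IsPPrimeResidual p L →
        U ≤ T ⊔ centralizerIn S T := by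
  have := h.finite
  obtain ⟨n, H, h0, hn, hm, hN, hi⟩ := hs
  let K : Fin (n + 1) → Subgroup (Perm Ω) := fun i =>
    liftAut (((H i).comap (QuotientGroup.mk' _)).map (F.autGroup T).subtype)
  have hK0 : K 0 = autP E T := by
    simp only [K, h0, MonoidHom.comap_bot, QuotientGroup.ker_mk', Subgroup.subgroupOf_map_subtype,
      inf_eq_left.mpr (autGroup_le_of_sub h.sub T)]
    rfl
  have hKn : K (Fin.last n) = autP F T := by
    simp only [K, hn, Subgroup.comap_top, ← MonoidHom.range_eq_map, Subgroup.range_subtype]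
    rfl
  have hKm : Monotone K := fun i j k => liftAut_le_iff.mpr (Subgroup.map_mono (Subgroup.comap_mono (hm k)))
  have hKN : ∀ i, autP F T ≤ Subgroup.normalizer (K i : Set (Perm Ω)) := fun i =>
    liftAut_le_normalizer_iff.mpr (le_normalizer_of_conj_mem (by
      rintro g hg _ ⟨x, hx, rfl⟩
      exact ⟨_, ((hN i).comap _).conj_mem x hx ⟨g, hg⟩, rfl⟩))
  have hKi : ∀ i : Fin n, (K i.castSucc).relIndex (K i.succ) = (H i.castSucc).relIndex (H i.succ) := fun i => by
    rw [relIndex_liftAut, Subgroup.relIndex_map_map_of_injective _ _ (Subgroup.subtype_injective _),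
      Subgroup.relIndex_comap, Subgroup.map_comap_eq_self_of_surjective (QuotientGroup.mk'_surjective _)]
  have key : ∀ i, ∃ (W : Subgroup Ω) (D : FusionSystem W), Nrm p D F ∧ E.IsSubsystemOf D ∧ centralizerIn S T ≤ W ∧
      autP D T ≤ K i ∧ ∀ {U : Subgroup Ω} (L : FusionSystem U), WN p L F → L.hyperfocalSubgroup p = U →
        L.IsPPrimeResidual p L → U ≤ W := fun i => by
    induction i using Fin.reverseInduction with
    | last => exact ⟨S, F, h.satF.nrm_refl, h.sub, inf_le_left, hKn.ge, fun L k _ _ => k.le⟩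
    | cast i ih =>
      obtain ⟨W, G, g1, g2, g3, g4, g5⟩ := ih
      have := g1.finite
      have k1 : K i.succ ≤ Subgroup.normalizer (K i.castSucc : Set (Perm Ω)) :=
        ((hKm (Fin.le_last _)).trans hKn.le).trans (hKN _)
      have := normal_subgroupOf_of_le_normalizer k1
      obtain ⟨W', D, d1, d2, d3, d4, d5⟩ := g1.descend h g2 g3 (hK0.ge.trans (hKm (Fin.zero_le i.castSucc))) (hKN _)
        ((hi i).imp (fun ⟨m, hm⟩ σ hσ => ⟨m, by
          rw [← hm, ← hKi]
          exact Subgroup.pow_index_mem ((K i.castSucc).subgroupOf (K i.succ)) ⟨σ, g4 hσ⟩⟩) fun k k' => by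
            rw [← hKi] at k
            rw [← Subgroup.relIndex_subgroupOf g4] at k'
            exact (Nat.Prime.coprime_iff_not_dvd Fact.out).mp k.symm (k'.trans
              (Subgroup.relIndex_dvd_index_of_normal _ _)))
      exact ⟨W', D, d1, d2, d3, d4, fun L k1 k2 k3 => k2.ge.trans
        ((hyp_mono (k1.sub_of_le_of_opPrime k3 g1.toWN (g5 L k1 k2 k3))).trans d5)⟩
  obtain ⟨W, D, d1, d2, d3, d4, d5⟩ := key 0
  rw [hK0] at d4
  have hT := le_of_isSubsystemOf d2
  obtain rfl : W = T ⊔ centralizerIn S T := le_antisymm (fun w hw => h.mem_sup_of_cj le_rfl (sc_fc h.satF h.sc)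
    (d1.le hw) (d4 (iso_cj D hT hw (sc_le_normalizer h.sc (d1.le hw))).mem_autP)) (sup_le hT d3)
  exact ⟨D, d1, d2, d4, d5⟩

end Cfsg.Lib.Fus
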