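/-
Terminating residual series: constrained systems with `p`-solvable automizer of the core.
-/
import Cfsg.Agent.Lib.Fus.Red
import Cfsg.Agent.Lib.Fus.Comp
import Cfsg.Agent.Lib.Fus2.Real2
import Cfsg.Agent.Lib.Fus2.Tate
import Cfsg.Agent.Lib.Invol.Focal

set_option autoImplicit false
set_option linter.unusedSectionVars false

namespace Cfsg.Lib.Fus

open Cfsg Equiv Subgroup
open Cfsg.FusionSystem hiding inv_mem

section Grp

variable {G : Type*} [Group G] [Finite G] {p : ℕ} [hp : Fact p.Prime]

theorem psol_of_res_le {H : Subgroup G} (hH : IsPSolvable p H) (h : pResidual p G ≤ H) : IsPSolvable p G :=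
  have := Invol.pResidual_normal (G := G) p
  Core.isPSolvable_of_normal_of_quotient hp.out (pResidual p G) (Core.isPSolvable_of_le hp.out hH h)
    (Core.isPSolvable_of_isPGroup hp.out (Invol.isPGroup_quotient_pResidual p))

theorem pel_normal : (closure {a : G | ∃ k : ℕ, orderOf a = p ^ k}).Normal :=
  ⟨fun n hn g => by
    refine closure_induction (p := fun n _ => g * n * g⁻¹ ∈ closure {a : G | ∃ k : ℕ, orderOf a = p ^ k})
      ?_ ?_ ?_ ?_ hn
    · rintro x ⟨k, hx⟩
      exact subset_closure ⟨k, by rw [← hx]; exact (MulAut.conj g).orderOf_eq x⟩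
    · simp [one_mem]
    · intro x y _ _ hx hy
      simpa [mul_assoc] using mul_mem hx hy
    · intro x _ hx
      simpa [mul_assoc] using inv_mem hx⟩

theorem psol_of_pel_le {H : Subgroup G} (hH : IsPSolvable p H)
    (h : closure {a : G | ∃ k : ℕ, orderOf a = p ^ k} ≤ H) : IsPSolvable p G := by
  have := pel_normal (G := G) (p := p)
  refine Core.isPSolvable_of_normal_of_quotient hp.out _ (Core.isPSolvable_of_le hp.out hH h)
    (Core.isPSolvable_of_coprime hp.out ?_)
  refine ((Nat.Prime.coprime_iff_not_dvd hp.out).mpr fun hd => ?_).symm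
  obtain ⟨q, hq⟩ := exists_prime_orderOf_dvd_card' p hd
  obtain ⟨g, rfl⟩ := QuotientGroup.mk_surjective q
  obtain ⟨k, m, hm, hkm⟩ := Nat.exists_eq_pow_mul_and_not_dvd (orderOf_pos g).ne' p hp.out.ne_one
  apply hm
  rw [← hq]
  apply orderOf_dvd_of_pow_eq_one
  rw [← QuotientGroup.mk_pow, QuotientGroup.eq_one_iff]
  have h1 : orderOf (g ^ m) ∣ p ^ k := orderOf_dvd_of_pow_eq_one (by
    rw [← pow_mul, mul_comm, ← hkm, pow_orderOf_eq_one])
  obtain ⟨j, -, hj⟩ := (Nat.dvd_prime_pow hp.out).mp h1
  exact subset_closure ⟨j, hj⟩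

theorem psol_of_ker {H : Type*} [Group H] [Finite H] (f : G →* H) (hk : IsPSolvable p f.ker)
    (hH : IsPSolvable p H) : IsPSolvable p G :=
  Core.isPSolvable_of_normal_of_quotient hp.out _ hk
    (Core.isPSolvable_of_injective hp.out hH (QuotientGroup.kerLift_injective f))

end Grp

variable {Ω : Type*} [Group Ω] {S T R Q : Subgroup Ω} {F : FusionSystem S} {E : FusionSystem T} {p : ℕ}
  [Finite S] [hp : Fact p.Prime]

/-- Restriction of automorphisms to a strongly closed subgroup. -/
theorem exists_resHom (hR : F.IsNormal R) (hQ : F.StronglyClosed Q) (h : Q ≤ R) :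
    ∃ f : F.autGroup R →* F.autGroup Q, Function.Surjective f ∧
      ∀ (a : F.autGroup R) (x : Q), ((f a : MulAut Q) x : Ω) = autPerm R a x := by
  have hRS : R ≤ S := hR.1
  have hQS : Q ≤ S := h.trans hRS
  have k1 : ∀ a : F.autGroup R, Iso F Q Q (autPerm R a) := fun a =>
    (((mem_autGroup_iff hRS).mp a.2).mor.mono h).iso_self fun x hx =>
      (((mem_autGroup_iff hRS).mp a.2).mor.mono h).mem_of_sc hQ hx hx
  let g : F.autGroup R →* autP F Q :=
    ((autPerm R).comp (F.autGroup R).subtype).codRestrict _ fun a => (k1 a).mem_autP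
  refine ⟨(toAutGroup F Q).comp g, fun b => ?_, fun a x => coe_toAutGroup _ x⟩
  obtain ⟨τ, t1, t2, t3⟩ := ((mem_autGroup_iff hQS).mp b.2).mor.ext_normal hR
  obtain ⟨a, ha, e⟩ := ((t1.mono le_sup_right).iso_self t3).exists_aut
  refine ⟨⟨a, ha⟩, Subtype.ext (mulAut_eq_of_eq (σ := τ) (fun x => ?_) fun x => ?_)⟩
  · refine (coe_toAutGroup _ x).trans ?_
    exact (autPerm_apply_of_mem a (h x.2)).trans (e _)
  · rw [t2 x x.2, autPerm_apply]

/-- The working form of "constrained with `p`-solvable model". -/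
def PSC (p : ℕ) (F : FusionSystem S) : Prop :=
  centralizerIn S F.core ≤ F.core ∧ IsPSolvable p (F.autGroup F.core)

theorem WN.core_eq (h : WN p E F) : E.core = F.core ⊓ T :=
  le_antisymm (le_inf (le_core (h.toInv.normal_core h.satF)) (core_le E))
    (have := h.toInv.finite; le_core (h.satE.normal_inf h.sub h.sc (normal_core F)))

theorem WN.psc_down (h : WN p E F) (hF : PSC p F) : PSC p E := by
  have := h.toInv.finite
  have hn := h.toInv.normal_core h.satF
  refine ⟨?_, ?_⟩
  · rw [h.core_eq]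
    exact le_inf (h.satF.constrained_of_sc hF.1 h.sc) (centralizerIn_le _ _)
  · obtain ⟨f, hf, -⟩ := exists_resHom (normal_core F) (sc_of_normal hn) (le_core hn)
    have : Finite F.core := finite_of_le (core_le F)
    have : Finite E.core := finite_of_le (core_le E)
    have := finite_mulAut F.core
    have := finite_mulAut E.core
    exact Core.isPSolvable_of_le hp.out (Core.isPSolvable_of_surjective hp.out hF.2 hf)
      (autGroup_le_of_sub h.sub _)

theorem Nrm.con_up (h : Nrm p E F) (hh : F.hyperfocalSubgroup p ≤ T) (hE : centralizerIn T E.core ≤ E.core) :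
    centralizerIn S F.core ≤ F.core := by
  have := h.toInv.finite
  by_contra hc
  obtain ⟨U, C, hC⟩ := h.satF.exists_comp fun k => hc (isConstrained_iff.mp k).2
  refine (hC.of_le h ?_).not_constrained h.satE.pg (isConstrained_iff.mpr ⟨h.satE.sat, hE⟩)
  have := hC.finite
  rw [← hC.qs.hyp]
  exact (hyp_mono hC.sub).trans hh

theorem Sat.psc_up_pPrime (hF : Sat p F) {E : FusionSystem S} (h : F.IsPPrimeResidual p E) (hE : PSC p E) :
    PSC p F := by
  have hn := hF.nrm_of_isPPrimeResidual h
  refine ⟨hn.con_up (hyp_le_iff'.mpr fun P σ k _ x hx => mul_mem (inv_mem (k.le hx)) (k.mor.mem hx)) hE.1, ?_⟩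
  have e : E.core = F.core := hn.toWN.core_eq.trans (inf_eq_left.mpr (core_le F))
  have k := hE.2
  rw [e] at k
  have : Finite F.core := finite_of_le (core_le F)
  have := finite_mulAut F.core
  exact psol_of_pel_le (Core.isPSolvable_subgroupOf hp.out k _)
    (map_le_iff_le_comap.mp (h.2.1.2 F.core (core_le F)))

theorem Sat.psc_up_p (hF : Sat p F) {E : FusionSystem (F.hyperfocalSubgroup p)} (h : F.IsPResidual p E)
    (hE : PSC p E) : PSC p F := by
  have hi := (isPResidual_iff hF.pg).mp h
  have hN := hi.nrm hF (sc_le_normalizer hF.sc_hyp)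
  have := hN.toInv.finite
  refine ⟨hN.con_up le_rfl hE.1, ?_⟩
  have hn := hN.toInv.normal_core hF
  obtain ⟨f, -, hf⟩ := exists_resHom (normal_core F) (sc_of_normal hn) (le_core hn)
  have : Finite F.core := finite_of_le (core_le F)
  have : Finite E.core := finite_of_le (core_le E)
  have := finite_mulAut F.core
  have := finite_mulAut E.core
  refine psol_of_ker f (Core.isPSolvable_of_isPGroup hp.out fun a => ?_)
    (psol_of_res_le (Core.isPSolvable_subgroupOf hp.out hE.2 _)
      (map_le_iff_le_comap.mp (h.2.2.2 E.core (core_le E))))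
  obtain ⟨k, m, hm, hkm⟩ := Nat.exists_eq_pow_mul_and_not_dvd (orderOf_pos a).ne' p hp.out.ne_one
  refine ⟨k, ?_⟩
  obtain ⟨b, hb⟩ : ∃ b, b = a ^ p ^ k := ⟨_, rfl⟩
  rw [← hb]
  have hb1 : b ^ m = 1 := by rw [hb, ← pow_mul, ← hkm, pow_orderOf_eq_one]
  have hi : Iso F F.core F.core (autPerm F.core b.1.1) := (mem_autGroup_iff (core_le F)).mp b.1.2
  have hpp : PP p F.core (autPerm F.core b.1.1) :=
    ⟨m, ((Nat.Prime.coprime_iff_not_dvd hp.out).mpr hm).symm, by
      rw [← map_pow, ← Subgroup.coe_pow, ← Subgroup.coe_pow, hb1]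
      simp only [OneMemClass.coe_one, map_one, one_mem]⟩
  have hfix := hpp.fix_of_trivMod (hF.pg.to_le hn.1) (le_core hn)
    (mem_trivMod.mpr ⟨hi.mem_autAll, fun x hx =>
      hN.toWN.core_eq.ge (mem_inf.mpr ⟨mul_mem (inv_mem hx) (hi.mem hx), hi.inv_mul_mem_hyp' hpp hx⟩)⟩)
    fun x hx => by
      rw [← hf b.1 ⟨x, hx⟩, MonoidHom.mem_ker.mp b.2]; rfl
  refine Subtype.ext (Subtype.ext (mulAut_eq_of_eq (σ := 1) (fun x => ?_) fun x => rfl))
  rw [← autPerm_apply, mem_fixP.mp hfix x x.2]; rfl

theorem psc_of_bot (h : S = ⊥) (F : FusionSystem S) : PSC p F := by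
  have h1 : F.core = ⊥ := le_bot_iff.mp ((core_le F).trans h.le)
  refine ⟨(centralizerIn_le _ _).trans (h.le.trans bot_le), ?_⟩
  rw [h1]
  have := finite_mulAut (⊥ : Subgroup Ω)
  refine Core.isPSolvable_of_isPGroup hp.out fun a => ⟨0, ?_⟩
  rw [pow_zero, pow_one]
  exact Subtype.ext (MulEquiv.ext fun x => Subsingleton.elim _ _)

theorem psc_of_series {S : Subgroup Ω} {F : FusionSystem S} {p : ℕ} (h : F.HasTerminatingResidualSeries p) :
    ∀ [Finite S] [Fact p.Prime], Sat p F → PSC p F := by
  induction h with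
  | trivial F p h => intro _ _ _; exact psc_of_bot h F
  | step F E p D h1 h2 _ ih =>
    intro _ _ hF
    have hE : Sat p E := ⟨hF.pg, h1.1⟩
    have hi := (isPResidual_iff hE.pg).mp h2
    have := finite_of_le hi.le
    exact hF.psc_up_pPrime h1 (hE.psc_up_p h2 (ih hi.sat))

theorem Sat.idem_pPrime (hF : Sat p F) {L : FusionSystem S} (hL : F.IsPPrimeResidual p L) :
    L.IsPPrimeResidual p L := by
  have hn := hF.nrm_of_isPPrimeResidual hL
  obtain ⟨O, hO⟩ := hn.satE.exists_isPPrimeResidual
  have k := hn.toWN.wn_of_isPPrimeResidual hO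
  obtain rfl := fs_eq_of_sub k.2.sub (k.1.sub_of_isPPrimeResidual hL)
  exact hO

theorem PSC.eq_bot (h : PSC p F) (hF : Sat p F) {L : FusionSystem S} (hL : F.IsPPrimeResidual p L)
    (hh : L.hyperfocalSubgroup p = S) : S = ⊥ := by
  have hn := hF.nrm_of_isPPrimeResidual hL
  have hI := hF.nrm_inner (normal_core F)
  have : Finite F.core := finite_of_le (core_le F)
  have := finite_mulAut F.core
  have : (((innerFusionSystem F.core).autGroup F.core).subgroupOf (F.autGroup F.core)).Normal := by
    rw [Fus2.autGroup_inner le_rfl, autInducedBy_self]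
    exact inn_subgroupOf_normal F _
  obtain ⟨D, -, -, -, hD⟩ := hI.toWN.exists_envelope (Core.isPSolvable_quotient hp.out h.2 _)
  have h1 : F.core = S := le_antisymm (core_le F)
    ((hD L hn.toWN hh (hF.idem_pPrime hL)).trans (sup_le le_rfl h.1))
  have h2 : F.IsNormal S := by have := normal_core F; rwa [h1] at this
  have h3 := hyp_mono (p := p) ((hF.nrm_inner h2).toWN.sub_of_isPPrimeResidual hL)
  rw [hh, Fus2.hyp_inner hF.pg] at h3
  exact le_bot_iff.mp h3

theorem series_of_psc (n : ℕ) : ∀ {S : Subgroup Ω} [Finite S] (F : FusionSystem S), Nat.card S ≤ n → Sat p F →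
    PSC p F → F.HasTerminatingResidualSeries p := by
  induction n with
  | zero => intro S _ F h; exact absurd h (Nat.card_pos (α := S)).not_ge
  | succ n ih =>
    intro S _ F hc hF h
    obtain ⟨L, hL⟩ := hF.exists_isPPrimeResidual
    have hn := hF.nrm_of_isPPrimeResidual hL
    by_cases hh : L.hyperfocalSubgroup p = S
    · exact .trivial F p (h.eq_bot hF hL hh)
    · obtain ⟨D, d1, d2⟩ := hn.satE.exists_op
      have := finite_of_le d1.le
      refine .step F L p D hL ((isPResidual_iff hF.pg).mpr d1) (ih D ?_ d1.sat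
        (d2.toWN.psc_down (hn.toWN.psc_down h)))
      by_contra k
      exact hh (Subgroup.eq_of_le_of_card_ge d1.le (by omega))

end Cfsg.Lib.Fus
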