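/-
A graph of groups realized inside `FreeGroup E ⋊ K`: finite subgroups fix a vertex of the tree.
-/
import Mathlib.GroupTheory.FreeGroup.NielsenSchreier
import Mathlib.GroupTheory.FreeGroup.Reduce
import Mathlib.GroupTheory.SemidirectProduct
import Mathlib.GroupTheory.Index
import Mathlib.Algebra.Group.Action.Sigma
import Mathlib.GroupTheory.GroupAction.Quotient
import Mathlib.Tactic.Group

set_option autoImplicit false
set_option linter.unusedSectionVars false

namespace Cfsg.Lib.Fus

open FreeGroup

section FG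

variable {E : Type*} [DecidableEq E]

theorem norm_mk_of_reduced {L : List (E × Bool)} (h : IsReduced L) : norm (mk L) = L.length := by
  rw [FreeGroup.norm, toWord_mk, h.reduce_eq]

theorem norm_step {γ : FreeGroup E} (b : FreeGroup E) {x : E × Bool} {L : List (E × Bool)}
    (hγ : γ.toWord = x :: L) :
    norm ((mk [x])⁻¹ * b) + 1 = norm b ∨ norm (γ⁻¹ * b) = norm γ + norm b := by
  by_cases h : ∃ M, b.toWord = x :: M
  · obtain ⟨M, hM⟩ := h
    left
    have h1 : b = mk [x] * mk M := by rw [mul_mk, List.singleton_append, ← hM, mk_toWord]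
    have h2 : IsReduced M := (hM ▸ isReduced_toWord (x := b)).infix ⟨[x], [], by simp⟩
    rw [show norm b = M.length + 1 by rw [FreeGroup.norm, hM]; rfl, h1, inv_mul_cancel_left,
      norm_mk_of_reduced h2]
  · right
    have h1 : γ⁻¹ * b = mk (γ⁻¹.toWord ++ b.toWord) := by rw [← mul_mk, mk_toWord, mk_toWord]
    rw [h1, norm_mk_of_reduced, List.length_append, ← norm_inv_eq (x := γ)]
    · rfl
    · refine List.isChain_append.mpr ⟨isReduced_toWord, isReduced_toWord, fun a ha c hc e => ?_⟩
      rw [toWord_inv, hγ] at ha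
      simp only [invRev, List.map_cons, List.reverse_cons, List.getLast?_append, List.getLast?_singleton,
        Option.some_or, Option.mem_def, Option.some.injEq] at ha
      subst ha
      obtain ⟨M, hM⟩ : ∃ M, b.toWord = c :: M := List.head?_eq_some_iff.mp hc
      have : c ≠ x := fun k => h ⟨M, k ▸ hM⟩
      obtain ⟨c1, c2⟩ := c
      obtain ⟨x1, x2⟩ := x
      obtain rfl : x1 = c1 := e
      cases c2 <;> cases x2 <;> simp_all

end FG

section Graph

variable {K E V : Type*} [Group K] [MulAction K E] [MulAction K V] [DecidableEq E]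

/-- Walks in the graph whose oriented edge `(e, b)` goes from `st e b` to `st e (!b)`. -/
def Walk (st : E → Bool → V) : V → List (E × Bool) → V → Prop
  | v, [], w => v = w
  | v, x :: L, w => st x.1 x.2 = v ∧ Walk st (st x.1 (!x.2)) L w

variable {st : E → Bool → V} {u v w : V} {L M : List (E × Bool)}

theorem Walk.append (h : Walk st u L v) (h' : Walk st v M w) : Walk st u (L ++ M) w := by
  induction L generalizing u with
  | nil => exact h ▸ h'
  | cons x L ih => exact ⟨h.1, ih h.2⟩

theorem Walk.reduce (h : Walk st u L v) : Walk st u (reduce L) v := by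
  induction L generalizing u with
  | nil => exact h
  | cons x L ih =>
    have k := ih h.2
    rw [reduce.cons]
    cases e : FreeGroup.reduce L with
    | nil => rw [e] at k; exact ⟨h.1, k⟩
    | cons y M =>
      rw [e] at k
      dsimp only
      split_ifs with c
      · have := k.2
        rwa [← c.1, ← c.2, h.1] at this
      · exact ⟨h.1, k⟩

theorem Walk.invRev (h : Walk st u L v) : Walk st v (invRev L) u := by
  induction L generalizing u with
  | nil => exact h.symm
  | cons x L ih =>
    have : FreeGroup.invRev (x :: L) = FreeGroup.invRev L ++ [(x.1, !x.2)] := by simp [FreeGroup.invRev]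
    rw [this]
    exact (ih h.2).append ⟨rfl, by simpa [Walk] using h.1⟩

theorem Walk.smul (hst : ∀ (g : K) e b, st (g • e) b = g • st e b) (g : K) (h : Walk st u L v) :
    Walk st (g • u) (L.map fun x => (g • x.1, x.2)) (g • v) := by
  induction L generalizing u with
  | nil => exact congrArg _ h
  | cons x L ih => exact ⟨by rw [hst, h.1], by simpa [hst] using ih h.2⟩

theorem Walk.iff {A : V → Prop} (h : Walk st u L v) (hA : ∀ x ∈ L, A (st x.1 true) ↔ A (st x.1 false)) :
    A u ↔ A v := by
  induction L generalizing u with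
  | nil => rw [show u = v from h]
  | cons x L ih =>
    rw [← ih h.2 fun y hy => hA y (List.mem_cons_of_mem _ hy), ← h.1]
    have := hA x List.mem_cons_self
    cases x.2
    · exact this.symm
    · exact this

variable (K E) in
/-- The action of `K` on the free group on `E`. -/
def fgAct : K →* MulAut (FreeGroup E) where
  toFun g := freeGroupCongr (MulAction.toPerm g)
  map_one' := MulEquiv.toMonoidHom_injective (FreeGroup.ext_hom _ _ fun a => by simp)
  map_mul' g h := MulEquiv.toMonoidHom_injective (FreeGroup.ext_hom _ _ fun a => by simp [mul_smul])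

theorem toWord_fgAct (g : K) (γ : FreeGroup E) :
    (fgAct K E g γ).toWord = γ.toWord.map fun x => (g • x.1, x.2) := by
  have h1 : fgAct K E g γ = mk (γ.toWord.map fun x => (g • x.1, x.2)) := by
    conv_lhs => rw [← mk_toWord (x := γ)]
    rfl
  rw [h1, toWord_mk, IsReduced.reduce_eq]
  exact (List.isChain_map _).mpr (isReduced_toWord.imp fun a b h e => h (MulAction.injective g e))

theorem norm_fgAct (g : K) (γ : FreeGroup E) : norm (fgAct K E g γ) = norm γ := by
  rw [FreeGroup.norm, toWord_fgAct, List.length_map]; rfl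

/-- Walks given by elements of the free group. -/
def FW (st : E → Bool → V) (u : V) (γ : FreeGroup E) (v : V) : Prop := Walk st u γ.toWord v

theorem FW.mul {γ δ : FreeGroup E} (h : FW st u γ v) (h' : FW st v δ w) : FW st u (γ * δ) w := by
  rw [FW, toWord_mul]; exact (Walk.append h h').reduce

theorem FW.inv {γ : FreeGroup E} (h : FW st u γ v) : FW st v γ⁻¹ u := by
  rw [FW, toWord_inv]; exact Walk.invRev h

theorem FW.smul (hst : ∀ (g : K) e b, st (g • e) b = g • st e b) (g : K) {γ : FreeGroup E} (h : FW st u γ v) :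
    FW st (g • u) (fgAct K E g γ) (g • v) := by
  rw [FW, toWord_fgAct]; exact Walk.smul hst g h

theorem fw_single (x : E × Bool) : FW st (st x.1 x.2) (mk [x]) (st x.1 (!x.2)) := by
  rw [FW, toWord_mk, IsReduced.singleton.reduce_eq]; exact ⟨rfl, rfl⟩

/-- The fundamental group of the graph of groups: lifts of `K` to the universal cover. -/
def treeGrp (hst : ∀ (g : K) e b, st (g • e) b = g • st e b) (v : V) :
    Subgroup (FreeGroup E ⋊[fgAct K E] K) where
  carrier := {x | FW st v x.left (x.right • v)}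
  one_mem' := (one_smul K v).symm
  mul_mem' {x y} hx hy := by
    have := FW.mul hx (FW.smul hst x.right hy)
    rwa [← mul_smul] at this
  inv_mem' {x} hx := by
    have := FW.smul hst x.right⁻¹ (FW.inv hx)
    rwa [inv_smul_smul] at this

theorem treeGrp_fixed (hst : ∀ (g : K) e b, st (g • e) b = g • st e b) (htr : ∀ w, ∃ k : K, k • v = w)
    (H : Subgroup (treeGrp hst v)) [Finite H] : ∃ g : treeGrp hst v, ∀ h ∈ H, (g * h * g⁻¹).1.left = 1 := by
  classical
  have ex : ∃ r, ∃ y : treeGrp hst v, ∀ h ∈ H, norm (y * h).1.left ≤ r := by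
    obtain ⟨r, hr⟩ := (Set.finite_range fun h : H => norm h.1.1.left).bddAbove
    exact ⟨r, 1, fun h hh => by rw [one_mul]; exact hr ⟨⟨h, hh⟩, rfl⟩⟩
  obtain ⟨y, hy⟩ := Nat.find_spec ex
  have key : ∀ h ∈ H, norm (y * h * y⁻¹).1.left ≤ 1 := by
    intro h hh
    by_contra hc
    obtain ⟨z, hz⟩ : ∃ z, z = y * h * y⁻¹ := ⟨_, rfl⟩
    rw [← hz] at hc
    obtain ⟨x, L, e⟩ : ∃ x L, z.1.left.toWord = x :: L := by
      cases e : z.1.left.toWord with
      | nil => exact absurd (by rw [FreeGroup.norm, e]; exact zero_le_one) hc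
      | cons x L => exact ⟨x, L, rfl⟩
    have h1 : st x.1 x.2 = v := by have : Walk st v z.1.left.toWord _ := z.2; rw [e] at this; exact this.1
    obtain ⟨k, hk⟩ := htr (st x.1 (!x.2))
    let t : treeGrp hst v := ⟨⟨mk [x], k⟩, by have := fw_single (st := st) x; rwa [h1, ← hk] at this⟩
    have h2 : ∀ a ∈ H, norm (t⁻¹ * y * a).1.left + 1 ≤ Nat.find ex := by
      intro a ha
      have e1 : norm (t⁻¹ * y * a).1.left = norm ((mk [x])⁻¹ * (y * a).1.left) := by
        rw [mul_assoc, ← norm_fgAct k⁻¹ (_ * _), _root_.map_mul]; rfl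
      have e2 : norm (z.1.left⁻¹ * (y * a).1.left) = norm (y * (h⁻¹ * a)).1.left := by
        rw [show y * (h⁻¹ * a) = z⁻¹ * (y * a) by rw [hz]; group, ← norm_fgAct z.1.right⁻¹ (_ * _), _root_.map_mul]
        rfl
      have e3 := hy _ (mul_mem (inv_mem hh) ha)
      have e4 := hy a ha
      have e5 := norm_mul_le (mk [x])⁻¹ (y * a).1.left
      rw [norm_inv_eq, norm_mk_of_reduced IsReduced.singleton, List.length_singleton] at e5
      rcases norm_step (y * a).1.left e with k | k <;> omega
    have h3 := h2 1 (one_mem H)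
    exact Nat.find_min ex (m := Nat.find ex - 1) (by omega) ⟨t⁻¹ * y, fun a ha => by have := h2 a ha; omega⟩
  refine ⟨y, fun h hh => ?_⟩
  have k1 := key h hh
  have k2 := key (h * h) (mul_mem hh hh)
  rw [show y * (h * h) * y⁻¹ = (y * h * y⁻¹) * (y * h * y⁻¹) by group] at k2
  obtain ⟨z, hz⟩ : ∃ z, z = y * h * y⁻¹ := ⟨_, rfl⟩
  rw [← hz] at k1 k2 ⊢
  rw [← toWord_eq_nil_iff]
  change (z.1.left * fgAct K E z.1.right z.1.left).toWord.length ≤ 1 at k2
  rw [toWord_mul, toWord_fgAct] at k2
  change z.1.left.toWord.length ≤ 1 at k1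
  match e : z.1.left.toWord, k1, k2 with
  | [], _, _ => rfl
  | [x], _, k2 => simp at k2
  | _ :: _ :: _, k1, _ => simp at k1

theorem treeGrp_free (hst : ∀ (g : K) e b, st (g • e) b = g • st e b) (v : V) :
    IsFreeGroup (SemidirectProduct.rightHom.comp (treeGrp hst v).subtype).ker := by
  let f : (SemidirectProduct.rightHom.comp (treeGrp hst v).subtype).ker →* FreeGroup E :=
    MonoidHom.mk' (fun x => x.1.1.left) fun x y => by
      have : x.1.1.right = 1 := x.2
      change x.1.1.left * fgAct K E x.1.1.right y.1.1.left = _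
      rw [this, _root_.map_one]; rfl
  have hf : Function.Injective f := fun x y e => Subtype.ext (Subtype.ext (SemidirectProduct.ext e
    ((show x.1.1.right = 1 from x.2).trans (show y.1.1.right = 1 from y.2).symm)))
  exact IsFreeGroup.ofMulEquiv (MonoidHom.ofInjective hf).symm

theorem fix_of_fgAct {g : K} {γ : FreeGroup E} (h : fgAct K E g γ = γ) : ∀ x ∈ γ.toWord, g • x.1 = x.1 := by
  have := toWord_fgAct g γ
  rw [h] at this
  intro x hx
  have k := List.map_eq_iff.mp this.symm
  obtain ⟨i, hi⟩ := List.mem_iff_getElem?.mp hx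
  have := k i
  rw [hi] at this
  exact congrArg Prod.fst (Option.some.inj this).symm

end Graph

theorem exists_perm_intertwine {P G : Type*} [Group P] [Group G] [Finite G] (a b : P →* G)
    (ha : Function.Injective a) (hb : Function.Injective b) :
    ∃ τ : Equiv.Perm G, ∀ x s, τ (a x * s) = b x * τ s := by
  have h1 : Nat.card (G ⧸ a.range) = Nat.card (G ⧸ b.range) := by
    have e1 := a.range.card_eq_card_quotient_mul_card_subgroup
    have e2 := b.range.card_eq_card_quotient_mul_card_subgroup
    rw [← Nat.card_congr (MonoidHom.ofInjective ha).toEquiv] at e1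
    rw [← Nat.card_congr (MonoidHom.ofInjective hb).toEquiv, e1] at e2
    have := Finite.of_injective a ha
    exact Nat.eq_of_mul_eq_mul_right Nat.card_pos e2
  obtain ⟨β⟩ := Finite.card_eq.mp h1
  have h2 : ∀ t : G, ∃ x, (QuotientGroup.mk t⁻¹ : G ⧸ a.range).out * a x = t⁻¹ := fun t => by
    obtain ⟨⟨_, x, rfl⟩, hx⟩ := QuotientGroup.mk_out_eq_mul a.range t⁻¹
    exact ⟨x⁻¹, by rw [hx, _root_.map_inv, mul_inv_cancel_right]⟩
  choose π hπ using h2
  let f : G → G := fun t => ((β (QuotientGroup.mk t⁻¹)).out * b (π t))⁻¹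
  have hf : Function.Injective f := fun s t e => by
    have e1 : (β (QuotientGroup.mk s⁻¹)).out * b (π s) = (β (QuotientGroup.mk t⁻¹)).out * b (π t) :=
      inv_injective e
    have e2 : β (QuotientGroup.mk s⁻¹) = β (QuotientGroup.mk t⁻¹) := by
      have := congrArg (QuotientGroup.mk : G → G ⧸ b.range) e1
      rwa [QuotientGroup.mk_mul_of_mem _ (⟨_, rfl⟩ : b (π s) ∈ b.range),
        QuotientGroup.mk_mul_of_mem _ (⟨_, rfl⟩ : b (π t) ∈ b.range), QuotientGroup.out_eq',
        QuotientGroup.out_eq'] at this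
    rw [e2] at e1
    apply inv_injective
    rw [← hπ s, ← hπ t, β.injective e2, hb (mul_left_cancel e1)]
  refine ⟨Equiv.ofBijective f hf.bijective_of_finite, fun x s => ?_⟩
  have e1 : (QuotientGroup.mk (a x * s)⁻¹ : G ⧸ a.range) = QuotientGroup.mk s⁻¹ := by
    rw [mul_inv_rev, QuotientGroup.mk_mul_of_mem _ (inv_mem (⟨_, rfl⟩ : a x ∈ a.range))]
  have e2 : π (a x * s) = π s * x⁻¹ := by
    have := hπ (a x * s)
    rw [e1, mul_inv_rev] at this
    apply ha
    apply mul_left_cancel (a := (QuotientGroup.mk s⁻¹ : G ⧸ a.range).out)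
    rw [this, _root_.map_mul, ← mul_assoc, hπ, _root_.map_inv]
  change ((β (QuotientGroup.mk (a x * s)⁻¹)).out * b (π (a x * s)))⁻¹ =
    b x * ((β (QuotientGroup.mk s⁻¹)).out * b (π s))⁻¹
  rw [e1, e2, _root_.map_mul, _root_.map_inv]
  group

theorem exists_quot_map {K : Type*} [Group K] (A B : Subgroup K) (t : K) (h : ∀ a ∈ A, t⁻¹ * a * t ∈ B) :
    ∃ f : K ⧸ A → K ⧸ B, ∀ k : K, f (QuotientGroup.mk k) = QuotientGroup.mk (k * t) :=
  ⟨fun c => Quotient.liftOn' c (fun k => (QuotientGroup.mk (k * t) : K ⧸ B)) fun k l e =>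
    QuotientGroup.eq.mpr (by
      have := h _ (QuotientGroup.leftRel_apply.mp e)
      rwa [show t⁻¹ * (k⁻¹ * l) * t = (k * t)⁻¹ * (l * t) by group] at this), fun _ => rfl⟩

end Cfsg.Lib.Fus
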