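/-
A nilpotency criterion: weakly embedded subgroups of one order with nilpotent normalizers.
-/
import Cfsg.Agent.Lib.Fus.QuotSat
import Cfsg.Agent.Lib.Fus.Bridge
import Cfsg.Agent.Lib.Fus.Normal
import Cfsg.Agent.Lib.Fus.Small
import Cfsg.Agent.Lib.Fus2.Tate
import Cfsg.Agent.Lib.PGrp.Basic

set_option autoImplicit false
set_option linter.unusedSectionVars false

namespace Cfsg.Lib.Fus

open Cfsg Equiv Subgroup
open Cfsg.FusionSystem hiding inv_mem
open scoped commutatorElement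

universe u

section

variable {Ω : Type*} [Group Ω] {S T P Q R A B : Subgroup Ω} {F : FusionSystem S} {p : ℕ} [hp : Fact p.Prime]
  {Ω' : Type*} [Group Ω'] {S' P' : Subgroup Ω'} {E : FusionSystem S'} {θ : S →* Ω'} {σ : Perm Ω} {σ' : Perm Ω'}

theorem exists_between_pow [Finite B] (hB : IsPGroup p B) (h : A ≤ B) {k : ℕ} (h1 : Nat.card A ≤ p ^ k)
    (h2 : p ^ k ≤ Nat.card B) : ∃ L, A ≤ L ∧ L ≤ B ∧ Nat.card L = p ^ k := by
  have := finite_of_le h
  obtain ⟨n, hn⟩ := IsPGroup.iff_card.1 (hB.to_le h)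
  obtain ⟨m, hm⟩ := IsPGroup.iff_card.1 hB
  rw [hn] at h1; rw [hm] at h2
  obtain ⟨L, hL, hKL⟩ := Sylow.exists_subgroup_card_pow_prime_le p (G := B) (n := n) (m := k)
    (by rw [hm]; exact pow_dvd_pow p ((Nat.pow_le_pow_iff_right hp.out.one_lt).1 h2)) (A.subgroupOf B)
    (by rw [Nat.card_congr (subgroupOfEquivOfLe h).toEquiv, hn]) ((Nat.pow_le_pow_iff_right hp.out.one_lt).1 h1)
  exact ⟨L.map B.subtype, fun x hx => ⟨⟨x, h hx⟩, hKL hx, rfl⟩, map_subtype_le _,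
    by rw [card_map_of_injective B.subtype_injective, hL]⟩

theorem exists_norm_between_pow [Finite B] (hB : IsPGroup p B) (h : A ≤ B) (hn : B ≤ normalizer (A : Set Ω)) {k : ℕ}
    (h1 : Nat.card A ≤ p ^ k) (h2 : p ^ k ≤ Nat.card B) :
    ∃ L, A ≤ L ∧ L ≤ B ∧ B ≤ normalizer (L : Set Ω) ∧ Nat.card L = p ^ k := by
  have := normal_subgroupOf_of_le_normalizer hn
  obtain ⟨L, hL, a1, -, a3⟩ := PGrp.exists_normal_between_card_eq hB (A.subgroupOf B) ⊤ le_top k
    (by rwa [Nat.card_congr (subgroupOfEquivOfLe h).toEquiv]) (by rwa [card_top])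
  refine ⟨L.map B.subtype, fun x hx => ⟨⟨x, h hx⟩, a1 hx, rfl⟩, map_subtype_le _, ?_,
    by rwa [card_map_of_injective B.subtype_injective]⟩
  have := le_normalizer_map (H := L) B.subtype
  rwa [normalizer_eq_top, ← MonoidHom.range_eq_map, range_subtype] at this

theorem Ind.fix' (h : Ind θ P σ σ') (hP : P ≤ S) (hf : σ ∈ fixP P) : σ' ∈ fixP (imageAlong θ P) :=
  mem_fixP.mpr fun y hy => by
    obtain ⟨x, hx, rfl⟩ := (mem_imageAlong_of_le hP).mp hy
    rw [h x hx, mem_fixP.mp hf x hx]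

variable [Finite S]

theorem Fac.hyp_le_kerA (h : Fac F θ E) (hF : Sat p F) (hk : F.StronglyClosed (kerA θ))
    (hE : E.hyperfocalSubgroup p = ⊥) : F.hyperfocalSubgroup p ≤ kerA θ := by
  have := h.finite
  refine hyp_le_iff'.mpr fun P σ h1 ⟨m, hm, h2⟩ x hx => ?_
  obtain ⟨σ', k1, k2⟩ := h.exists_ind_of_sc hF hk h1.mor
  have k3 := k1.iso_of_img_eq (by rw [k2.img_eq h1.mor, h1.img_eq])
  have k4 := k3.inv_mul_mem_hyp' ⟨m, hm, (k2.pow (fun _ => h1.mem) m).fix' h1.le h2⟩ (ex_mem_imageAlong θ hx)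
  rw [hE, mem_bot, inv_mul_eq_one, k2 x hx] at k4
  exact (ex_eq_iff (h1.le hx) (h1.mor.mem hx)).mp k4

/-- The working form of the hypothesis. -/
structure WE (p : ℕ) (F : FusionSystem S) (d : ℕ) : Prop where
  pos : 0 < d
  lt : p ^ d < Nat.card S
  a : ∀ Q ≤ S, Nat.card Q = p ^ d →
    ∃ P, F.StronglyClosed P ∧ F.StronglyClosed (Q ⊔ P) ∧ F.StronglyClosed (Q ⊓ P)
  b : ∀ (H R : Subgroup Ω) σ, Nat.card H = p ^ d → H ≤ R → R ≤ normalizer (H : Set Ω) → Iso F R R σ → σ ∈ autAll H →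
    ∃ k, σ ^ p ^ k ∈ fixP R

theorem WE.fac {d e : ℕ} (h : WE p F (d + e)) (hd : 0 < d) (hE : Fac F θ E) (hk : Nat.card (kerA θ) = p ^ e) :
    have := hE.finite; WE p E d := by
  intro _
  have hf := isFactorSystem_iff.mpr ⟨rfl, hE⟩
  have hc : ∀ Q' ≤ S', Nat.card Q' = p ^ d → Nat.card (preimageAlong θ Q') = p ^ (d + e) := fun Q' h1 h2 => by
    rw [Fus2.IsFac.card_pre hf h1, h2, hk, pow_add]
  refine ⟨hd, ?_, fun Q' h1 h2 => ?_, fun H' R' σ' h1 h2 h3 h4 h5 => ?_⟩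
  · have := h.lt
    rw [← Fus2.IsFac.card_mul hf, hk, pow_add] at this
    exact lt_of_mul_lt_mul_right this (Nat.zero_le _)
  · obtain ⟨P, k1, k2, k3⟩ := h.a _ (preimageAlong_le θ Q') (hc Q' h1 h2)
    refine ⟨imageAlong θ P, hE.sc_image k1, ?_, ?_⟩
    · have := hE.sc_image k2
      rwa [imageAlong_sup θ (preimageAlong_le θ Q') k1.1, hE.image_preimage h1] at this
    · have := hE.sc_image k3
      convert this using 1
      ext y
      rw [mem_inf, mem_imageAlong_of_le k1.1, mem_imageAlong_of_le k3.1]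
      exact ⟨fun ⟨a, x, hx, e⟩ => ⟨x, ⟨mem_preimageAlong.mpr ⟨k1.1 hx, e ▸ a⟩, hx⟩, e⟩,
        fun ⟨x, hx, e⟩ => ⟨e ▸ (mem_preimageAlong.mp hx.1).2, x, hx.2, e⟩⟩
  · obtain ⟨σ, s1, s2⟩ := hE.lift_iso h4
    have hm := preimageAlong_mono θ h2
    obtain ⟨k, hk⟩ := h.b _ _ σ (hc H' (h2.trans h4.le) h1) hm (fun g hg => mem_normalizer_preimageAlong
      (mem_preimageAlong.mp hg).1 (h3 (mem_preimageAlong.mp hg).2)) s1
      (mem_autAll_of_mapsTo s1.homOn hm fun x hx => mem_preimageAlong.mpr ⟨s1.mor.mem (hm hx), by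
        rw [← s2 x (hm hx)]; exact autAll_mem h5 (mem_preimageAlong.mp hx).2⟩)
    have := (s2.pow (fun _ => s1.mem) (p ^ k)).fix' s1.le hk
    rw [hE.image_preimage h4.le] at this
    exact ⟨k, this⟩

theorem WE.fac_top {d : ℕ} (h : WE p F d) (hE : Fac F θ E) (hs : F.StronglyClosed (kerA θ))
    (hk : Nat.card (kerA θ) = p ^ d) : E.hyperfocalSubgroup p = ⊥ := by
  have := hE.finite
  refine le_bot_iff.mp (hyp_le_iff'.mpr fun P' σ' h1 h2 x hx => ?_)
  obtain ⟨σ, s1, s2⟩ := hE.lift_iso h1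
  have hm := kerA_le_preimageAlong θ P'
  obtain ⟨k, hk⟩ := h.b _ _ σ hk hm (s1.le.trans (le_normalizer_kerA θ)) s1 (s2.iso_kerA s1.mor hm).mem_autAll
  have := (s2.pow (fun _ => s1.mem) (p ^ k)).fix' s1.le hk
  rw [hE.image_preimage h1.le] at this
  rw [mem_fixP.mp (h2.mem_of_pow le_rfl this) x hx, inv_mul_cancel]
  exact one_mem _

theorem WE.card_le_of_min {d : ℕ} (h : WE p F d) (hS : IsPGroup p S) {N : Subgroup Ω} (hN : F.StronglyClosed N)
    (hm : ∀ X, F.StronglyClosed X → X ≤ N → X = ⊥ ∨ X = N) : Nat.card N ≤ p ^ d := by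
  by_contra hc
  have := finite_of_le hN.1
  have h1 : 1 < p ^ d := Nat.one_lt_pow h.pos.ne' hp.out.one_lt
  obtain ⟨Q, -, q1, q2⟩ := exists_between_pow (hS.to_le hN.1) bot_le (k := d) (by rw [card_bot]; omega) (by omega)
  obtain ⟨P, k1, k2, k3⟩ := h.a Q (q1.trans hN.1) q2
  have key : F.StronglyClosed Q := by
    rcases hm _ (sc_inf hN k1) inf_le_left with k | k
    · have := sc_inf hN k2
      convert this using 1
      refine le_antisymm (le_inf q1 le_sup_left) fun x ⟨x1, x2⟩ => ?_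
      have hn : Q ≤ normalizer (P : Set Ω) := (q1.trans hN.1).trans (sc_le_normalizer k1)
      obtain ⟨a, ha, b, hb, rfl⟩ := (mem_sup_of_le_normalizer hn).mp x2
      have : b ∈ N ⊓ P := ⟨(mul_mem_cancel_left (q1 ha)).mp x1, hb⟩
      rw [k, mem_bot] at this
      rwa [this, mul_one]
    · rwa [inf_eq_left.mpr (q1.trans (inf_eq_left.mp k))] at k3
  rcases hm Q key q1 with rfl | rfl
  · rw [card_bot] at q2; omega
  · omega

theorem exists_min_sc {X : Subgroup Ω} (hX : F.StronglyClosed X) (h0 : X ≠ ⊥) :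
    ∃ N, F.StronglyClosed N ∧ N ≠ ⊥ ∧ N ≤ X ∧ ∀ Y, F.StronglyClosed Y → Y ≤ N → Y = ⊥ ∨ Y = N := by
  obtain ⟨N, ⟨n1, n2, n3⟩, hm⟩ := exists_minimalFor_of_wellFoundedLT
    (fun N : Subgroup Ω => F.StronglyClosed N ∧ N ≠ ⊥ ∧ N ≤ X) (fun N => Nat.card N) ⟨X, hX, h0, le_rfl⟩
  refine ⟨N, n1, n2, n3, fun Y y1 y2 => or_iff_not_imp_left.mpr fun y3 => ?_⟩
  have := finite_of_le n1.1
  exact eq_of_le_of_card_ge y2 (hm ⟨y1, y3, y2.trans n3⟩ (card_le_of_le y2))

theorem WE.eq_bot_of_min {d : ℕ} (h : WE p F d) (hF : Sat p F) (hc : Nat.card (F.hyperfocalSubgroup p) ≤ p ^ d)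
    (hm : ∀ X, F.StronglyClosed X → X ≠ ⊥ → F.hyperfocalSubgroup p ≤ X) : F.hyperfocalSubgroup p = ⊥ := by
  have hs := hF.sc_hyp
  have := finite_of_le hs.1
  by_cases hz : S ≤ centralizer (F.hyperfocalSubgroup p : Set Ω)
  · obtain ⟨H, a1, a2, a3, a4⟩ := exists_norm_between_pow hF.pg hs.1 (sc_le_normalizer hs) hc h.lt.le
    have := finite_of_le a2
    refine le_bot_iff.mp (hyp_le_iff'.mpr fun P σ h1 h2 x hx => ?_)
    have h3 := h1.inf_sc hs
    have h4 : S ≤ centralizerIn S (P ⊓ F.hyperfocalSubgroup p) := fun s hs => ⟨hs, fun y hy => hz hs y hy.2⟩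
    obtain ⟨ρ, r1, r2⟩ := hF.extend_centralizerIn h3 (isFullyCentralized_iff.mpr ⟨h3.le, fun Q _ _ =>
      card_le_of_le ((centralizerIn_le S Q).trans h4)⟩)
    have r3 := (r1.mono (h4.trans le_sup_right)).iso_top
    obtain ⟨k, k1, k2⟩ := r3.exists_pp_pow ((h2.anti inf_le_left).congr (fun _ => h3.mem) r2)
    obtain ⟨j, hj⟩ := h.b H S (ρ ^ k) a4 a2 a3 (r3.pow k) (mem_autAll_of_mapsTo (r3.pow k).homOn a2 fun y hy => by
      have := mul_mem hy (a1 ((r3.pow k).inv_mul_mem_hyp' k1 (a2 hy)))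
      rwa [mul_inv_cancel_left] at this)
    have k3 := h2.fix_of_trivMod (hF.pg.to_le h3.le) inf_le_left (mem_trivMod.mpr ⟨h1.mem_autAll, fun y hy =>
      mem_inf.mpr ⟨mul_mem (inv_mem hy) (h1.mem hy), h1.inv_mul_mem_hyp' h2 hy⟩⟩) fun y hy => by
        rw [← r2 y hy, ← k2 y hy, mem_fixP.mp (k1.mem_of_pow le_rfl hj) y (h3.le hy)]
    rw [mem_fixP.mp k3 x hx, inv_mul_cancel]
    exact one_mem _
  refine le_bot_iff.mp (Fus2.tate hF (by rw [coe_bot, ← coe_bot, normalizer_eq_top]; exact le_top) bot_le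
    fun y hy => mem_sup_left ⟨⟨y, hs.1 hy⟩, (PGrp.mem_frattini_iff hF.pg).mpr fun M' hM => ?_, rfl⟩)
  obtain ⟨M, hM1⟩ : ∃ M, M = M'.map S.subtype := ⟨_, rfl⟩
  have m1 : M ≤ S := hM1 ▸ map_subtype_le _
  have := finite_of_le m1
  have m2 : Nat.card M * p = Nat.card S := by
    rw [hM1, card_map_of_injective S.subtype_injective, ← hM, card_mul_index]
  have m3 : F.hyperfocalSubgroup p ⊓ M ≠ ⊥ := fun k => hz fun s hs' x hx => by
    have k1 : ⁅x, s⁆ ∈ F.hyperfocalSubgroup p ⊓ M := ⟨by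
      rw [commutatorElement_def, mul_assoc, mul_assoc, ← mul_assoc s]
      exact mul_mem hx (conj_mem_of_mem_normalizer (sc_le_normalizer hs hs') (inv_mem hx)), by
      rw [hM1]
      exact ⟨⁅⟨x, hs.1 hx⟩, ⟨s, hs'⟩⁆, (PGrp.mem_frattini_iff hF.pg).mp (PGrp.commutator_le_frattini hF.pg
        (commutator_mem_commutator (mem_top _) (mem_top _))) M' hM, rfl⟩⟩
    rwa [k, mem_bot, commutatorElement_eq_one_iff_mul_comm] at k1
  obtain ⟨Q, q1, q2, q3⟩ := exists_between_pow (hF.pg.to_le m1) (inf_le_right (a := F.hyperfocalSubgroup p))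
    ((card_le_of_le inf_le_left).trans hc) (by
      obtain ⟨n, hn⟩ := IsPGroup.iff_card.1 (hF.pg.to_le m1)
      have := h.lt
      rw [← m2, hn, ← pow_succ, Nat.pow_lt_pow_iff_right hp.out.one_lt] at this
      rw [hn]
      exact Nat.pow_le_pow_right hp.out.pos (by omega))
  obtain ⟨P, k1, k2, k3⟩ := h.a Q (q2.trans m1) q3
  have key : F.hyperfocalSubgroup p ≤ Q := by
    by_cases hP : P = ⊥
    · rw [hP, sup_bot_eq] at k2
      exact hm Q k2 fun k => m3 (le_bot_iff.mp (q1.trans k.le))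
    · exact (hm _ k3 fun k => m3 (le_bot_iff.mp
        ((le_inf q1 (inf_le_left.trans (hm P k1 hP))).trans k.le))).trans inf_le_left
  have := q2 (key hy)
  rw [hM1] at this
  obtain ⟨z, hz, e⟩ := this
  rwa [show (⟨y, hs.1 hy⟩ : S) = z from Subtype.ext e.symm]

end

theorem WE.hyp_eq_bot {p : ℕ} [hp : Fact p.Prime] (n : ℕ) : ∀ {Ω : Type u} [Group Ω] {S : Subgroup Ω} [Finite S]
    (F : FusionSystem S) (d : ℕ), Nat.card S ≤ n → Sat p F → WE p F d → F.hyperfocalSubgroup p = ⊥ := by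
  induction n with
  | zero => intro Ω _ S _ F d h; exact absurd h (Nat.card_pos (α := S)).not_ge
  | succ n ih =>
    intro Ω _ S _ F d hc hF h
    have key : ∀ X, F.StronglyClosed X → X ≠ ⊥ →
        F.hyperfocalSubgroup p ≤ X ∧ Nat.card (F.hyperfocalSubgroup p) ≤ p ^ d := by
      intro X hX h0
      obtain ⟨N, n1, n2, n3, n4⟩ := exists_min_sc hX h0
      have n5 := h.card_le_of_min hF.pg n1 n4
      have := finite_of_le n1.1
      have := normal_subgroupOf_of_sc n1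
      have hk := kerA_mk' N n1.1
      obtain ⟨E, hE⟩ := exists_fac F (QuotientGroup.mk' (N.subgroupOf S)) rfl
      have := hE.finite
      obtain ⟨e, he⟩ := IsPGroup.iff_card.1 (hF.pg.to_le n1.1)
      have k : F.hyperfocalSubgroup p ≤ N := by
        rw [← hk] at n1 he ⊢
        refine hE.hyp_le_kerA hF n1 ?_
        rw [hk] at he
        rw [he, Nat.pow_le_pow_iff_right hp.out.one_lt] at n5
        obtain ⟨c, rfl⟩ := Nat.exists_eq_add_of_le' n5
        rcases Nat.eq_zero_or_pos c with rfl | h1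
        · exact h.fac_top hE n1 (by rw [hk, he, zero_add])
        · refine ih E c ?_ (hE.sat hF) (h.fac h1 hE (by rw [hk, he]))
          have k1 := Fus2.IsFac.card_mul (isFactorSystem_iff.mpr ⟨hk, hE⟩)
          have k2 := (one_lt_card_iff_ne_bot N).mpr n2
          have k3 := Nat.card_pos (α := imageAlong (QuotientGroup.mk' (N.subgroupOf S)) S)
          nlinarith
      exact ⟨k.trans n3, (card_le_of_le k).trans n5⟩
    by_cases h0 : F.hyperfocalSubgroup p = ⊥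
    · exact h0
    · exact h.eq_bot_of_min hF (key _ hF.sc_hyp h0).2 fun X h1 h2 => (key X h1 h2).1

end Cfsg.Lib.Fus
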